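import Cfsg.Agent.MitchellThree.CentFive
import Cfsg.Agent.InvolCalc.QuatCore

/-!
The centralizer acts on a normal quaternion group: modulo scalars it embeds in the symmetric group of degree four.
-/

set_option autoImplicit false
set_option linter.unusedSectionVars false

namespace Cfsg.Lib.MitchellThree.Block

open Matrix
open scoped MatrixGroups commutatorElement

universe u

/-- A quaternion generator. -/
def qi : SL(2, ZMod 3) := ⟨!![0, 1; -1, 0], by decide⟩

/-- Another one. -/
def qj : SL(2, ZMod 3) := ⟨!![1, 1; 1, -1], by decide⟩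

/-- The quaternion group in the special linear group. -/
def qf : QuaternionGroup 2 → SL(2, ZMod 3)
  | .a k => qi ^ k.val
  | .xa k => qj * qi ^ k.val

theorem qf_mul : ∀ x y, qf (x * y) = qf x * qf y := by decide +kernel

theorem qf_injective : Function.Injective qf := by decide +kernel

theorem qf_all : ∀ M : SL(2, ZMod 3), M * M * (M * M) = 1 → ∃ q, qf q = M := by decide +kernel

theorem q_four : ∀ q : QuaternionGroup 2, q ^ 4 = 1 := by decide +kernel

theorem q_pair : ¬ qf (.a 1) * qf (.xa 0) = qf (.xa 0) * qf (.a 1) := by decide +kernel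

theorem perm_squares : ∀ a b : Equiv.Perm (Fin 4), a ^ 4 = 1 → b ^ 4 = 1 → (a ^ 2 * b ^ 2) ^ 2 = 1 := by
  decide +kernel

theorem perm_odd_aux : ∀ x a : Equiv.Perm (Fin 4), ¬ ((x ^ 3 = 1 ∧ a ^ 2 = 1) ∧ (a ≠ 1 ∧ x * a = a * x) ∧ x ≠ 1) := by
  decide +kernel

theorem perm_odd (x a : Equiv.Perm (Fin 4)) (h1 : x ^ 3 = 1) (h2 : a ^ 2 = 1) (h3 : a ≠ 1) (h4 : x * a = a * x) :
    x = 1 := not_not.1 fun h => perm_odd_aux x a ⟨⟨h1, h2⟩, ⟨h3, h4⟩, h⟩

variable {F : Type u} [Field F] [Finite F] {K : Type} [Field K] [Fintype K]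

theorem CData.card_three (D : CData F K) : Fintype.card K = 3 := D.card_cases.resolve_right D.card_ne_five

/-- The finite field of three elements. -/
noncomputable def CData.fieldIso (D : CData F K) : ZMod 3 ≃+* K :=
  haveI : Fact (Nat.Prime 3) := ⟨by norm_num⟩
  ZMod.ringEquivOfPrime K Nat.prime_three D.card_three

/-- The transport of matrices. -/
noncomputable def CData.slIso (D : CData F K) : SL(2, ZMod 3) ≃* SL(2, K) :=
  { toFun := Matrix.SpecialLinearGroup.map D.fieldIso.toRingHom
    invFun := Matrix.SpecialLinearGroup.map D.fieldIso.symm.toRingHom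
    left_inv := fun g => by ext i j; simp
    right_inv := fun g => by ext i j; simp
    map_mul' := map_mul _ }

/-- The quaternion group in the quotient. -/
noncomputable def CData.q0 (D : CData F K) : QuaternionGroup 2 →* D.C ⧸ D.O :=
  D.g.comp (D.slIso.toMonoidHom.comp (MonoidHom.mk' qf qf_mul))

variable (D : CData F K)

theorem CData.q0_injective : Function.Injective D.q0 :=
  D.g_injective.comp (D.slIso.injective.comp qf_injective)

theorem CData.exists_lift (q : QuaternionGroup 2) : ∃ z : D.C, D.π z = D.q0 q ∧ z ^ 4 = 1 := by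
  obtain ⟨y, hy⟩ := QuotientGroup.mk'_surjective D.O (D.q0 q)
  obtain ⟨m, hm⟩ := D.odd_O
  have hy4 : y ^ 4 ∈ D.O := by
    rw [← QuotientGroup.eq_one_iff]
    show D.π (y ^ 4) = 1
    rw [map_pow, hy, ← map_pow, q_four, map_one]
  have hN : (y ^ 4) ^ Nat.card D.O = 1 := congrArg Subtype.val (pow_card_eq_one' (x := (⟨y ^ 4, hy4⟩ : D.O)))
  refine ⟨y ^ (Nat.card D.O * Nat.card D.O), ?_, ?_⟩
  · obtain ⟨j, hj⟩ : ∃ j, Nat.card D.O * Nat.card D.O = 4 * j + 1 := ⟨m * m + m, by rw [hm]; ring⟩
    rw [map_pow, hy, hj, pow_succ, pow_mul, ← map_pow, q_four, map_one, one_pow, one_mul]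
  · rw [← pow_mul, mul_comm, pow_mul, pow_mul, hN, one_pow]

/-- The lift. -/
noncomputable def CData.lift (q : QuaternionGroup 2) : D.C := (D.exists_lift q).choose

theorem CData.lift_spec (q : QuaternionGroup 2) : D.π (D.lift q) = D.q0 q ∧ D.lift q ^ 4 = 1 :=
  (D.exists_lift q).choose_spec

theorem CData.lift_mul (q q' : QuaternionGroup 2) : D.lift (q * q') = D.lift q * D.lift q' := by
  set o := (D.lift q * D.lift q')⁻¹ * D.lift (q * q') with ho
  have hoO : o ∈ D.O := by
    rw [← QuotientGroup.eq_one_iff]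
    show D.π o = 1
    rw [ho, map_mul, map_inv, map_mul, (D.lift_spec q).1, (D.lift_spec q').1, (D.lift_spec _).1, ← map_mul,
      inv_mul_cancel]
  have hdet : ∀ r, (D.mat (D.lift r)).det ^ 4 = 1 := fun r => by
    rw [← det_pow, ← Units.val_pow_eq_pow_val, ← SubmonoidClass.coe_pow, (D.lift_spec r).2, OneMemClass.coe_one,
      Units.val_one, det_one]
  obtain ⟨c, hc⟩ := D.O_scal hoO
  have hmat : D.mat (D.lift (q * q')) = D.mat (D.lift q) * D.mat (D.lift q') * D.mat o := by
    show _ = (((D.lift q * D.lift q' * o : D.C) : GL (Fin 2) F) : Matrix (Fin 2) (Fin 2) F)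
    rw [ho, mul_inv_cancel_left]
  have hc8 : c ^ 8 = 1 := by
    have h := hdet (q * q')
    rw [hmat, det_mul, det_mul, mul_pow, mul_pow, hdet, hdet, one_mul, one_mul, hc, det_smul, det_one, mul_one,
      Fintype.card_fin, ← pow_mul] at h
    exact h
  have hord : orderOf o ∣ 8 := orderOf_dvd_of_pow_eq_one (Subtype.ext (Units.ext (by
    rw [SubmonoidClass.coe_pow, Units.val_pow_eq_pow_val]
    show D.mat o ^ 8 = 1
    rw [hc, smul_pow, one_pow, hc8, one_smul])))
  have h1 : orderOf o = 1 := Nat.eq_one_of_dvd_coprimes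
    ((Nat.Coprime.pow_left 3 (Nat.coprime_two_left.2 D.odd_O)) : Nat.Coprime (2 ^ 3) (Nat.card D.O)) hord
    (D.O.orderOf_dvd_natCard hoO)
  exact (inv_mul_eq_one.1 (orderOf_eq_one_iff.1 h1)).symm

/-- The quaternion group in the centralizer. -/
noncomputable def CData.qhom : QuaternionGroup 2 →* D.C := MonoidHom.mk' D.lift D.lift_mul

theorem CData.qhom_injective : Function.Injective D.qhom := fun a b h => D.q0_injective (by
  rw [← (D.lift_spec a).1, ← (D.lift_spec b).1]
  exact congrArg D.π h)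

instance CData.normal_range : (D.qhom.range).Normal := by
  refine ⟨?_⟩
  rintro _ ⟨q, rfl⟩ x
  set M : SL(2, K) := D.slIso (qf q)
  have h1 : D.π (x * D.qhom q * x⁻¹) = D.g (D.act x M) := by
    rw [D.act_apply, map_mul, map_mul, map_inv]
    exact congrArg (fun t => D.π x * t * (D.π x)⁻¹) (D.lift_spec q).1
  obtain ⟨q', hq'⟩ := qf_all (D.slIso.symm (D.act x M)) (by
    have hM : M * M * (M * M) = 1 := by
      rw [← pow_two, ← pow_two, ← pow_mul, show M = (D.slIso.toMonoidHom.comp (MonoidHom.mk' qf qf_mul)) q from rfl,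
        ← map_pow, q_four, map_one]
    rw [← map_mul, ← map_mul, ← map_mul, ← map_mul, hM, map_one, map_one])
  refine ⟨q', ?_⟩
  have h2 : D.π (x * D.qhom q * x⁻¹) = D.π (D.qhom q') := by
    rw [h1, show D.act x M = D.slIso (qf q') by rw [hq', MulEquiv.apply_symm_apply]]
    exact (D.lift_spec q').1.symm
  set o := (D.qhom q')⁻¹ * (x * D.qhom q * x⁻¹)
  have hoO : o ∈ D.O := QuotientGroup.eq.1 h2.symm
  have hx4 : (x * D.qhom q * x⁻¹) ^ 4 = 1 := by rw [conj_pow, ← map_pow, q_four, map_one, mul_one, mul_inv_cancel]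
  have ho4 : o ^ 4 = 1 := by
    have hc : Commute (D.qhom q') o := (D.central_of_scal (D.O_scal hoO) _).symm
    rw [← mul_inv_cancel_left (D.qhom q') (x * D.qhom q * x⁻¹), show (D.qhom q')⁻¹ * (x * D.qhom q * x⁻¹) = o from rfl,
      hc.mul_pow, ← map_pow, q_four, map_one, one_mul] at hx4
    exact hx4
  have h1' : orderOf o = 1 := Nat.eq_one_of_dvd_coprimes
    ((Nat.Coprime.pow_left 2 (Nat.coprime_two_left.2 D.odd_O)) : Nat.Coprime (2 ^ 2) (Nat.card D.O))
    (orderOf_dvd_of_pow_eq_one ho4) (D.O.orderOf_dvd_natCard hoO)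
  exact inv_mul_eq_one.1 (orderOf_eq_one_iff.1 h1')

/-- The representation in the symmetric group of degree four. -/
noncomputable def CData.tau : D.C →* Equiv.Perm (Fin 4) :=
  (Classical.choice Cfsg.Agent.S3742.result).toMonoidHom.comp
    ((MulAut.congr (MonoidHom.ofInjective D.qhom_injective).symm).toMonoidHom.comp MulAut.conjNormal)

theorem CData.tau_ker {x : D.C} : D.tau x = 1 ↔ IsScal (D.mat x) := by
  rw [CData.tau, MonoidHom.comp_apply, MonoidHom.comp_apply, MulEquiv.coe_toMonoidHom, map_eq_one_iff _ (MulEquiv.injective _),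
    MulEquiv.coe_toMonoidHom, map_eq_one_iff _ (MulEquiv.injective _)]
  constructor
  · intro h
    have hfix : ∀ q, x * D.qhom q = D.qhom q * x := fun q => by
      have e := congrArg Subtype.val (DFunLike.congr_fun h (⟨_, q, rfl⟩ : D.qhom.range))
      rw [MulAut.conjNormal_apply, MulAut.one_apply] at e
      exact mul_inv_eq_iff_eq_mul.1 e
    refine D.scal_of_fix (hfix (.a 1)) (hfix (.xa 0)) fun e => q_pair ?_
    have e' := D.qhom_injective ((map_mul D.qhom _ _).trans (e.trans (map_mul D.qhom _ _).symm))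
    have h2 := congrArg qf e'
    rw [qf_mul, qf_mul] at h2
    exact h2
  · intro h
    refine MulEquiv.ext fun r => Subtype.ext ?_
    rw [MulAut.conjNormal_apply, D.central_of_scal h, mul_inv_cancel_right]
    rfl

theorem CData.tau_pow_scal {x : D.C} (n : ℕ) : D.tau x ^ n = 1 ↔ IsScal (D.mat (x ^ n)) := by
  rw [← map_pow, D.tau_ker]

/-- Squares of elements of order four modulo scalars generate an elementary group modulo scalars. -/
theorem CData.squares {x y : D.C} (hx : IsScal (D.mat (x ^ 4))) (hy : IsScal (D.mat (y ^ 4))) :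
    IsScal (D.mat ((x ^ 2 * y ^ 2) ^ 2)) := by
  rw [← D.tau_ker, map_pow, map_mul, map_pow, map_pow]
  exact perm_squares _ _ ((D.tau_pow_scal 4).2 hx) ((D.tau_pow_scal 4).2 hy)

/-- No non-scalar element of odd order commutes with an involution modulo scalars. -/
theorem CData.odd_commute {x a : D.C} (hx : Odd (orderOf x)) (ha : ¬ IsScal (D.mat a))
    (ha2 : IsScal (D.mat (a ^ 2))) (h : x * a = a * x) : IsScal (D.mat x) := by
  rw [← D.tau_ker]
  refine perm_odd _ (D.tau a) ?_ ((D.tau_pow_scal 2).2 ha2) (fun e => ha (D.tau_ker.1 e))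
    (by rw [← map_mul, h, map_mul])
  have h1 : orderOf (D.tau x) ∣ 8 * 3 := by
    refine (orderOf_dvd_natCard _).trans ?_
    rw [Nat.card_eq_fintype_card, Fintype.card_perm, Fintype.card_fin]
    rfl
  have h2 : Nat.Coprime (orderOf (D.tau x)) 8 :=
    (Nat.coprime_two_right.2 (hx.of_dvd_nat (orderOf_map_dvd D.tau x))).pow_right 3
  exact orderOf_dvd_iff_pow_eq_one.1 (h2.dvd_of_dvd_mul_left h1)

/-- The centre of the Sylow 2-subgroup is scalar and of index eight. -/
theorem CData.center_index : (Subgroup.center (D.S : Subgroup D.C)).index = 8 ∧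
    ∀ s ∈ Subgroup.center (D.S : Subgroup D.C), IsScal (D.mat (s : D.C)) := by
  haveI : Fact (Nat.Prime 2) := ⟨Nat.prime_two⟩
  set χ : (D.S : Subgroup D.C) →* Equiv.Perm (Fin 4) := D.tau.comp (D.S : Subgroup D.C).subtype
  have hle : χ.ker ≤ Subgroup.center (D.S : Subgroup D.C) := fun s hs => Subgroup.mem_center_iff.2 fun t =>
    Subtype.ext (D.central_of_scal (D.tau_ker.1 hs) t).symm
  have h24 : χ.ker.index ∣ 8 * 3 := by
    rw [Subgroup.index_ker]
    refine (Subgroup.card_subgroup_dvd_card χ.range).trans ?_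
    rw [Nat.card_eq_fintype_card, Fintype.card_perm, Fintype.card_fin]
    rfl
  obtain ⟨j, hj⟩ := D.S.2.index χ.ker
  have h8 : χ.ker.index ∣ 8 := by
    rw [hj] at h24 ⊢
    exact (Nat.Coprime.pow_left j (by norm_num)).dvd_of_dvd_mul_right h24
  have hd := Subgroup.index_dvd_of_le hle
  have heq : χ.ker.index = 8 :=
    le_antisymm (Nat.le_of_dvd (by norm_num) h8) (D.big.trans (Nat.le_of_dvd (Nat.pos_of_ne_zero Subgroup.index_ne_zero_of_finite) hd))
  have hc : (Subgroup.center (D.S : Subgroup D.C)).index = 8 :=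
    le_antisymm (Nat.le_of_dvd (by norm_num) (hd.trans h8)) D.big
  refine ⟨hc, fun s hs => D.tau_ker.1 (show s ∈ χ.ker from ?_)⟩
  have : χ.ker = Subgroup.center (D.S : Subgroup D.C) := by
    refine Subgroup.eq_of_le_of_card_ge hle (le_of_eq ?_)
    have h1 := χ.ker.card_mul_index
    rw [← (Subgroup.center (D.S : Subgroup D.C)).card_mul_index, heq, hc] at h1
    omega
  rw [this]
  exact hs

theorem quat_sixteen : ∀ q g : QuaternionGroup 4, q * q = 1 → g * q = q * g := by decide +kernel

theorem card_slThree : Nat.card SL(2, ZMod 3) = 24 := by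
  rw [Nat.card_eq_fintype_card]
  decide +kernel

/-- With trivial scalars beyond sign and a non-central involution the centralizer is `GL₂(3)`. -/
theorem CData.gl_two_three (hsc : ∀ x : D.C, IsScal (D.mat x) → x ^ 2 = 1)
    (hinv : ∃ s : (D.S : Subgroup D.C), s * s = 1 ∧ s ∉ Subgroup.center (D.S : Subgroup D.C)) :
    Nonempty (D.C ≃* GL (Fin 2) (ZMod 3)) := by
  haveI : Fact (Nat.Prime 2) := ⟨Nat.prime_two⟩
  have hne : D.qhom (.a 2) ≠ 1 := fun e => by
    have := D.qhom_injective (e.trans (map_one D.qhom).symm)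
    exact (by decide : (QuaternionGroup.a 2 : QuaternionGroup 2) ≠ 1) this
  have hzs : IsScal (D.mat (D.qhom (.a 2))) := by
    refine D.scal_of_fix (y := D.qhom (.a 1)) (y' := D.qhom (.xa 0)) ?_ ?_ fun e => q_pair ?_
    · rw [← map_mul, ← map_mul]; congr 1
    · rw [← map_mul, ← map_mul]; congr 1
    · have h2 := congrArg qf (D.qhom_injective ((map_mul D.qhom _ _).trans (e.trans (map_mul D.qhom _ _).symm)))
      rw [qf_mul, qf_mul] at h2
      exact h2
  have htwo : ∀ x : D.C, IsScal (D.mat x) → x = 1 ∨ x = D.qhom (.a 2) := by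
    have hval : ∀ x : D.C, IsScal (D.mat x) → D.mat x = (1 : F) • 1 ∨ D.mat x = (-1 : F) • 1 := by
      intro x hx
      obtain ⟨c, hc⟩ := hx
      have h : D.mat x ^ 2 = 1 := by
        rw [← Units.val_pow_eq_pow_val, ← SubmonoidClass.coe_pow, hsc x ⟨c, hc⟩, OneMemClass.coe_one, Units.val_one]
      rw [hc, smul_pow, one_pow] at h
      have h00 := congrFun (congrFun h 0) 0
      simp [pow_two] at h00
      rcases mul_self_eq_one_iff.1 h00 with rfl | rfl
      · exact Or.inl hc
      · exact Or.inr hc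
    intro x hx
    have hone : ∀ y : D.C, D.mat y = (1 : F) • 1 → y = 1 := fun y h =>
      Subtype.ext (Units.ext (h.trans (one_smul _ _)))
    rcases hval x hx with h | h
    · exact Or.inl (hone x h)
    · rcases hval _ hzs with h' | h'
      · exact absurd (hone _ h') hne
      · exact Or.inr (Subtype.ext (Units.ext (h.trans h'.symm)))
  have hO : D.O = ⊥ := (Subgroup.eq_bot_iff_forall _).2 fun o ho => by
    rcases htwo o (D.O_scal ho) with h | h
    · exact h
    · exfalso
      have h2 : orderOf o = 2 := orderOf_eq_prime (hsc o (D.O_scal ho)) (h ▸ hne)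
      exact Nat.not_even_iff_odd.2 D.odd_O (even_iff_two_dvd.2 (by have h3 := D.O.orderOf_dvd_natCard ho; rwa [h2] at h3))
  have hcen : Subgroup.centralizer (D.qhom.range : Set D.C) ≤ D.qhom.range := by
    intro x hx
    have h : IsScal (D.mat x) := by
      refine D.scal_of_fix (y := D.qhom (.a 1)) (y' := D.qhom (.xa 0))
        (Subgroup.mem_centralizer_iff.1 hx _ ⟨_, rfl⟩).symm (Subgroup.mem_centralizer_iff.1 hx _ ⟨_, rfl⟩).symm
        fun e => q_pair ?_
      have h2 := congrArg qf (D.qhom_injective ((map_mul D.qhom _ _).trans (e.trans (map_mul D.qhom _ _).symm)))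
      rw [qf_mul, qf_mul] at h2
      exact h2
    rcases htwo x h with rfl | rfl
    · exact one_mem _
    · exact ⟨_, rfl⟩
  rcases Cfsg.Lib.QuatCore.structure_of_quaternion_core D.qhom.range hcen
    (MonoidHom.ofInjective D.qhom_injective).symm with ⟨P, hP⟩ | h | ⟨-, -, -, hQ⟩
  · exfalso
    haveI := hP
    have hker : Nat.card D.tau.ker ∣ 2 := by
      have hle : D.tau.ker ≤ Subgroup.zpowers (D.qhom (.a 2)) := fun x hx => by
        rcases htwo x (D.tau_ker.1 hx) with rfl | rfl
        · exact one_mem _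
        · exact Subgroup.mem_zpowers _
      refine (Subgroup.card_dvd_of_le hle).trans (dvd_of_eq ?_)
      rw [Nat.card_zpowers]
      exact orderOf_eq_prime (hsc _ hzs) hne
    have h48 : Nat.card D.C ∣ 2 ^ 4 * 3 := by
      rw [← D.tau.ker.card_mul_index, Subgroup.index_ker, show 2 ^ 4 * 3 = 2 * 24 from rfl]
      refine Nat.mul_dvd_mul hker ((Subgroup.card_subgroup_dvd_card _).trans ?_)
      rw [Nat.card_eq_fintype_card, Fintype.card_perm, Fintype.card_fin]
      rfl
    have h3 : (P : Subgroup D.C).index ∣ 3 := by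
      have h := (Subgroup.index_dvd_card (P : Subgroup D.C)).trans h48
      exact ((Nat.Prime.coprime_iff_not_dvd Nat.prime_two).2 P.not_dvd_index).symm.pow_right 4 |>.dvd_of_dvd_mul_left h
    haveI : IsCyclic (D.C ⧸ (P : Subgroup D.C)) := by
      rw [Subgroup.index_eq_card] at h3
      rcases (Nat.dvd_prime Nat.prime_three).1 h3 with h' | h'
      · haveI := (Nat.card_eq_one_iff_unique.1 h').1
        exact isCyclic_of_subsingleton
      · haveI : Fact (Nat.Prime 3) := ⟨Nat.prime_three⟩
        exact isCyclic_of_prime_card h'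
    have hle : commutator D.C ≤ (P : Subgroup D.C) := by
      rw [_root_.commutator_def, Subgroup.commutator_le]
      intro a _ b _
      rw [← QuotientGroup.eq_one_iff]
      show QuotientGroup.mk' _ (⁅a, b⁆ : D.C) = 1
      rw [map_commutatorElement, commutatorElement_eq_one_iff_mul_comm]
      exact IsCyclic.commGroup.mul_comm _ _
    have h24 : 24 ∣ Nat.card (P : Subgroup D.C) := by
      refine Nat.dvd_trans ?_ (Subgroup.card_dvd_of_le hle)
      refine Nat.dvd_trans (dvd_of_eq ?_) ((commutator D.C).card_map_dvd D.π)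
      rw [_root_.commutator_def, Subgroup.map_commutator, ← MonoidHom.range_eq_map,
        MonoidHom.range_eq_top.2 (QuotientGroup.mk'_surjective D.O), ← _root_.commutator_def,
        Nat.card_congr D.iso.toEquiv, ← Nat.card_congr D.slIso.toEquiv, card_slThree]
    obtain ⟨k, hk⟩ := IsPGroup.iff_card.1 P.2
    rw [hk] at h24
    have h3' : 3 ∣ 2 := Nat.prime_three.dvd_of_dvd_pow ((Dvd.intro 8 (by norm_num) : 3 ∣ 24).trans h24)
    norm_num at h3'
  · exact h
  · exfalso
    obtain ⟨e⟩ := hQ D.S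
    obtain ⟨s, hs, hsc'⟩ := hinv
    refine hsc' (Subgroup.mem_center_iff.2 fun t => e.injective ?_)
    rw [map_mul, map_mul]
    exact quat_sixteen (e s) (e t) (by rw [← map_mul, hs, map_one])

end Cfsg.Lib.MitchellThree.Block
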