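import Cfsg.Agent.MitchellThree.Frame
import Cfsg.Agent.MitchellThree.CentThree
import Cfsg.Agent.GWDihedral.Main
import Cfsg.Agent.GWDihedral.Consumers.QGroup.Consumers
import Cfsg.Agent.S1213
import Cfsg.Agent.S1197
import Cfsg.Agent.TwoFusion.QDFusion

/-!
The centralizer of an involution of an elation-free simple subgroup with quasi-dihedral or wreathed Sylow 2-subgroups.
-/

set_option autoImplicit false
set_option linter.unusedSectionVars false

namespace Cfsg.Lib.MitchellThree

open Subgroup
open scoped MatrixGroups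

universe u v

/-- The hypotheses. -/
structure Free (F : Type u) [Field F] [Finite F] (L : Type v) [Group L] [Finite L] where
  /-- The characteristic. -/
  p : ℕ
  prime : p.Prime
  char : CharP F p
  ne_two : p ≠ 2
  simple : IsSimpleGroup L
  ncomm : ¬ IsMulCommutative L
  /-- The embedding. -/
  j : L →* PG F
  inj : Function.Injective j
  noEl : ∀ x, ¬ IsEl (j x)
  /-- A Sylow 2-subgroup. -/
  S : Sylow 2 L
  type : Cfsg.IsQuasiDihedral (S : Subgroup L) ∨ Cfsg.IsWreathed (S : Subgroup L)

variable {F : Type u} [Field F] [Finite F] {L : Type v} [Group L] [Finite L] (W : Free F L)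

theorem Free.two (W : Free F L) : (2 : F) ≠ 0 := fun e => by
  haveI := W.char
  have h : W.p ∣ 2 := (CharP.cast_eq_zero_iff F W.p 2).1 (by exact_mod_cast e)
  exact W.ne_two ((Nat.prime_dvd_prime_iff_eq W.prime Nat.prime_two).1 h)

theorem Free.index_ne_two (W : Free F L) (H : Subgroup L) : H.index ≠ 2 := by
  intro h
  haveI := W.simple
  haveI := normal_of_index_eq_two h
  rcases (inferInstance : H.Normal).eq_bot_or_eq_top with rfl | rfl
  · rw [index_bot] at h
    haveI : Fact (Nat.Prime 2) := ⟨Nat.prime_two⟩
    haveI := isCyclic_of_prime_card h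
    exact W.ncomm ⟨⟨fun a b => (IsCyclic.commGroup (α := L)).mul_comm a b⟩⟩
  · rw [index_top] at h; omega

theorem center_index_ge {S : Type v} [Group S] [Finite S]
    (h : Cfsg.IsQuasiDihedral S ∨ Cfsg.IsWreathed S) : 8 ≤ (center S).index := by
  rcases h with h | h
  · obtain ⟨m, a, b, hg⟩ := Cfsg.Lib.QD.exists_gen h
    set z := a ^ ((2 : ℤ) ^ (m - 1))
    have hle : center S ≤ zpowers z := fun c hc => by
      rcases Cfsg.Lib.QDFusion.center_eq hg hc with rfl | rfl
      · exact one_mem _
      · exact mem_zpowers _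
    have h2 : Nat.card (center S) ≤ 2 := by
      refine (card_le_of_le hle).trans ?_
      rw [Nat.card_zpowers, Cfsg.Lib.QD.orderOf_z hg]
    obtain ⟨n, hn, hcard, -⟩ := h
    have h16 : 16 ≤ Nat.card S := by
      rw [hcard]; exact le_trans (by norm_num) (Nat.pow_le_pow_right (by norm_num) (show 4 ≤ n + 1 by omega))
    have := (center S).card_mul_index
    nlinarith
  · obtain ⟨n, hn, hcard, -⟩ := id h
    have hc := (Cfsg.Agent.S1197.result h n hcard).2.1
    have := (center S).card_mul_index
    rw [hc, hcard, show 2 ^ (2 * n + 1) = 2 ^ n * 2 ^ (n + 1) by rw [← pow_add]; congr 1; omega] at this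
    rw [Nat.eq_of_mul_eq_mul_left (Nat.two_pow_pos n) this]
    exact le_trans (by norm_num) (Nat.pow_le_pow_right (by norm_num) (show 3 ≤ n + 1 by omega))

theorem center_index_congr {A : Type u} {B : Type v} [Group A] [Group B] (e : A ≃* B) :
    (center A).index = (center B).index := by
  have h : (center A).map e.toMonoidHom = center B := by
    ext b
    rw [mem_map_equiv, mem_center_iff, mem_center_iff]
    constructor
    · intro h g
      exact e.symm.injective (by rw [map_mul, map_mul]; exact h _)
    · intro h a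
      refine e.injective ?_
      rw [map_mul, map_mul, e.apply_symm_apply]
      exact h _
  rw [← h]
  exact ((center A).index_map_equiv e).symm

/-- A frame at an involution. -/
structure Frame (W : Free F L) (t : L) where
  /-- The change of coordinates. -/
  y : PG F
  /-- The linear representation of the centralizer. -/
  f : centralizer ({t} : Set L) →* GL (Fin 2) F
  inj : Function.Injective f
  spec : ∀ x, bmap (f x) = y * W.j x * y⁻¹
  neg : y * W.j t * y⁻¹ = negOne
  /-- The Sylow subgroup of the centralizer. -/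
  R : Sylow 2 (centralizer ({t} : Set L))
  type : Cfsg.IsQuasiDihedral (R : Subgroup (centralizer ({t} : Set L))) ∨
    Cfsg.IsWreathed (R : Subgroup (centralizer ({t} : Set L)))
  /-- The equivalence with the chosen Sylow subgroup. -/
  eS : (R : Subgroup (centralizer ({t} : Set L))) ≃* (W.S : Subgroup L)

theorem Free.exists_frame (W : Free F L) {t : L} (ht : orderOf t = 2) : Nonempty (Frame W t) := by
  haveI : Fact (Nat.Prime 2) := ⟨Nat.prime_two⟩
  obtain ⟨y, hy⟩ := MitchellThree.exists_frame W.two (t := W.j t) (by rw [orderOf_injective _ W.inj, ht])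
  set C := centralizer ({t} : Set L)
  let c : C →* PG F := (MulAut.conj y).toMonoidHom.comp (W.j.comp C.subtype)
  have hc : ∀ x, c x ∈ (bmap : GL (Fin 2) F →* PG F).range := by
    intro x
    obtain ⟨A, hA⟩ := exists_block W.two (y := c x) (by
      rw [← hy]
      show y * W.j x * y⁻¹ * (y * W.j t * y⁻¹) = y * W.j t * y⁻¹ * (y * W.j x * y⁻¹)
      rw [conj_mul, conj_mul, ← map_mul, ← map_mul, mem_centralizer_singleton_iff.1 x.2])
    exact ⟨A, hA⟩
  let f : C →* GL (Fin 2) F :=
    (MonoidHom.ofInjective bmap_injective).symm.toMonoidHom.comp (c.codRestrict _ hc)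
  have hf : ∀ x, bmap (f x) = y * W.j x * y⁻¹ := fun x =>
    congrArg Subtype.val ((MonoidHom.ofInjective (f := (bmap : GL (Fin 2) F →* PG F)) bmap_injective).apply_symm_apply
      (c.codRestrict _ hc x))
  have hfi : Function.Injective f := fun a b e => by
    have h : y * W.j a * y⁻¹ = y * W.j b * y⁻¹ := by rw [← hf, ← hf, e]
    exact Subtype.ext (W.inj (mul_left_cancel (mul_right_cancel h)))
  obtain ⟨R, hR, -⟩ := Cfsg.Agent.S1213.result W.S W.type W.index_ne_two t ht
  set R₁ := (R : Subgroup C).map C.subtype
  obtain ⟨T, hT⟩ := (R.2.map C.subtype : IsPGroup 2 R₁).exists_le_sylow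
  obtain ⟨g, hg⟩ := MulAction.exists_smul_eq L W.S T
  have hcT : Nat.card (T : Subgroup L) = Nat.card (W.S : Subgroup L) := by
    rw [← hg]; exact (Nat.card_congr (W.S.equivSMul g).toEquiv).symm
  have hT' : R₁ = (T : Subgroup L) := Subgroup.eq_of_le_of_card_ge hT
    (by rw [hcT, card_map_of_injective C.subtype_injective]; exact hR.ge)
  let eS : (R : Subgroup C) ≃* (W.S : Subgroup L) :=
    ((R : Subgroup C).equivMapOfInjective _ C.subtype_injective).trans ((MulEquiv.subgroupCongr hT').trans
      ((W.S.equivSMul g).trans (MulEquiv.subgroupCongr (congrArg Sylow.toSubgroup hg))).symm)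
  exact ⟨⟨y, f, hfi, hf, hy, R, Cfsg.Lib.GWD.qd_or_wreathed_congr eS.symm W.type, eS⟩⟩

variable {W} {t : L}

/-- The centralizer data of a frame. -/
theorem Frame.exists_data (P : Frame W t) (ht : orderOf t = 2) :
    ∃ (K : Type) (_ : Field K) (_ : Fintype K) (D : Block.CData F K), D.C = P.f.range ∧
      (D.S : Subgroup D.C).map D.C.subtype = (P.R : Subgroup (centralizer ({t} : Set L))).map P.f := by
  haveI : Fact (Nat.Prime 2) := ⟨Nat.prime_two⟩
  haveI := Fact.mk W.prime
  haveI := W.char
  obtain ⟨K, iK, iK', hodd, ⟨e⟩⟩ := Cfsg.Lib.GWD.derived_centralizer Cfsg.Lib.GWD.dihedralProp W.S W.type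
    W.index_ne_two t ht
  let ef := MonoidHom.ofInjective P.inj
  let q : (centralizer ({t} : Set L) ⧸ Cfsg.oddCore _) ≃* (P.f.range ⧸ Cfsg.oddCore P.f.range) :=
    QuotientGroup.congr _ _ ef (Cfsg.Lib.Components.pPrimeCore_map_equiv (p := 2) ef)
  have hq : (commutator (centralizer ({t} : Set L) ⧸ Cfsg.oddCore _)).map q.toMonoidHom = commutator _ := by
    rw [_root_.commutator_def, map_commutator, ← MonoidHom.range_eq_map, MonoidHom.range_eq_top.2 (show Function.Surjective q.toMonoidHom from q.surjective)]
    rfl
  let R' := P.R.mapSurjective (f := ef.toMonoidHom) ef.surjective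
  have eR : (R' : Subgroup P.f.range) ≃* (P.R : Subgroup (centralizer ({t} : Set L))) :=
    (((P.R : Subgroup _).equivMapOfInjective _ ef.injective).trans
      (MulEquiv.subgroupCongr (Sylow.coe_mapSurjective ef.surjective P.R).symm)).symm
  have hcop : (Nat.card P.f.range : F) ≠ 0 := cop_of_noEl (p := W.p) P.f.range fun A ⟨x, hx⟩ => by
    rw [← hx, P.spec]; exact fun h => W.noEl _ h.of_conj
  refine ⟨K, iK, iK',
    { C := P.f.range
      two := W.two
      cop := hcop
      S := R'
      big := by rw [center_index_congr eR]; exact center_index_ge P.type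
      odd := hodd
      iso := ((MulEquiv.subgroupCongr hq.symm).trans
        ((commutator _).equivMapOfInjective q.toMonoidHom q.injective).symm).trans e }, rfl, ?_⟩
  show (R' : Subgroup P.f.range).map P.f.range.subtype = _
  rw [show (R' : Subgroup P.f.range) = (P.R : Subgroup (centralizer ({t} : Set L))).map ef.toMonoidHom from
    Sylow.coe_mapSurjective ef.surjective P.R, map_map]
  rfl

end Cfsg.Lib.MitchellThree
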