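import Cfsg.Agent.MitchellThree.GLTwo
import Cfsg.Agent.Components.PComponents
import Cfsg.Prelude.Def_CaseTheorems

/-!
A finite subgroup of `GL₂` of order prime to the characteristic whose derived subgroup modulo the odd core is a special
linear group over a field of odd order: the odd core is scalar and the field has three or five elements.
-/

set_option autoImplicit false
set_option linter.unusedSectionVars false

namespace Cfsg.Lib.MitchellThree.Block

open Matrix
open scoped MatrixGroups commutatorElement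

universe u

variable {F : Type u} [Field F] [Finite F]

/-- The hypotheses on a centralizer. -/
structure CData (F : Type u) [Field F] [Finite F] (K : Type) [Field K] [Fintype K] where
  /-- The group. -/
  C : Subgroup (GL (Fin 2) F)
  two : (2 : F) ≠ 0
  cop : (Nat.card C : F) ≠ 0
  /-- The Sylow subgroup. -/
  S : Sylow 2 C
  big : 8 ≤ (Subgroup.center (S : Subgroup C)).index
  odd : Odd (Fintype.card K)
  /-- The derived subgroup modulo the odd core. -/
  iso : commutator (C ⧸ Cfsg.oddCore C) ≃* SL(2, K)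

variable {K : Type} [Field K] [Fintype K] (D : CData F K)

/-- The odd core. -/
abbrev CData.O : Subgroup D.C := Cfsg.oddCore D.C

/-- The projection. -/
abbrev CData.π : D.C →* D.C ⧸ D.O := QuotientGroup.mk' D.O

/-- The special linear group inside the quotient. -/
def CData.g : SL(2, K) →* D.C ⧸ D.O := (commutator (D.C ⧸ D.O)).subtype.comp D.iso.symm.toMonoidHom

/-- The matrix of an element. -/
abbrev CData.mat (x : D.C) : Matrix (Fin 2) (Fin 2) F := ((x : GL (Fin 2) F) : Matrix (Fin 2) (Fin 2) F)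

theorem CData.g_injective : Function.Injective D.g :=
  (commutator (D.C ⧸ D.O)).subtype_injective.comp D.iso.symm.injective

theorem CData.cop_dvd {n : ℕ} (h : n ∣ Nat.card D.C) : (n : F) ≠ 0 := fun e => by
  obtain ⟨k, hk⟩ := h
  exact D.cop (by rw [hk, Nat.cast_mul, e, zero_mul])

theorem CData.odd_O : Odd (Nat.card D.O) :=
  Nat.coprime_two_right.1 (Cfsg.Lib.Components.coprime_card_pPrimeCore 2)

theorem two_ne_K (D : CData F K) : (2 : K) ≠ 0 := fun e => by
  have hd : ringChar K ∣ 2 := (ringChar.spec K 2).1 (by exact_mod_cast e)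
  haveI := ringChar.charP K
  rcases (Nat.dvd_prime Nat.prime_two).1 hd with h | h
  · exact (CharP.ringChar_ne_one (R := K)) h
  · have := FiniteField.even_card_of_char_two h
    exact Nat.not_even_iff_odd.2 D.odd (Nat.even_iff.2 this)

/-- Unipotent elements. -/
def un (a : K) : SL(2, K) := ⟨!![1, a; 0, 1], by simp [det_fin_two]⟩

/-- The Weyl element. -/
def we : SL(2, K) := ⟨!![0, 1; -1, 0], by simp [det_fin_two]⟩

theorem un_add (a b : K) : un (a + b) = un a * un b := by
  refine Subtype.ext ?_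
  show !![1, a + b; 0, 1] = !![1, a; 0, 1] * !![1, b; 0, 1]
  ext i j; fin_cases i <;> fin_cases j <;> simp [Matrix.mul_apply, Fin.sum_univ_two, add_comm]

theorem un_we {a : K} (h : un a * we = we * un a) : a = 0 := by
  have e := congrArg (fun M : SL(2, K) => (M : Matrix (Fin 2) (Fin 2) K) 0 0) h
  simp only [Matrix.SpecialLinearGroup.coe_mul] at e
  simp [un, we, Matrix.mul_apply] at e
  exact e

/-- A scalar element is central. -/
theorem CData.central_of_scal {x : D.C} (hx : IsScal (D.mat x)) (y : D.C) : x * y = y * x := by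
  obtain ⟨c, hc⟩ := hx
  refine Subtype.ext (Units.ext ?_)
  show D.mat x * D.mat y = D.mat y * D.mat x
  rw [hc, Matrix.smul_mul, Matrix.one_mul, Matrix.mul_smul, Matrix.mul_one]

theorem CData.g_comm_of_scal {x : D.C} (hx : IsScal (D.mat x)) {M : SL(2, K)} (h : D.π x = D.g M) (N : SL(2, K)) :
    M * N = N * M := by
  obtain ⟨y, hy⟩ := QuotientGroup.mk'_surjective D.O (D.g N)
  refine D.g_injective ?_
  rw [map_mul, map_mul, ← h, ← hy, ← map_mul, ← map_mul, D.central_of_scal hx]

theorem pow_card_scal (x : D.C) : D.mat x ^ Nat.card D.C = (1 : F) • 1 := by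
  rw [one_smul, ← Units.val_pow_eq_pow_val, ← SubmonoidClass.coe_pow, pow_card_eq_one', OneMemClass.coe_one,
    Units.val_one]

theorem CData.O_scal {o : D.C} (ho : o ∈ D.O) : IsScal (D.mat o) := by
  by_contra hns
  have hcomm : ∀ a ∈ D.O, ∀ b ∈ D.O, a * b = b * a := fun a ha b hb => by
    have hco : (Nat.card (D.O.map D.C.subtype) : F) ≠ 0 := by
      rw [Subgroup.card_map_of_injective D.C.subtype_injective]
      exact D.cop_dvd D.O.card_subgroup_dvd_card
    refine Subtype.ext (comm_of_odd D.two (D.O.map D.C.subtype) ?_ hco a ⟨a, ha, rfl⟩ b ⟨b, hb, rfl⟩)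
    rw [Subgroup.card_map_of_injective D.C.subtype_injective]; exact D.odd_O
  haveI : D.O.Normal := inferInstanceAs (Cfsg.pPrimeCore 2 D.C).Normal
  set Z := Subgroup.centralizer ({o} : Set D.C) with hZ
  have hconj : ∀ x : D.C, x ∈ Z ∨ D.mat (x * o * x⁻¹) = (D.mat o).trace • 1 - D.mat o := by
    intro x
    rcases conj_options D.two (a := (o : GL (Fin 2) F)) (x := (x : GL (Fin 2) F)) hns D.cop (pow_card_scal D o)
      (congrArg Subtype.val (hcomm o ho (x * o * x⁻¹) (‹D.O.Normal›.conj_mem o ho x))) with e | e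
    · exact Or.inl (Subgroup.mem_centralizer_singleton_iff.2 (Subtype.ext (mul_inv_eq_iff_eq_mul.1 e)))
    · exact Or.inr e
  have hmul : ∀ x y : D.C, x ∉ Z → y ∉ Z → x⁻¹ * y ∈ Z := fun x y hx hy => by
    have e : x * o * x⁻¹ = y * o * y⁻¹ :=
      Subtype.ext (Units.ext (((hconj x).resolve_left hx).trans ((hconj y).resolve_left hy).symm))
    rw [Subgroup.mem_centralizer_singleton_iff]
    calc x⁻¹ * y * o = x⁻¹ * (y * o * y⁻¹) * y := by group
      _ = o * (x⁻¹ * y) := by rw [← e]; group
  have hsub : commutator D.C ≤ Z := by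
    rw [_root_.commutator_def, Subgroup.commutator_le]
    intro x _ y _
    show x * y * x⁻¹ * y⁻¹ ∈ Z
    have hinv : ∀ u : D.C, u ∉ Z → u⁻¹ ∉ Z := fun u hu h => hu (by simpa using Z.inv_mem h)
    have hmul' : ∀ u v : D.C, u ∉ Z → v ∉ Z → u * v ∈ Z := fun u v hu hv => by
      simpa using hmul _ v (hinv u hu) hv
    by_cases hx : x ∈ Z <;> by_cases hy : y ∈ Z
    · exact Z.mul_mem (Z.mul_mem (Z.mul_mem hx hy) (Z.inv_mem hx)) (Z.inv_mem hy)
    · have : x * y ∉ Z := fun h => hy ((Z.mul_mem_cancel_left hx).1 h)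
      have h2 : x⁻¹ * y⁻¹ ∉ Z := fun h => hinv y hy ((Z.mul_mem_cancel_left (Z.inv_mem hx)).1 h)
      rw [mul_assoc (x * y)]; exact hmul' _ _ this h2
    · have : x * y ∉ Z := fun h => hx ((Z.mul_mem_cancel_right hy).1 h)
      have h2 : x⁻¹ * y⁻¹ ∉ Z := fun h => hinv x hx ((Z.mul_mem_cancel_right (Z.inv_mem hy)).1 h)
      rw [mul_assoc (x * y)]; exact hmul' _ _ this h2
    · rw [mul_assoc (x * y)]
      exact Z.mul_mem (hmul' x y hx hy) (hmul' _ _ (hinv x hx) (hinv y hy))
  have hab : ∀ a ∈ commutator D.C, ∀ b ∈ commutator D.C, a * b = b * a := fun a ha b hb =>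
    Subtype.ext (Units.ext (comm_of_commute hns
      (congrArg (fun z : D.C => D.mat z) (Subgroup.mem_centralizer_singleton_iff.1 (hsub ha))).symm
      (congrArg (fun z : D.C => D.mat z) (Subgroup.mem_centralizer_singleton_iff.1 (hsub hb))).symm))
  have hg : ∀ M : SL(2, K), ∃ x ∈ commutator D.C, D.π x = D.g M := by
    intro M
    have h : D.g M ∈ (commutator D.C).map D.π := by
      rw [_root_.commutator_def, Subgroup.map_commutator, ← MonoidHom.range_eq_map,
        MonoidHom.range_eq_top.2 (QuotientGroup.mk'_surjective D.O)]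
      exact (D.iso.symm M).2
    exact h
  obtain ⟨x, hx, hxM⟩ := hg (un 1)
  obtain ⟨y, hy, hyM⟩ := hg we
  refine one_ne_zero (un_we (a := (1 : K)) (D.g_injective ?_))
  rw [map_mul, map_mul, ← hxM, ← hyM, ← map_mul, ← map_mul, hab x hx y hy]

theorem CData.eq_mul_scal {x y : D.C} (h : D.π x = D.π y) : ∃ c : F, D.mat y = c • D.mat x := by
  obtain ⟨c, hc⟩ := D.O_scal (QuotientGroup.eq.1 h)
  refine ⟨c, ?_⟩
  show D.mat y = c • D.mat x
  rw [show y = x * (x⁻¹ * y) from (mul_inv_cancel_left x y).symm]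
  show D.mat x * D.mat (x⁻¹ * y) = _
  rw [hc, Matrix.mul_smul, Matrix.mul_one]

/-- A conjugate proportional to a power gives a congruence on the eigenvalue ratio. -/
theorem no_power {x z : D.C} {k n : ℕ} (hn : n.Prime) (hns : ¬ IsScal (D.mat x)) (hxn : IsScal (D.mat (x ^ n)))
    (hnd : n ∣ Nat.card D.C) {c : F} (h : D.mat (z * x * z⁻¹) = c • D.mat (x ^ k)) :
    k % n = 1 % n ∨ (k + 1) % n = 0 := by
  obtain ⟨R⟩ := exists_roots (algebraMap F (AlgebraicClosure F)) D.two (D.mat x)
  obtain ⟨c', hc'⟩ := hxn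
  simp only [CData.mat, SubmonoidClass.coe_pow, Units.val_pow_eq_pow_val, Subgroup.coe_mul, Subgroup.coe_inv,
    Units.val_mul] at h hc'
  set X := ((x : GL (Fin 2) F) : Matrix (Fin 2) (Fin 2) F)
  set ι := algebraMap F (AlgebraicClosure F)
  have hd : X.det ≠ 0 := (Matrix.isUnits_det_units (x : GL (Fin 2) F)).ne_zero
  obtain ⟨hab, hpow⟩ := R.of_pow D.two hd (D.cop_dvd hnd) hc' hns
  have ht : R.a + R.b = ι c * (R.a ^ k + R.b ^ k) := by
    rw [← R.pow_trace, R.sum, ← map_mul, ← smul_eq_mul, ← trace_smul, ← h, trace_conj]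
  have hp : R.a * R.b = ι c ^ 2 * (R.a ^ k * R.b ^ k) := by
    have e := congrArg (fun M : Matrix (Fin 2) (Fin 2) F => ι M.det) h
    simp only [det_conj] at e
    rw [det_smul, Fintype.card_fin, det_pow, map_mul, map_pow, map_pow, ← R.prod, mul_pow] at e
    exact e
  have ha := (R.ne_zero hd).1
  have hb := (R.ne_zero hd).2
  set ρ := R.a / R.b with hρ
  have hρ0 : ρ ≠ 0 := div_ne_zero ha hb
  have hρ1 : ρ ≠ 1 := fun e => hab ((div_eq_one_iff_eq hb).1 e)
  haveI := Fact.mk hn
  have hord : orderOf ρ = n := orderOf_eq_prime (by rw [hρ, div_pow, hpow, div_self (pow_ne_zero _ hb)]) hρ1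
  have hc0 : ι c ≠ 0 := fun e => mul_ne_zero ha hb (by rw [hp, e]; ring)
  rcases mul_eq_zero.1 (show (ι c * R.a ^ k - R.a) * (ι c * R.a ^ k - R.b) = 0 by
      linear_combination (-(ι c * R.a ^ k)) * ht + hp) with e | e
  · left
    have e' : ι c * R.b ^ k = R.b := by linear_combination -ht - e
    have hk : ρ ^ k = ρ ^ 1 := by
      rw [pow_one, hρ, div_pow, ← mul_div_mul_left (R.a ^ k) (R.b ^ k) hc0, sub_eq_zero.1 e, e']
    rw [← pow_mod_orderOf, ← pow_mod_orderOf ρ 1] at hk
    have h2 := pow_injOn_Iio_orderOf (Nat.mod_lt k (hord ▸ hn.pos)) (Nat.mod_lt 1 (hord ▸ hn.pos)) hk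
    rwa [hord] at h2
  · right
    have e' : ι c * R.b ^ k = R.a := by linear_combination -ht - e
    have hk : ρ ^ (k + 1) = 1 := by
      rw [pow_succ, hρ, div_pow, ← mul_div_mul_left (R.a ^ k) (R.b ^ k) hc0, sub_eq_zero.1 e, e', div_mul_div_cancel₀ ha,
        div_self hb]
    exact Nat.mod_eq_zero_of_dvd (hord ▸ orderOf_dvd_of_pow_eq_one hk)

/-- The field has three or five elements. -/
theorem CData.card_cases (D : CData F K) : Fintype.card K = 3 ∨ Fintype.card K = 5 := by
  classical
  obtain ⟨r, hr⟩ := CharP.exists K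
  haveI := hr
  obtain ⟨⟨b, hb0⟩, hrp, hb⟩ := FiniteField.card K r
  simp only [PNat.mk_coe] at hb
  haveI : Fact r.Prime := ⟨hrp⟩
  have hr2 : r ≠ 2 := fun e => two_ne_K D (by
    have := CharP.cast_eq_zero K r; rw [e] at this; exact_mod_cast this)
  let uh : Multiplicative K →* D.C ⧸ D.O :=
    { toFun := fun a => D.g (un a.toAdd)
      map_one' := by
        rw [show un (Multiplicative.toAdd (1 : Multiplicative K)) = 1 from Subtype.ext (by
          show !![1, (0 : K); 0, 1] = 1
          rw [Matrix.one_fin_two]), map_one]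
      map_mul' := fun a b => by rw [toAdd_mul, un_add, map_mul] }
  set P := uh.range.comap D.π with hP
  have huinj : Function.Injective uh := fun a a' e => by
    have h := congrArg (fun M : SL(2, K) => (M : Matrix (Fin 2) (Fin 2) K) 0 1) (D.g_injective e)
    simpa [un] using h
  have hcardP : Nat.card P = Nat.card D.O * Fintype.card K := by
    have h1 := P.card_mul_index
    rw [hP, Subgroup.index_comap_of_surjective _ (QuotientGroup.mk'_surjective D.O)] at h1
    have h2 := uh.range.card_mul_index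
    have h3 := D.O.card_mul_index
    rw [Nat.card_congr (MonoidHom.ofInjective huinj).toEquiv.symm, Nat.card_congr Multiplicative.toAdd,
      Nat.card_eq_fintype_card (α := K), ← Subgroup.index_eq_card] at h2
    refine Nat.eq_of_mul_eq_mul_right (Nat.pos_of_ne_zero Subgroup.index_ne_zero_of_finite) (h1.trans ?_)
    rw [mul_assoc, h2, h3]
  have hPc : ∀ x ∈ P, ∀ y ∈ P, D.mat x * D.mat y = D.mat y * D.mat x := by
    intro x hx y hy
    have hco : (Nat.card (P.map D.C.subtype) : F) ≠ 0 := by
      rw [Subgroup.card_map_of_injective D.C.subtype_injective]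
      exact D.cop_dvd P.card_subgroup_dvd_card
    have h := comm_of_odd D.two (P.map D.C.subtype)
      (by rw [Subgroup.card_map_of_injective D.C.subtype_injective, hcardP]; exact D.odd_O.mul D.odd) hco
      x ⟨x, hx, rfl⟩ y ⟨y, hy, rfl⟩
    exact congrArg Units.val h
  have hlift : ∀ a : K, ∃ x : D.C, D.π x = D.g (un a) := fun a => QuotientGroup.mk'_surjective _ _
  choose u hu using hlift
  have huP : ∀ a, u a ∈ P := fun a => ⟨Multiplicative.ofAdd a, (hu a).symm⟩
  have hns : ¬ IsScal (D.mat (u 1)) := fun h => one_ne_zero (un_we (D.g_comm_of_scal h (hu 1) we))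
  have hpow : ∀ a : K, IsScal (D.mat (u a ^ r)) := by
    intro a
    refine D.O_scal ?_
    rw [← QuotientGroup.eq_one_iff]
    show D.π (u a ^ r) = 1
    rw [map_pow, hu, show D.g (un a) = uh (Multiplicative.ofAdd a) from rfl, ← map_pow, ← ofAdd_nsmul, nsmul_eq_mul,
      CharP.cast_eq_zero, zero_mul, ofAdd_zero, map_one]
  have hrd : r ∣ Nat.card D.C :=
    ((dvd_pow_self r hb0.ne').trans (hb ▸ hcardP ▸ dvd_mul_left _ _)).trans P.card_subgroup_dvd_card
  -- the torus element
  have hr35 : r = 3 ∨ r = 5 := by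
    have h2K := two_ne_K D
    let t : SL(2, K) := ⟨!![2, 0; 0, 2⁻¹], by simp [det_fin_two, h2K]⟩
    have ht : t * un 1 * t⁻¹ = un 1 ^ 4 := by
      rw [mul_inv_eq_iff_eq_mul, show (4 : ℕ) = 1 + 1 + 1 + 1 from rfl, pow_succ, pow_succ, pow_succ, pow_one,
        ← un_add, ← un_add, ← un_add]
      refine Subtype.ext ?_
      show !![2, 0; 0, 2⁻¹] * !![1, 1; 0, 1] = !![1, (1 : K) + 1 + 1 + 1; 0, 1] * !![2, 0; 0, 2⁻¹]
      ext i j
      fin_cases i <;> fin_cases j <;> simp [Matrix.mul_apply, Fin.sum_univ_two]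
      field_simp; ring
    obtain ⟨z, hz⟩ := QuotientGroup.mk'_surjective D.O (D.g t)
    obtain ⟨c, hc⟩ := D.eq_mul_scal (x := u 1 ^ 4) (y := z * u 1 * z⁻¹)
      (by rw [map_pow, map_mul, map_mul, map_inv, hz, hu, ← map_inv, ← map_mul, ← map_mul, ht, map_pow])
    rcases no_power D hrp hns (hpow 1) hrd hc with h | h
    · left
      have h3 : r ∣ 4 - 1 := (Nat.modEq_iff_dvd' (by norm_num)).1 h.symm
      exact (Nat.prime_dvd_prime_iff_eq hrp Nat.prime_three).1 h3
    · right
      exact (Nat.prime_dvd_prime_iff_eq hrp (by norm_num)).1 (Nat.dvd_of_mod_eq_zero h)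
  -- the rank
  set ι := algebraMap F (AlgebraicClosure F)
  obtain ⟨R⟩ := exists_roots ι D.two (D.mat (u 1))
  obtain ⟨c1, hc1⟩ := hpow 1
  have hd : ∀ x : D.C, (D.mat x).det ≠ 0 := fun x => (Matrix.isUnits_det_units (x : GL (Fin 2) F)).ne_zero
  have hab : R.a ≠ R.b := (R.of_pow D.two (hd _) (D.cop_dvd hrd) (c := c1)
    (by rw [← hc1]; show _ = D.mat (u 1 ^ r); simp [CData.mat]) hns).1
  have hlin : ∀ a, ∃ αβ : F × F, D.mat (u a) = αβ.1 • 1 + αβ.2 • D.mat (u 1) := fun a => by
    obtain ⟨α, β, h⟩ := exists_lin hns (hPc _ (huP 1) _ (huP a))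
    exact ⟨(α, β), h⟩
  choose co hco using hlin
  set va : K → AlgebraicClosure F := fun a => ι (co a).1 + ι (co a).2 * R.a with hva
  set vb : K → AlgebraicClosure F := fun a => ι (co a).1 + ι (co a).2 * R.b with hvb
  have hsum : ∀ a, va a + vb a = ι (D.mat (u a)).trace := fun a => by
    have h := congrArg (fun M : Matrix (Fin 2) (Fin 2) F => ι M.trace) (hco a)
    simp only [trace_add, trace_smul, trace_one, Fintype.card_fin, smul_eq_mul, map_add, map_mul, map_natCast] at h
    rw [h, hva, hvb, ← R.sum]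
    push_cast
    ring
  have hprod : ∀ a, va a * vb a = ι (D.mat (u a)).det := fun a => by
    have h : (D.mat (u a)).det =
        (co a).1 * (co a).1 + (co a).1 * (co a).2 * (D.mat (u 1)).trace + (co a).2 * (co a).2 * (D.mat (u 1)).det := by
      rw [hco a]; simp [trace_fin_two, det_fin_two]; ring
    rw [h, hva, hvb, map_add, map_add, map_mul, map_mul, map_mul, map_mul, map_mul, ← R.sum, ← R.prod]
    ring
  have hvb0 : ∀ a, vb a ≠ 0 := fun a e => by
    have := hprod a
    rw [e, mul_zero, eq_comm, map_eq_zero] at this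
    exact hd _ this
  have hroot : ∀ a, (va a / vb a) ^ r = 1 := by
    intro a
    by_cases hs : IsScal (D.mat (u a))
    · have hb2 : (co a).2 = 0 := by
        by_contra hne
        obtain ⟨s, hs⟩ := hs
        refine hns ⟨(co a).2⁻¹ * (s - (co a).1), ?_⟩
        rw [← smul_smul, sub_smul, ← hs, hco a, add_sub_cancel_left, smul_smul, inv_mul_cancel₀ hne, one_smul]
      have : va a = vb a := by simp only [hva, hvb, hb2, map_zero, zero_mul]
      rw [this, div_self (hvb0 a), one_pow]
    · obtain ⟨c, hc⟩ := hpow a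
      have h := (Roots.of_pow ⟨va a, vb a, hsum a, hprod a⟩ D.two (hd _) (D.cop_dvd hrd) (c := c)
        (by rw [← hc]; show _ = D.mat (u a ^ r); simp [CData.mat]) hs).2
      rw [div_pow, show va a ^ r = vb a ^ r from h, div_self (pow_ne_zero _ (hvb0 a))]
  set f : K → {z : AlgebraicClosure F // z ∈ (Polynomial.nthRoots r (1 : AlgebraicClosure F)).toFinset} := fun a =>
    ⟨va a / vb a, by rw [Multiset.mem_toFinset, Polynomial.mem_nthRoots hrp.pos]; exact hroot a⟩
  have hf : Function.Injective f := by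
    intro a a' e
    have e1 : va a / vb a = va a' / vb a' := congrArg Subtype.val e
    rw [div_eq_div_iff (hvb0 a) (hvb0 a')] at e1
    have e2 : (co a).1 * (co a').2 = (co a').1 * (co a).2 := by
      refine ι.injective (mul_right_cancel₀ (sub_ne_zero.2 hab.symm) ?_)
      simp only [map_mul]
      simp only [hva, hvb] at e1
      linear_combination e1
    have hpi : D.π ((u a)⁻¹ * u a') = D.g (un (a' - a)) := by
      rw [map_mul, map_inv, hu, hu, ← map_inv, ← map_mul]
      congr 1
      rw [inv_mul_eq_iff_eq_mul, ← un_add, add_sub_cancel]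
    refine (sub_eq_zero.1 (un_we (D.g_comm_of_scal ?_ hpi we))).symm
    obtain ⟨k, hk⟩ : ∃ k : F, D.mat (u a') = k • D.mat (u a) := by
      by_cases h0 : (co a).2 = 0
      · have h1 : (co a).1 ≠ 0 := fun e' => hvb0 a (by simp only [hvb, h0, e', map_zero, zero_mul, add_zero])
        have h2 : (co a').2 = 0 := by
          rw [h0, mul_zero] at e2
          exact (mul_eq_zero.1 e2).resolve_left h1
        exact ⟨(co a').1 / (co a).1, by
          rw [hco a', hco a, h0, h2, zero_smul, add_zero, add_zero, smul_smul, div_mul_cancel₀ _ h1]⟩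
      · refine ⟨(co a').2 / (co a).2, ?_⟩
        rw [hco a', hco a, smul_add, smul_smul, smul_smul, div_mul_cancel₀ _ h0, div_mul_eq_mul_div, mul_comm (co a').2,
          e2, mul_div_assoc, div_self h0, mul_one]
    refine ⟨k, ?_⟩
    show D.mat (u a)⁻¹ * D.mat (u a') = k • 1
    rw [hk, Matrix.mul_smul]
    congr 1
    exact congrArg (fun z : D.C => D.mat z) (inv_mul_cancel (u a))
  have hle : Fintype.card K ≤ r := by
    rw [← Nat.card_eq_fintype_card (α := K)]
    refine (Nat.card_le_card_of_injective f hf).trans ?_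
    rw [Nat.card_eq_finsetCard]
    exact (Multiset.toFinset_card_le _).trans (Polynomial.card_nthRoots r 1)
  have : Fintype.card K = r := le_antisymm hle (hb ▸ Nat.le_self_pow hb0.ne' r)
  omega

end Cfsg.Lib.MitchellThree.Block
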