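import Cfsg.Agent.MitchellThree.CentCore
import Cfsg.Agent.Known.AutPSLn.Basic
import Cfsg.Agent.Classical.Misc.SmallPSL
import Cfsg.Agent.S2119

/-!
The field of the derived subgroup of the centralizer does not have five elements.
-/

set_option autoImplicit false
set_option linter.unusedSectionVars false

namespace Cfsg.Lib.MitchellThree.Block

open Matrix Equiv
open scoped MatrixGroups commutatorElement

universe u

variable {F : Type u} [Field F] [Finite F] {K : Type} [Field K] [Fintype K] (D : CData F K)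

/-- Conjugation of the quotient on its derived subgroup, read in the special linear group. -/
noncomputable def CData.act : D.C →* MulAut SL(2, K) :=
  ((MulAut.congr D.iso).toMonoidHom.comp MulAut.conjNormal).comp D.π

theorem CData.act_apply (x : D.C) (M : SL(2, K)) : D.g (D.act x M) = D.π x * D.g M * (D.π x)⁻¹ := by
  show ((D.iso.symm (D.iso (MulAut.conjNormal (D.π x) (D.iso.symm M)))) : D.C ⧸ D.O) = _
  rw [D.iso.symm_apply_apply, MulAut.conjNormal_apply]
  rfl

theorem CData.det_mat_commutator (x y : D.C) : (D.mat (x * y * x⁻¹ * y⁻¹)).det = 1 := by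
  show ((((x * y * x⁻¹ * y⁻¹ : D.C) : GL (Fin 2) F)) : Matrix (Fin 2) (Fin 2) F).det = 1
  have h : Matrix.GeneralLinearGroup.det (((x * y * x⁻¹ * y⁻¹ : D.C) : GL (Fin 2) F)) = 1 := by
    simp only [Subgroup.coe_mul, Subgroup.coe_inv, map_mul, map_inv, mul_inv_cancel_comm, mul_inv_cancel]
  exact congrArg Units.val h

theorem CData.commute_of_fix {x y : D.C} (h : D.π x * D.π y * (D.π x)⁻¹ = D.π y) : x * y = y * x := by
  have hm : x * y * x⁻¹ * y⁻¹ ∈ D.O := by
    rw [← QuotientGroup.eq_one_iff]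
    show D.π (x * y * x⁻¹ * y⁻¹) = 1
    rw [map_mul, map_mul, map_mul, map_inv, map_inv, h, mul_inv_cancel]
  have hodd : Odd (orderOf ((x * y * x⁻¹ * y⁻¹ : D.C) : GL (Fin 2) F)) := by
    rw [Subgroup.orderOf_coe]; exact D.odd_O.of_dvd_nat (D.O.orderOf_dvd_natCard hm)
  have h1 : x * y * x⁻¹ * y⁻¹ = 1 := Subtype.ext (isScal_odd (D.O_scal hm) (D.det_mat_commutator x y) hodd)
  exact mul_inv_eq_iff_eq_mul.1 (mul_inv_eq_one.1 h1)

theorem CData.scal_of_fix {x y y' : D.C} (h : x * y = y * x) (h' : x * y' = y' * x)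
    (hne : y * y' ≠ y' * y) : IsScal (D.mat x) :=
  scal_of_commute_pair (congrArg (fun z : D.C => D.mat z) h) (congrArg (fun z : D.C => D.mat z) h')
    fun e => hne (Subtype.ext (Units.ext e))

/-- The action modulo the centre of the special linear group. -/
noncomputable def CData.actP : D.C →* MulAut (Matrix.ProjectiveSpecialLinearGroup (Fin 2) K) :=
  Cfsg.Lib.Known.AutPSLn.liftPSL.comp D.act

theorem CData.act_inner {y : D.C} {M : SL(2, K)} (h : D.π y = D.g M) :
    D.actP y = MulAut.conj (QuotientGroup.mk' (Subgroup.center SL(2, K)) M) := by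
  have h1 : D.act y = MulAut.conj M := MulEquiv.ext fun N => D.g_injective (by
    rw [D.act_apply, h, MulAut.conj_apply, map_mul, map_mul, map_inv])
  refine MulEquiv.ext fun q => ?_
  obtain ⟨N, rfl⟩ := QuotientGroup.mk'_surjective _ q
  show QuotientGroup.mk' _ (D.act y N) = _
  rw [h1, MulAut.conj_apply, MulAut.conj_apply, map_mul, map_mul, map_inv]

theorem CData.actP_ker (hK : Fintype.card K = 5) {x : D.C} (h : D.actP x = 1) : IsScal (D.mat x) := by
  haveI : Fact (Nat.Prime 5) := ⟨by norm_num⟩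
  have h3 : (3 : K) ≠ 0 := by
    haveI : CharP K 5 := charP_of_card_eq_prime hK
    have := (CharP.cast_eq_zero_iff K 5 3).not.2 (by norm_num)
    exact_mod_cast this
  have h2 := two_ne_K D
  have hz : ∀ M : SL(2, K), ∃ z ∈ Subgroup.center SL(2, K), D.act x M = M * z := by
    intro M
    have e : Cfsg.Lib.Known.AutPSLn.π (D.act x M) = Cfsg.Lib.Known.AutPSLn.π M := by
      rw [← Cfsg.Lib.Known.AutPSLn.liftPSL_apply]
      exact DFunLike.congr_fun h (Cfsg.Lib.Known.AutPSLn.π M)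
    exact ⟨M⁻¹ * D.act x M, QuotientGroup.eq.1 e.symm, (mul_inv_cancel_left _ _).symm⟩
  have hcom : ∀ A B : SL(2, K), D.act x (A * B * A⁻¹ * B⁻¹) = A * B * A⁻¹ * B⁻¹ := by
    intro A B
    obtain ⟨a, ha, hA⟩ := hz A
    obtain ⟨b, hb, hB⟩ := hz B
    rw [map_mul, map_mul, map_mul, map_inv, map_inv, hA, hB]
    rw [show A * a * (B * b) * (A * a)⁻¹ * (B * b)⁻¹ = A * (a * (B * b) * a⁻¹) * A⁻¹ * b⁻¹ * B⁻¹ by group,
      ← Subgroup.mem_center_iff.1 ha (B * b), mul_inv_cancel_right,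
      show A * (B * b) * A⁻¹ * b⁻¹ * B⁻¹ = A * B * (b * A⁻¹ * b⁻¹) * B⁻¹ by group,
      ← Subgroup.mem_center_iff.1 hb A⁻¹, mul_inv_cancel_right]
  let t : SL(2, K) := ⟨!![2, 0; 0, 2⁻¹], by simp [det_fin_two, h2]⟩
  have ht : t * un 1 * t⁻¹ * (un 1)⁻¹ = un 3 := by
    rw [mul_inv_eq_iff_eq_mul, mul_inv_eq_iff_eq_mul, ← un_add]
    refine Subtype.ext ?_
    show !![2, 0; 0, 2⁻¹] * !![1, 1; 0, 1] = !![1, (3 : K) + 1; 0, 1] * !![2, 0; 0, 2⁻¹]
    ext i j
    fin_cases i <;> fin_cases j <;> simp [Matrix.mul_apply, Fin.sum_univ_two]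
    field_simp; norm_num
  have ht' : we * un 3 * we⁻¹ = (we * t * we⁻¹) * (we * un 1 * we⁻¹) * (we * t * we⁻¹)⁻¹ * (we * un 1 * we⁻¹)⁻¹ := by
    rw [← ht]; group
  obtain ⟨y, hy⟩ := QuotientGroup.mk'_surjective D.O (D.g (un 3))
  obtain ⟨y', hy'⟩ := QuotientGroup.mk'_surjective D.O (D.g (we * un 3 * we⁻¹))
  refine D.scal_of_fix (y := y) (y' := y') (D.commute_of_fix ?_) (D.commute_of_fix ?_) fun e => h3 ?_
  · rw [hy, ← D.act_apply, ← ht, hcom]
  · rw [hy', ← D.act_apply, ht', hcom]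
  · have e' : un 3 * (we * un 3 * we⁻¹) = we * un 3 * we⁻¹ * un (3 : K) := D.g_injective (by
      rw [map_mul D.g (un 3), map_mul D.g (we * un 3 * we⁻¹), ← hy, ← hy', ← map_mul, ← map_mul, e])
    have e2 := congrArg (fun M : SL(2, K) => (M : Matrix (Fin 2) (Fin 2) K) 0 0) e'
    simp only [Matrix.SpecialLinearGroup.coe_mul, Matrix.SpecialLinearGroup.coe_inv] at e2
    simp only [we, un, Matrix.adjugate_fin_two] at e2
    simp [Matrix.mul_apply, Matrix.vecMul, dotProduct, Fin.sum_univ_two] at e2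
    exact e2

/-- The field does not have five elements. -/
theorem CData.card_ne_five (D : CData F K) : Fintype.card K ≠ 5 := by
  classical
  intro hK
  haveI : Fact (Nat.Prime 5) := ⟨by norm_num⟩
  obtain ⟨e5⟩ := Cfsg.Lib.Classical.SmallPSL.psl_five hK
  let σ : MulAut (alternatingGroup (Fin 5)) ≃* Perm (Fin 5) :=
    (MulEquiv.ofBijective _ (Cfsg.Agent.S2119.result 5 (by norm_num) (by norm_num))).symm
  let ψ : D.C →* Perm (Fin 5) := σ.toMonoidHom.comp ((MulAut.congr e5).toMonoidHom.comp D.actP)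
  have hker : ∀ x, ψ x = 1 → IsScal (D.mat x) := fun x h => D.actP_ker hK
    ((map_eq_one_iff _ (MulAut.congr e5).injective).1 ((map_eq_one_iff _ σ.injective).1 h))
  have hsc : ∀ x y, ψ x = ψ y → ∃ c : F, D.mat y = c • D.mat x := by
    intro x y h
    obtain ⟨c, hc⟩ := hker (x⁻¹ * y) (by rw [map_mul, map_inv, h, inv_mul_cancel])
    refine ⟨c, ?_⟩
    rw [show y = x * (x⁻¹ * y) from (mul_inv_cancel_left x y).symm]
    show D.mat x * D.mat (x⁻¹ * y) = _
    rw [hc, Matrix.mul_smul, Matrix.mul_one]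
  have hA : ∀ a : alternatingGroup (Fin 5), ∃ x, ψ x = a := by
    intro a
    obtain ⟨M, hM⟩ := QuotientGroup.mk'_surjective _ (e5.symm a)
    obtain ⟨x, hx⟩ := QuotientGroup.mk'_surjective D.O (D.g M)
    refine ⟨x, σ.apply_eq_iff_eq_symm_apply.2 (MulEquiv.ext fun b => ?_)⟩
    show e5 (D.actP x (e5.symm b)) = MulAut.conjNormal (a : Perm (Fin 5)) b
    rw [D.act_inner hx, hM, MulAut.conj_apply]
    refine Subtype.ext ?_
    rw [MulAut.conjNormal_apply]
    simp
  have heven : ∀ x, Perm.sign (ψ x) = 1 := by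
    intro z₀
    by_contra hz
    have hsurj : ∀ τ : Perm (Fin 5), ∃ x, ψ x = τ := by
      intro τ
      by_cases hτ : Perm.sign τ = 1
      · exact hA ⟨τ, Perm.mem_alternatingGroup.2 hτ⟩
      · obtain ⟨x, hx⟩ := hA ⟨τ * (ψ z₀)⁻¹, Perm.mem_alternatingGroup.2 (by
          rw [map_mul, map_inv, (Int.units_eq_one_or _).resolve_left hτ, (Int.units_eq_one_or _).resolve_left hz]
          rfl)⟩
        exact ⟨x * z₀, by rw [map_mul, hx]; exact inv_mul_cancel_right τ (ψ z₀)⟩
    let c5 : Perm (Fin 5) := ⟨fun i => i + 1, fun i => i + 4, by decide, by decide⟩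
    let k5 : Perm (Fin 5) := ⟨fun i => 2 * i, fun i => 3 * i, by decide, by decide⟩
    obtain ⟨x, hx⟩ := hsurj c5
    obtain ⟨z, hz'⟩ := hsurj k5
    have ho : orderOf c5 = 5 := orderOf_eq_prime (by decide) (by decide)
    have hns : ¬ IsScal (D.mat x) := fun hs => (by decide : c5 * k5 ≠ k5 * c5)
      (by rw [← hx, ← hz', ← map_mul, ← map_mul, D.central_of_scal hs])
    obtain ⟨c, hc⟩ := hsc (x ^ 2) (z * x * z⁻¹) (by rw [map_pow, map_mul, map_mul, map_inv, hx, hz']; decide)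
    have h := no_power D (n := 5) (by norm_num) hns (hker _ (by rw [map_pow, hx]; decide))
      (ho ▸ hx ▸ (orderOf_map_dvd ψ x).trans (orderOf_dvd_natCard x)) hc
    norm_num at h
  let χ : (D.S : Subgroup D.C) →* alternatingGroup (Fin 5) :=
    (ψ.codRestrict _ fun x => Perm.mem_alternatingGroup.2 (heven x)).comp (D.S : Subgroup D.C).subtype
  have hle : χ.ker ≤ Subgroup.center (D.S : Subgroup D.C) := fun s hs => Subgroup.mem_center_iff.2 fun t =>
    Subtype.ext (D.central_of_scal (hker _ (congrArg Subtype.val hs)) t).symm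
  have h8 : 8 ≤ χ.ker.index :=
    D.big.trans (Nat.le_of_dvd (Nat.pos_of_ne_zero Subgroup.index_ne_zero_of_finite) (Subgroup.index_dvd_of_le hle))
  have h60 : χ.ker.index ∣ 60 := by
    rw [Subgroup.index_ker]
    refine (Subgroup.card_subgroup_dvd_card χ.range).trans ?_
    rw [Nat.card_eq_fintype_card]
    rfl
  haveI : Fact (Nat.Prime 2) := ⟨Nat.prime_two⟩
  obtain ⟨j, hj⟩ := D.S.2.index χ.ker
  have : j ≤ 2 := by
    by_contra hlt
    have h : 2 ^ 3 ∣ 60 := (pow_dvd_pow 2 (show 3 ≤ j by omega)).trans (hj ▸ h60)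
    norm_num at h
  rw [hj] at h8
  have := Nat.pow_le_pow_right (show 1 ≤ 2 by norm_num) this
  omega

end Cfsg.Lib.MitchellThree.Block
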