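import Cfsg.Agent.MitchellThree.Cent

/-!
Consequences of the structure of an involution centralizer, read in the group.
-/

set_option autoImplicit false
set_option linter.unusedSectionVars false

namespace Cfsg.Lib.MitchellThree

open Subgroup
open scoped MatrixGroups

universe u v

variable {F : Type u} [Field F] [Finite F] {L : Type v} [Group L] [Finite L] {W : Free F L} {t : L} (P : Frame W t)

/-- An element acts as a homology in the frame. -/
def Frame.Scal (x : centralizer ({t} : Set L)) : Prop :=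
  Block.IsScal ((P.f x : GL (Fin 2) F) : Matrix (Fin 2) (Fin 2) F)

theorem Frame.f_t : P.f ⟨t, mem_centralizer_singleton_iff.2 rfl⟩ = -1 :=
  bmap_injective ((P.spec _).trans P.neg)

theorem Frame.scal_t : P.Scal ⟨t, mem_centralizer_singleton_iff.2 rfl⟩ :=
  ⟨-1, by rw [P.f_t, Units.val_neg, Units.val_one, neg_one_smul]⟩

theorem Frame.commute_of_scal {x : centralizer ({t} : Set L)} (hx : P.Scal x) (y : centralizer ({t} : Set L)) :
    x * y = y * x := by
  obtain ⟨c, hc⟩ := hx
  refine P.inj (Units.ext ?_)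
  rw [map_mul, map_mul, Units.val_mul, Units.val_mul, hc, Matrix.smul_mul, Matrix.one_mul, Matrix.mul_smul,
    Matrix.mul_one]

/-- Squares of elements of order four generate an elementary group modulo homologies. -/
theorem Frame.squares (ht : orderOf t = 2) {x y : centralizer ({t} : Set L)} (hx : x ^ 4 = 1) (hy : y ^ 4 = 1) :
    P.Scal ((x ^ 2 * y ^ 2) ^ 2) := by
  obtain ⟨K, iK, iK', D, hC, -⟩ := P.exists_data ht
  have hm : ∀ z, P.f z ∈ D.C := fun z => hC ▸ ⟨z, rfl⟩
  have h1 : ∀ z : centralizer ({t} : Set L), z ^ 4 = 1 → Block.IsScal (D.mat ((⟨P.f z, hm z⟩ : D.C) ^ 4)) :=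
    fun z hz => ⟨1, by
      rw [one_smul]
      show ((P.f z : GL (Fin 2) F) ^ 4 : GL (Fin 2) F).1 = 1
      rw [← map_pow, hz, map_one, Units.val_one]⟩
  have h := D.squares (h1 x hx) (h1 y hy)
  show Block.IsScal ((P.f ((x ^ 2 * y ^ 2) ^ 2) : GL (Fin 2) F) : Matrix (Fin 2) (Fin 2) F)
  rw [map_pow, map_mul, map_pow, map_pow]
  exact h

/-- An element of odd order commuting with a second involution is a homology. -/
theorem Frame.odd_commute (ht : orderOf t = 2) {x a : centralizer ({t} : Set L)} (hx : Odd (orderOf x))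
    (ha : ¬ P.Scal a) (ha2 : a ^ 2 = 1) (h : x * a = a * x) : P.Scal x := by
  obtain ⟨K, iK, iK', D, hC, -⟩ := P.exists_data ht
  have hm : ∀ z, P.f z ∈ D.C := fun z => hC ▸ ⟨z, rfl⟩
  refine D.odd_commute (x := ⟨P.f x, hm x⟩) (a := ⟨P.f a, hm a⟩) ?_ ha ⟨1, ?_⟩ (Subtype.ext ?_)
  · rw [← Subgroup.orderOf_coe]
    show Odd (orderOf (P.f x))
    rwa [orderOf_injective _ P.inj]
  · rw [one_smul]
    show ((P.f a : GL (Fin 2) F) ^ 2 : GL (Fin 2) F).1 = 1
    rw [← map_pow, ha2, map_one, Units.val_one]
  · show P.f x * P.f a = P.f a * P.f x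
    rw [← map_mul, h, map_mul]

/-- The centre of the Sylow subgroup consists of homologies and has index eight. -/
theorem Frame.center_R (ht : orderOf t = 2) :
    (center (P.R : Subgroup (centralizer ({t} : Set L)))).index = 8 ∧
      ∀ s ∈ center (P.R : Subgroup (centralizer ({t} : Set L))), P.Scal s := by
  obtain ⟨K, iK, iK', D, hC, hS⟩ := P.exists_data ht
  let e : (P.R : Subgroup (centralizer ({t} : Set L))) ≃* (D.S : Subgroup D.C) :=
    ((P.R : Subgroup (centralizer ({t} : Set L))).equivMapOfInjective P.f P.inj).trans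
      ((MulEquiv.subgroupCongr hS.symm).trans ((D.S : Subgroup D.C).equivMapOfInjective _ D.C.subtype_injective).symm)
  have he : ∀ s, ((e s : D.C) : GL (Fin 2) F) = P.f s := fun s => by
    have h := ((D.S : Subgroup D.C).equivMapOfInjective _ D.C.subtype_injective).apply_symm_apply
      (MulEquiv.subgroupCongr hS.symm ((P.R : Subgroup (centralizer ({t} : Set L))).equivMapOfInjective P.f P.inj s))
    exact congrArg Subtype.val h
  refine ⟨(center_index_congr e.symm).symm.trans D.center_index.1, fun s hs => ?_⟩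
  have h := D.center_index.2 (e s) (mem_center_iff.2 fun g => e.symm.injective (by
    rw [map_mul, map_mul, e.symm_apply_apply]; exact mem_center_iff.1 hs _))
  show Block.IsScal _
  rw [← he]
  exact h

/-- With trivial homologies and a quasi-dihedral Sylow subgroup the centralizer is `GL₂(3)`. -/
theorem Frame.gl_two_three (ht : orderOf t = 2) (hq : Cfsg.IsQuasiDihedral (W.S : Subgroup L))
    (hsc : ∀ x, P.Scal x → x ^ 2 = 1) :
    Nonempty (centralizer ({t} : Set L) ≃* GL (Fin 2) (ZMod 3)) := by
  obtain ⟨K, iK, iK', D, hC, hS⟩ := P.exists_data ht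
  let e : (W.S : Subgroup L) ≃* (D.S : Subgroup D.C) :=
    P.eS.symm.trans (((P.R : Subgroup (centralizer ({t} : Set L))).equivMapOfInjective P.f P.inj).trans
      ((MulEquiv.subgroupCongr hS.symm).trans ((D.S : Subgroup D.C).equivMapOfInjective _ D.C.subtype_injective).symm))
  have hinv : ∃ s : (D.S : Subgroup D.C), s * s = 1 ∧ s ∉ Subgroup.center (D.S : Subgroup D.C) := by
    obtain ⟨m, a, b, hg⟩ := Cfsg.Lib.QD.exists_gen hq
    have hb : orderOf b = 2 := by
      have := (Cfsg.Lib.QD.orderOf_b hg 0).1 (dvd_zero 2)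
      rwa [zpow_zero, one_mul] at this
    refine ⟨e b, by rw [← map_mul, show b * b = 1 from (pow_two b).symm.trans (orderOf_dvd_iff_pow_eq_one.1 hb.dvd), map_one], fun hc => ?_⟩
    have hbc : b ∈ center (W.S : Subgroup L) := mem_center_iff.2 fun g => e.injective (by
      rw [map_mul, map_mul]; exact mem_center_iff.1 hc _)
    refine hg.2.notMem ?_
    rcases Cfsg.Lib.QDFusion.center_eq hg hbc with h | h
    · rw [h]; exact one_mem _
    · rw [h]; exact zpow_mem (mem_zpowers a) _
  obtain ⟨g⟩ := D.gl_two_three (fun x hx => by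
      obtain ⟨z, hz⟩ : ∃ z, P.f z = (x : GL (Fin 2) F) := by
        have h := x.2
        simp only [hC] at h
        exact h
      refine Subtype.ext ?_
      rw [SubmonoidClass.coe_pow, ← hz, ← map_pow, hsc z (by show Block.IsScal _; rw [hz]; exact hx), map_one]
      rfl) hinv
  exact ⟨((MonoidHom.ofInjective P.inj).trans (MulEquiv.subgroupCongr hC.symm)).trans g⟩

end Cfsg.Lib.MitchellThree
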