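import Cfsg.Agent.MitchellThree.Nine
import Cfsg.Agent.Known.AutPSLn.Invol.Basic

/-!
A subgroup of the three-dimensional projective linear group whose socle is a two-dimensional projective special linear
group of odd order.
-/

set_option autoImplicit false
set_option linter.unusedSectionVars false

namespace Cfsg.Lib.MitchellThree

open Matrix Cfsg.Lib.Known.AutPSLn Cfsg.Geo
open scoped MatrixGroups

universe u v

/-- The two-dimensional and alternating outcomes. -/
def Small (p α : ℕ) (H : Type v) [Group H] : Prop :=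
    (∃ (K : Type) (_ : Field K) (_ : Fintype K) (β : ℕ), Fintype.card K = p ^ β ∧ β ∣ α ∧ p ^ β ≠ 3 ∧ (Nonempty (H ≃* Matrix.ProjectiveSpecialLinearGroup (Fin 2) K) ∨ Nonempty (H ≃* (GL (Fin 2) K ⧸ Subgroup.center (GL (Fin 2) K))))) ∨
    ((p ^ α % 10 = 1 ∨ p ^ α % 10 = 9) ∧ ∃ (K : Type) (_ : Field K) (_ : Fintype K), Fintype.card K = 5 ∧ Nonempty (H ≃* Matrix.ProjectiveSpecialLinearGroup (Fin 2) K)) ∨
    ((p ^ α) ^ 3 % 7 = 1 ∧ ∃ (K : Type) (_ : Field K) (_ : Fintype K), Fintype.card K = 7 ∧ Nonempty (H ≃* Matrix.ProjectiveSpecialLinearGroup (Fin 2) K)) ∨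
    (p = 5 ∧ Even α ∧ (Nonempty (H ≃* ↥(alternatingGroup (Fin 6))) ∨ Nonempty (H ≃* ↥(alternatingGroup (Fin 7))) ∨
      ∃ L : Subgroup H, L.index = 2 ∧ Nonempty (↥L ≃* ↥(alternatingGroup (Fin 6))))) ∨
    ((p ^ α % 30 = 1 ∨ p ^ α % 30 = 19) ∧ Nonempty (H ≃* ↥(alternatingGroup (Fin 6))))

/-- Conjugation on a normal subgroup with trivial centralizer is injective. -/
theorem conjNormal_injective {G : Type v} [Group G] {L : Subgroup G} [L.Normal]
    (hC : Subgroup.centralizer (L : Set G) = ⊥) : Function.Injective (MulAut.conjNormal : G →* MulAut ↥L) := by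
  refine (injective_iff_map_eq_one _).2 fun g hg => ?_
  rw [← Subgroup.mem_bot, ← hC, Subgroup.mem_centralizer_iff]
  intro x hx
  have h := congrArg Subtype.val (DFunLike.congr_fun hg (⟨x, hx⟩ : L))
  rw [MulAut.conjNormal_apply, MulAut.one_apply, mul_inv_eq_iff_eq_mul] at h
  exact h.symm

namespace Two

variable {K : Type} [Field K] [Fintype K] {F : Type u} [Field F] [Finite F]

local notation "P2" => Matrix.ProjectiveSpecialLinearGroup (Fin 2) K

/-- The inner group. -/
theorem Emb.equiv_of_inner (E : Emb K F) (h : E.Inner) : Nonempty (E.A ≃* P2) :=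
  ⟨(MulEquiv.ofBijective ((MulAut.conj : P2 →* MulAut P2).codRestrict E.A E.inn)
    ⟨fun _ _ e => conj_injective (congrArg Subtype.val e), fun b => by
      obtain ⟨x, hx⟩ := h b.1 b.2
      exact ⟨x, Subtype.ext hx.symm⟩⟩).symm⟩

/-- The group of all linear automorphisms. -/
theorem Emb.equiv_of_all (E : Emb K F) (hl : E.Linear) (h : ∀ g : GL (Fin 2) K, conjP g ∈ E.A) :
    Nonempty (E.A ≃* GL (Fin 2) K ⧸ Subgroup.center (GL (Fin 2) K)) := by
  let φ : GL (Fin 2) K →* E.A := (conjP : GL (Fin 2) K →* MulAut P2).codRestrict E.A h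
  have hker : φ.ker = Subgroup.center (GL (Fin 2) K) := by
    ext g
    rw [MonoidHom.mem_ker]
    constructor
    · intro hg
      obtain ⟨u, rfl⟩ := (Cfsg.Lib.Known.AutPSLn.Invol.conjP_eq_one_iff le_rfl g).1 (congrArg Subtype.val hg)
      exact sc_mem_center u
    · intro hg
      exact Subtype.ext (conjP_scalar hg)
  refine ⟨((QuotientGroup.quotientMulEquivOfEq hker.symm).trans
    (QuotientGroup.quotientKerEquivOfSurjective φ fun b => ?_)).symm⟩
  obtain ⟨g, hg⟩ := hl b.1 b.2
  exact ⟨g, Subtype.ext hg.symm⟩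

theorem mod_thirty {q : ℕ} (ho : q % 2 = 1) (h3 : q % 3 = 1) (h5 : q % 5 = 1 ∨ q % 5 = 4) :
    q % 30 = 1 ∨ q % 30 = 19 := by omega

/-- The outcome for an abstract embedding. -/
theorem Emb.outcome (E : Emb K F) {p α : ℕ} [hp : Fact p.Prime] [CharP F p] (hp2 : p ≠ 2)
    (hF : Nat.card F = p ^ α) : Small p α E.A := by
  obtain ⟨r, hr⟩ := CharP.exists K
  haveI := hr
  obtain ⟨b, hrp, hb⟩ := FiniteField.card K r
  haveI : Fact r.Prime := ⟨hrp⟩
  have hthree := E.three_lt
  rcases eq_or_ne r p with rfl | hne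
  · obtain ⟨hba, hl⟩ := E.same_char hp2 hF hb
    refine Or.inl ⟨K, inferInstance, inferInstance, b, hb, hba, by omega, ?_⟩
    exact (E.inner_or_all hl).imp E.equiv_of_inner (E.equiv_of_all hl)
  have hrF : (r : F) ≠ 0 := natCast_ne_zero_of_lt p fun h => hne.symm ((Nat.prime_dvd_prime_iff_eq hp.out hrp).1 h)
  have hodd : p ^ α % 2 = 1 := Nat.odd_iff.1 ((hp.out.odd_of_ne_two hp2).pow)
  rcases E.char_cases hrF with h5 | h7 | h9
  · have hr5 : r = 5 :=
      (Nat.prime_dvd_prime_iff_eq hrp (by norm_num)).1 (by rw [← h5, hb]; exact dvd_pow_self r b.pos.ne')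
    subst hr5
    obtain ⟨hq, hin⟩ := E.five h5 (by exact_mod_cast hrF)
    rw [hF] at hq
    exact Or.inr (Or.inl ⟨by omega, K, inferInstance, inferInstance, h5, E.equiv_of_inner hin⟩)
  · have hr7 : r = 7 :=
      (Nat.prime_dvd_prime_iff_eq hrp (by norm_num)).1 (by rw [← h7, hb]; exact dvd_pow_self r b.pos.ne')
    subst hr7
    obtain ⟨hq, hin⟩ := E.seven h7 (by exact_mod_cast hrF)
    rw [hF] at hq
    exact Or.inr (Or.inr (Or.inl ⟨hq, K, inferInstance, inferInstance, h7, E.equiv_of_inner hin⟩))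
  · have hr3 : r = 3 := by
      have : r ∣ 3 ^ 2 := by rw [show 3 ^ 2 = 9 by norm_num, ← h9, hb]; exact dvd_pow_self r b.pos.ne'
      exact (Nat.prime_dvd_prime_iff_eq hrp Nat.prime_three).1 (hrp.dvd_of_dvd_pow this)
    subst hr3
    obtain ⟨hq3, hdiag⟩ := E.nine h9 (by exact_mod_cast hrF)
    rw [hF] at hq3
    obtain ⟨e6⟩ := Cfsg.Lib.Classical.PSLNine.psl_nine h9
    rcases eq_or_ne p 5 with rfl | hp5
    · have hev : Even α := by
        rcases Nat.even_or_odd α with h | ⟨k, rfl⟩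
        · exact h
        · exfalso
          rw [pow_succ, pow_mul, Nat.mul_mod, Nat.pow_mod] at hq3
          norm_num at hq3
      refine Or.inr (Or.inr (Or.inr (Or.inl ⟨rfl, hev, ?_⟩)))
      by_cases hin : E.Inner
      · exact Or.inl ((E.equiv_of_inner hin).map fun e => e.trans e6)
      · refine Or.inr (Or.inr ?_)
        let N : Subgroup E.A := ((MulAut.conj : P2 →* MulAut P2).codRestrict E.A E.inn).range
        refine ⟨N, ?_, ⟨(MonoidHom.ofInjective (f := (MulAut.conj : P2 →* MulAut P2).codRestrict E.A E.inn)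
          fun _ _ e => conj_injective (congrArg Subtype.val e)).symm.trans e6⟩⟩
        have hmem : ∀ g : E.A, g ∈ N ↔ ∃ x, (g : MulAut P2) = MulAut.conj x := fun g =>
          ⟨fun ⟨x, hx⟩ => ⟨x, (congrArg Subtype.val hx).symm⟩, fun ⟨x, hx⟩ => ⟨x, Subtype.ext hx.symm⟩⟩
        simp only [Emb.Inner] at hin
        push Not at hin
        obtain ⟨β, hβ, hno⟩ := hin
        have hb' : (⟨β, hβ⟩ : E.A) ∉ N := fun h => by
          obtain ⟨x, hx⟩ := (hmem _).1 h
          exact hno x hx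
        refine Subgroup.index_eq_two_iff.2 ⟨⟨β, hβ⟩, fun g => ?_⟩
        by_cases hg : g ∈ N
        · exact Or.inr ⟨hg, fun h => hb' ((N.mul_mem_cancel_left hg).1 h)⟩
        · refine Or.inl ⟨?_, hg⟩
          rw [hmem]
          exact E.index_two h9 hdiag g.1 g.2 β hβ (fun h => hg ((hmem g).2 h)) (fun ⟨x, hx⟩ => hno x hx)
    · have h5F : (5 : F) ≠ 0 := by
        exact_mod_cast natCast_ne_zero_of_lt (F := F) p (n := 5) fun h =>
          hp5 ((Nat.prime_dvd_prime_iff_eq hp.out (by norm_num)).1 h)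
      have hq5 := E.five_mod h9 h5F
      rw [hF] at hq5
      have hin : E.Inner := fun β hβ => by
        obtain ⟨g, rfl⟩ := E.linear_of_trivial (E.five_tau h9 h5F) β hβ
        exact hdiag g hβ
      exact Or.inr (Or.inr (Or.inr (Or.inr ⟨mod_thirty hodd hq3 hq5, (E.equiv_of_inner hin).map fun e => e.trans e6⟩)))

end Two

theorem Small.congr {p α : ℕ} {H : Type v} {H' : Type u} [Group H] [Group H'] (e : H ≃* H') (h : Small p α H) :
    Small p α H' := by
  rcases h with ⟨K, i, j, b, h1, h2, h3, h4⟩ | ⟨h1, K, i, j, h2, h3⟩ | ⟨h1, K, i, j, h2, h3⟩ | ⟨h1, h2, h3⟩ | ⟨h1, h2⟩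
  · exact Or.inl ⟨K, i, j, b, h1, h2, h3, h4.imp (Nonempty.map e.symm.trans) (Nonempty.map e.symm.trans)⟩
  · exact Or.inr (Or.inl ⟨h1, K, i, j, h2, h3.map e.symm.trans⟩)
  · exact Or.inr (Or.inr (Or.inl ⟨h1, K, i, j, h2, h3.map e.symm.trans⟩))
  · refine Or.inr (Or.inr (Or.inr (Or.inl ⟨h1, h2, ?_⟩)))
    rcases h3 with h | h | ⟨L, hL, h⟩
    · exact Or.inl (h.map e.symm.trans)
    · exact Or.inr (Or.inl (h.map e.symm.trans))
    · refine Or.inr (Or.inr ⟨L.map e.toMonoidHom, ?_, h.map (L.equivMapOfInjective _ e.injective).symm.trans⟩)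
      rw [← hL]; exact L.index_map_equiv e
  · exact Or.inr (Or.inr (Or.inr (Or.inr ⟨h1, h2.map e.symm.trans⟩)))

/-- A group with socle `PSL₂` of odd order inside the projective linear group. -/
theorem small_of_psl_two {F : Type u} [Field F] [Finite F] {p α : ℕ} [Fact p.Prime] [CharP F p] (hp2 : p ≠ 2)
    (hF : Nat.card F = p ^ α) {H : Type v} [Group H] (ι : H →* PG F) (hι : Function.Injective ι)
    (L : Subgroup H) [L.Normal] (hC : Subgroup.centralizer (L : Set H) = ⊥) {K : Type} [Field K] [Fintype K]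
    (hodd : Odd (Fintype.card K)) (h3 : 3 < Fintype.card K)
    (e : L ≃* Matrix.ProjectiveSpecialLinearGroup (Fin 2) K) : Small p α H := by
  let θ : H →* MulAut (Matrix.ProjectiveSpecialLinearGroup (Fin 2) K) :=
    (MulAut.congr e).toMonoidHom.comp MulAut.conjNormal
  have hθ : Function.Injective θ := (MulAut.congr e).injective.comp (conjNormal_injective hC)
  let eA : H ≃* θ.range := MonoidHom.ofInjective hθ
  let E : Two.Emb K F :=
    { A := θ.range
      inn := fun x => ⟨(e.symm x : H), by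
        refine MulEquiv.ext fun y => ?_
        show e (MulAut.conjNormal ((e.symm x : L) : H) (e.symm y)) = x * y * x⁻¹
        rw [show MulAut.conjNormal ((e.symm x : L) : H) (e.symm y) = e.symm x * e.symm y * (e.symm x)⁻¹ from
          Subtype.ext (MulAut.conjNormal_apply _ _)]
        simp⟩
      f := ι.comp eA.symm.toMonoidHom
      inj := hι.comp eA.symm.injective
      odd := hodd
      three_lt := h3 }
  exact (E.outcome hp2 hF).congr eA.symm

end Cfsg.Lib.MitchellThree
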