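import Cfsg.Agent.MitchellThree.Torus

/-!
An elementary abelian subgroup of order prime to the characteristic of the three-dimensional projective linear group
has order at most the square of the prime.
-/

set_option autoImplicit false
set_option linter.unusedSectionVars false

namespace Cfsg.Lib.MitchellThree

open Matrix Cfsg.Geo
open scoped MatrixGroups

universe u v

/-- Commuting semisimple matrices have a common diagonal form. -/
theorem simult {K : Type u} [Field K] [IsAlgClosed K] {ι : Type v} (A : ι → Matrix (Fin 3) (Fin 3) K)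
    (hc : ∀ i j, A i * A j = A j * A i) (hfin : ∀ i, ∃ n : ℕ, (n : K) ≠ 0 ∧ A i ^ n = 1) :
    ∃ (P : GL (Fin 3) K) (d : ι → Fin 3 → K), ∀ i, A i * (P : Matrix (Fin 3) (Fin 3) K) = P * diagonal (d i) := by
  classical
  let f : ι → Module.End K (Fin 3 → K) := fun i => Matrix.toLin' (A i)
  have hss : ∀ i, (f i).IsSemisimple := fun i => by
    obtain ⟨n, hn, hA⟩ := hfin i
    refine Module.End.isSemisimple_of_squarefree_aeval_eq_zero
      (p := Polynomial.X ^ n - Polynomial.C (1 : K))
      ((Polynomial.separable_X_pow_sub_C (1 : K) hn one_ne_zero).squarefree) ?_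
    rw [map_sub, map_pow, Polynomial.aeval_X, Polynomial.aeval_C, map_one, sub_eq_zero]
    show Matrix.toLin' (A i) ^ n = 1
    rw [← Matrix.toLin'_pow, hA, Matrix.toLin'_one]
    rfl
  have htop := Module.End.iSup_iInf_maxGenEigenspace_eq_top_of_iSup_maxGenEigenspace_eq_top_of_commute f
    (fun i j _ => by
      show f i * f j = f j * f i
      rw [Module.End.mul_eq_comp, Module.End.mul_eq_comp, ← Matrix.toLin'_mul, ← Matrix.toLin'_mul, hc])
    (fun i => Module.End.iSup_maxGenEigenspace_eq_top (f i))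
  set s : Set (Fin 3 → K) := {v | ∀ i, ∃ c : K, A i *ᵥ v = c • v} with hs
  have hspan : ⊤ ≤ Submodule.span K s := by
    rw [← htop, iSup_le_iff]
    intro χ v hv
    refine Submodule.subset_span fun i => ⟨χ i, ?_⟩
    have h1 := (Submodule.mem_iInf _).1 hv i
    rw [(hss i).isFinitelySemisimple.maxGenEigenspace_eq_eigenspace, Module.End.mem_eigenspace_iff] at h1
    simpa [f] using h1
  let b₀ := Module.Basis.ofSpan hspan
  let b := b₀.reindex (b₀.indexEquiv (Pi.basisFun K (Fin 3)))
  have hb : ∀ i, b i ∈ s := fun i => by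
    rw [Module.Basis.reindex_apply]
    exact Module.Basis.ofSpan_subset hspan ⟨_, rfl⟩
  choose d hd using fun (k : ι) (i : Fin 3) => hb i k
  let P : Matrix (Fin 3) (Fin 3) K := Matrix.of fun i j => b j i
  have hP : IsUnit P := by
    rw [← Matrix.mulVec_injective_iff_isUnit, Matrix.mulVec_injective_iff]
    exact b.linearIndependent
  obtain ⟨Q, hQ⟩ := hP
  refine ⟨Q, d, fun k => ?_⟩
  rw [hQ]
  ext i j
  have := congrFun (hd k j) i
  rw [Matrix.mul_diagonal]
  simp only [Matrix.mulVec, dotProduct, Pi.smul_apply, smul_eq_mul] at this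
  rw [Matrix.mul_apply]
  simp only [P, Matrix.of_apply]
  rw [this, mul_comm]

variable {F : Type u} [Field F]

/-- Lifts of commuting elements commute up to a scalar. -/
theorem comm_scalar {g h : GL (Fin 3) F} (hgh : (QuotientGroup.mk g : PG F) * QuotientGroup.mk h =
    QuotientGroup.mk h * QuotientGroup.mk g) :
    ∃ c : F, c ^ 3 = 1 ∧ (g : Matrix (Fin 3) (Fin 3) F) * (h : Matrix (Fin 3) (Fin 3) F) =
      c • ((h : Matrix (Fin 3) (Fin 3) F) * (g : Matrix (Fin 3) (Fin 3) F)) := by
  rw [← QuotientGroup.mk_mul, ← QuotientGroup.mk_mul, eq_comm, QuotientGroup.eq] at hgh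
  obtain ⟨c, hc0, hc⟩ := scalar_of_mem hgh
  have h1 : (g : Matrix (Fin 3) (Fin 3) F) * (h : Matrix (Fin 3) (Fin 3) F) =
      c • ((h : Matrix (Fin 3) (Fin 3) F) * (g : Matrix (Fin 3) (Fin 3) F)) := by
    rw [← Units.val_mul, ← Units.val_mul, show g * h = h * g * ((h * g)⁻¹ * (g * h)) from (mul_inv_cancel_left _ _).symm,
      Units.val_mul, hc, Matrix.mul_smul, Matrix.mul_one]
  refine ⟨c, ?_, h1⟩
  have h2 := congrArg Matrix.det h1
  rw [Matrix.det_smul, Fintype.card_fin, Matrix.det_mul, Matrix.det_mul, mul_comm (g : Matrix (Fin 3) (Fin 3) F).det] at h2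
  have : (h : Matrix (Fin 3) (Fin 3) F).det * (g : Matrix (Fin 3) (Fin 3) F).det ≠ 0 :=
    mul_ne_zero (Matrix.isUnits_det_units h).ne_zero (Matrix.isUnits_det_units g).ne_zero
  exact (mul_eq_right₀ this).1 h2.symm

theorem commutator_pow {g h : Matrix (Fin 3) (Fin 3) F} {c : F} (e : g * h = c • (h * g)) :
    ∀ n : ℕ, g ^ n * h = c ^ n • (h * g ^ n) := by
  intro n
  induction n with
  | zero => simp
  | succ n ih =>
    rw [pow_succ, mul_assoc, e, Matrix.mul_smul, ← mul_assoc, ih, Matrix.smul_mul, smul_smul, mul_assoc, pow_succ,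
      mul_comm c]

variable [Finite F]

theorem finite_order_lift {r : ℕ} (hr : (r : F) ≠ 0) {g : GL (Fin 3) F} (hg : (QuotientGroup.mk g : PG F) ^ r = 1) :
    (g : Matrix (Fin 3) (Fin 3) F) ^ (r * (Nat.card F - 1)) = 1 ∧ ((r * (Nat.card F - 1) : ℕ) : F) ≠ 0 := by
  rw [← QuotientGroup.mk_pow, QuotientGroup.eq_one_iff] at hg
  obtain ⟨c, hc0, hc⟩ := scalar_of_mem hg
  haveI := Fintype.ofFinite F
  refine ⟨?_, ?_⟩
  · rw [pow_mul, ← Units.val_pow_eq_pow_val, hc, smul_pow, one_pow, Nat.card_eq_fintype_card,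
      FiniteField.pow_card_sub_one_eq_one c hc0, one_smul]
  · rw [Nat.cast_mul]
    exact mul_ne_zero hr card_sub_one_ne_zero

theorem card_nthRoots_sq {K : Type u} [Field K] {r : ℕ} (hr : 0 < r) :
    Finite {z : K × K // z.1 ^ r = 1 ∧ z.2 ^ r = 1} ∧
      Nat.card {z : K × K // z.1 ^ r = 1 ∧ z.2 ^ r = 1} ≤ r * r := by
  classical
  set S := (Polynomial.nthRoots r (1 : K)).toFinset with hS
  have hmem : ∀ z : K, z ^ r = 1 → z ∈ S := fun z hz => by
    rw [hS, Multiset.mem_toFinset, Polynomial.mem_nthRoots hr]; exact hz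
  have hcard : S.card ≤ r := (Multiset.toFinset_card_le _).trans (Polynomial.card_nthRoots r 1)
  let f : {z : K × K // z.1 ^ r = 1 ∧ z.2 ^ r = 1} → (S ×ˢ S : Finset (K × K)) :=
    fun z => ⟨z.1, Finset.mem_product.2 ⟨hmem _ z.2.1, hmem _ z.2.2⟩⟩
  have hf : Function.Injective f := fun a b e => Subtype.ext (Subtype.ext_iff.1 e :)
  refine ⟨Finite.of_injective f hf, (Nat.card_le_card_of_injective f hf).trans ?_⟩
  rw [Nat.card_eq_finsetCard, Finset.card_product]
  exact Nat.mul_le_mul hcard hcard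

/-- A common diagonal form for an abelian subgroup with commuting lifts. -/
theorem exists_common {r : ℕ} (hr : (r : F) ≠ 0) (A : Subgroup (PG F)) (hexp : ∀ a ∈ A, a ^ r = 1)
    (hcomm : ∀ g h : GL (Fin 3) F, (QuotientGroup.mk g : PG F) ∈ A → (QuotientGroup.mk h : PG F) ∈ A →
      (g : Matrix (Fin 3) (Fin 3) F) * (h : Matrix (Fin 3) (Fin 3) F) =
        (h : Matrix (Fin 3) (Fin 3) F) * (g : Matrix (Fin 3) (Fin 3) F)) :
    ∃ (P : GL (Fin 3) (AlgebraicClosure F)) (d : A → Fin 3 → AlgebraicClosure F), ∀ a : A,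
      ∃ E : Eig (a : PG F), E.P = P ∧ E.d = d a := by
  let ι := algebraMap F (AlgebraicClosure F)
  choose g hg using fun a : A => QuotientGroup.mk_surjective (a : PG F)
  have hgA : ∀ a, (QuotientGroup.mk (g a) : PG F) ∈ A := fun a => by rw [hg]; exact a.2
  obtain ⟨P, d, hPd⟩ := simult (fun a => (g a : Matrix (Fin 3) (Fin 3) F).map ι)
    (fun a b => by rw [← Matrix.map_mul, ← Matrix.map_mul, hcomm _ _ (hgA a) (hgA b)])
    (fun a => by
      obtain ⟨h1, h2⟩ := finite_order_lift hr (g := g a) (by rw [hg]; exact hexp _ a.2)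
      exact ⟨_, by rw [← map_natCast ι, map_ne_zero]; exact h2,
        by rw [← RingHom.mapMatrix_apply, ← map_pow, h1, map_one]⟩)
  have hd : ∀ a i, d a i ≠ 0 := fun a i e => by
    have hdet := congrArg Matrix.det (hPd a)
    rw [det_mul, det_mul, det_diagonal, Finset.prod_eq_zero (Finset.mem_univ i) e, mul_zero] at hdet
    have h1 : ((g a : Matrix (Fin 3) (Fin 3) F).map ι).det ≠ 0 := by
      rw [← RingHom.mapMatrix_apply, ← RingHom.map_det, map_ne_zero]
      exact (Matrix.isUnits_det_units (g a)).ne_zero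
    exact mul_ne_zero h1 (Matrix.isUnits_det_units P).ne_zero hdet
  exact ⟨P, d, fun a => ⟨⟨g a, hg a, P, d a, hPd a, hd a⟩, rfl, rfl⟩⟩

/-- The ratios separate the elements of a commonly diagonalised subgroup. -/
theorem eq_of_ratios {x y : PG F} (E : Eig x) (E' : Eig y) (hP : E.P = E'.P)
    (h : ∀ i, E.d i / E.d 0 = E'.d i / E'.d 0) : x = y := by
  set ι := algebraMap F (AlgebraicClosure F)
  set s := E.d 0 / E'.d 0 with hs
  have h3 : ∀ i, E.d i = s * E'.d i := fun i => by
    have h1 := h i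
    rw [div_eq_div_iff (E.d_ne 0) (E'.d_ne 0)] at h1
    rw [hs, div_mul_eq_mul_div, eq_div_iff (E'.d_ne 0), h1, mul_comm]
  have h4 : (E.g : Matrix (Fin 3) (Fin 3) F).map ι = s • (E'.g : Matrix (Fin 3) (Fin 3) F).map ι := by
    refine (Units.isUnit E.P).mul_right_cancel ?_
    rw [E.eq, Matrix.smul_mul, hP, E'.eq, ← Matrix.mul_smul]
    congr 1
    ext i j
    rcases eq_or_ne i j with rfl | hne
    · simp [h3]
    · simp [hne]
  set N := ((E'.g⁻¹ : GL (Fin 3) F) : Matrix (Fin 3) (Fin 3) F) * (E.g : Matrix (Fin 3) (Fin 3) F) with hN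
  have h5 : N.map ι = s • 1 := by
    rw [hN, Matrix.map_mul, h4, Matrix.mul_smul, ← Matrix.map_mul, Units.inv_mul,
      Matrix.map_one ι (map_zero ι) (map_one ι)]
  have h6 : N = N 0 0 • 1 := by
    ext i j
    apply ι.injective
    have e0 := congrFun (congrFun h5 0) 0
    have e := congrFun (congrFun h5 i) j
    simp [Matrix.map_apply] at e0 e
    rcases eq_or_ne i j with rfl | hne
    · simp [e, e0]
    · simp [e, hne]
  have hN0 : N 0 0 ≠ 0 := fun e => by
    rw [e, zero_smul] at h6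
    have : N.det = 0 := by rw [h6, Matrix.det_zero]
    rw [hN, ← Units.val_mul] at this
    exact (Matrix.isUnits_det_units _).ne_zero this
  rw [← E.mk_g, ← E'.mk_g, eq_comm, QuotientGroup.eq]
  exact (mem_scalars_iff _).2 ⟨Units.mk0 _ hN0, by rw [Units.val_mul, Units.val_mk0]; exact h6⟩

/-- An element whose lift commutes with two lifts that do not commute is trivial. -/
theorem eq_one_of_commute {r : ℕ} (hr : (r : F) ≠ 0) {g h m : GL (Fin 3) F} {c : F}
    (hg : (QuotientGroup.mk g : PG F) ^ r = 1) (hc1 : c ≠ 1)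
    (hgh : (g : Matrix (Fin 3) (Fin 3) F) * (h : Matrix (Fin 3) (Fin 3) F) =
      c • ((h : Matrix (Fin 3) (Fin 3) F) * (g : Matrix (Fin 3) (Fin 3) F)))
    (hgm : (g : Matrix (Fin 3) (Fin 3) F) * (m : Matrix (Fin 3) (Fin 3) F) =
      (m : Matrix (Fin 3) (Fin 3) F) * (g : Matrix (Fin 3) (Fin 3) F))
    (hhm : (h : Matrix (Fin 3) (Fin 3) F) * (m : Matrix (Fin 3) (Fin 3) F) =
      (m : Matrix (Fin 3) (Fin 3) F) * (h : Matrix (Fin 3) (Fin 3) F)) :
    (QuotientGroup.mk m : PG F) = 1 := by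
  let ι := algebraMap F (AlgebraicClosure F)
  obtain ⟨h1, h2⟩ := finite_order_lift hr hg
  obtain ⟨P, d, hPd⟩ := Cfsg.Lib.Classical.SLThree.diag_of_order ((g : Matrix (Fin 3) (Fin 3) F).map ι)
    (by rw [← map_natCast ι, map_ne_zero]; exact h2) (by rw [← RingHom.mapMatrix_apply, ← map_pow, h1, map_one])
  let T : Matrix (Fin 3) (Fin 3) F → Matrix (Fin 3) (Fin 3) (AlgebraicClosure F) := fun M =>
    ((P⁻¹ : GL (Fin 3) (AlgebraicClosure F)) : Matrix (Fin 3) (Fin 3) _) * M.map ι * (P : Matrix (Fin 3) (Fin 3) _)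
  have hT : ∀ M N, T (M * N) = T M * T N := fun M N => by
    simp only [T, Matrix.map_mul, mul_assoc, Units.mul_inv_cancel_left]
  have hTs : ∀ (a : F) M, T (a • M) = ι a • T M := fun a M => by
    simp only [T, Matrix.map_smul' _ _ _ (map_mul ι), Matrix.mul_smul, Matrix.smul_mul]
  have hTg : T g = diagonal d := by
    show _ * (g : Matrix (Fin 3) (Fin 3) F).map ι * _ = _
    rw [mul_assoc, hPd, Units.inv_mul_cancel_left]
  have hd : ∀ i, d i ≠ 0 := fun i e => by
    have hdet := congrArg Matrix.det hPd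
    rw [det_mul, det_mul, det_diagonal, Finset.prod_eq_zero (Finset.mem_univ i) e, mul_zero] at hdet
    have h1 : ((g : Matrix (Fin 3) (Fin 3) F).map ι).det ≠ 0 := by
      rw [← RingHom.mapMatrix_apply, ← RingHom.map_det, map_ne_zero]
      exact (Matrix.isUnits_det_units g).ne_zero
    exact mul_ne_zero h1 (Matrix.isUnits_det_units P).ne_zero hdet
  have eh := congrArg T hgh
  rw [hTs, hT, hT, hTg] at eh
  have hH0 : (T h).transpose.det ≠ 0 := by
    rw [det_transpose, det_mul, det_mul, ← RingHom.mapMatrix_apply, ← RingHom.map_det]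
    exact mul_ne_zero (mul_ne_zero (Matrix.isUnits_det_units _).ne_zero
      ((map_ne_zero ι).2 (Matrix.isUnits_det_units h).ne_zero)) (Matrix.isUnits_det_units _).ne_zero
  obtain ⟨π, hπ⟩ := exists_perm hH0
  have hπd : ∀ i, d i = ι c * d (π i) := fun i => by
    have e := congrFun (congrFun eh i) (π i)
    rw [diagonal_mul, Matrix.smul_apply, mul_diagonal, smul_eq_mul] at e
    exact mul_right_cancel₀ (hπ i) (by rw [Matrix.transpose_apply]; linear_combination e)
  have hc : ι c ≠ 1 := fun e => hc1 (ι.injective (e.trans (map_one ι).symm))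
  have hfix : ∀ i, π i ≠ i := fun i e => hc (by
    have h3 := hπd i
    rw [e] at h3
    exact (mul_eq_right₀ (hd i)).1 h3.symm)
  have hfix2 : ∀ i, π (π i) ≠ i :=
    (by decide : ∀ π : Equiv.Perm (Fin 3), (∀ i, π i ≠ i) → ∀ i, π (π i) ≠ i) π hfix
  have hinj : Function.Injective d := by
    intro a b hab
    by_contra hne
    rcases (by decide : ∀ π : Equiv.Perm (Fin 3), (∀ i, π i ≠ i) → ∀ a b, a ≠ b → b = π a ∨ a = π b) π hfix a b hne with rfl | rfl
    · exact hc ((mul_eq_right₀ (hd _)).1 ((hπd a).symm.trans hab))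
    · exact hc ((mul_eq_right₀ (hd _)).1 ((hπd b).symm.trans hab.symm))
  have em := congrArg T hgm
  rw [hT, hT, hTg] at em
  have hdiag : ∀ i j, i ≠ j → T m i j = 0 := fun i j hne => by
    have e := congrFun (congrFun em i) j
    rw [diagonal_mul, mul_diagonal] at e
    by_contra h0
    exact hne (hinj (mul_right_cancel₀ h0 (by linear_combination e)))
  have ehm := congrArg T hhm
  rw [hT, hT] at ehm
  have hTd : T m = diagonal (fun i => T m i i) := by
    ext i j
    rcases eq_or_ne i j with rfl | hne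
    · simp
    · simp [hne, hdiag i j hne]
  have hstep : ∀ i, T m (π i) (π i) = T m i i := fun i => by
    have e := congrFun (congrFun ehm i) (π i)
    rw [hTd, mul_diagonal, diagonal_mul] at e
    exact mul_right_cancel₀ (hπ i) (by rw [Matrix.transpose_apply]; linear_combination e)
  have hall : ∀ i, T m i i = T m 0 0 := fun i => by
    rcases (by decide : ∀ π : Equiv.Perm (Fin 3), (∀ i, π i ≠ i) → ∀ i, i = 0 ∨ i = π 0 ∨ i = π (π 0)) π hfix i with rfl | rfl | rfl
    · rfl
    · exact hstep 0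
    · rw [hstep, hstep]
  have hmm : (m : Matrix (Fin 3) (Fin 3) F).map ι = T m 0 0 • 1 := by
    refine (Units.isUnit ((P⁻¹ : GL (Fin 3) (AlgebraicClosure F)))).mul_left_cancel ?_
    refine (Units.isUnit P).mul_right_cancel ?_
    show T m = _
    rw [Matrix.mul_smul, Matrix.mul_one, Matrix.smul_mul, Units.inv_mul, hTd]
    ext i j
    rcases eq_or_ne i j with rfl | hne
    · simp [hall i]
    · simp [hne]
  have h6 : (m : Matrix (Fin 3) (Fin 3) F) = (m : Matrix (Fin 3) (Fin 3) F) 0 0 • 1 := by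
    ext i j
    apply ι.injective
    have e0 := congrFun (congrFun hmm 0) 0
    have e := congrFun (congrFun hmm i) j
    simp [Matrix.map_apply] at e0 e
    rcases eq_or_ne i j with rfl | hne
    · simp [e, e0]
    · simp [e, hne]
  rw [QuotientGroup.eq_one_iff]
  refine (mem_scalars_iff _).2 ⟨Units.mk0 _ fun e => ?_, h6⟩
  have : (m : Matrix (Fin 3) (Fin 3) F).det = 0 := by
    rw [h6, det_smul, Fintype.card_fin]
    exact mul_eq_zero_of_left ((pow_eq_zero_iff three_ne_zero).2 e) _
  exact (Matrix.isUnits_det_units m).ne_zero this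

/-- The rank bound. -/
theorem card_le_sq {r : ℕ} (hr : r.Prime) (hrF : (r : F) ≠ 0) (A : Subgroup (PG F))
    (hab : ∀ a ∈ A, ∀ b ∈ A, a * b = b * a) (hexp : ∀ a ∈ A, a ^ r = 1) : Nat.card A ≤ r * r := by
  classical
  by_cases hcomm : ∀ g h : GL (Fin 3) F, (QuotientGroup.mk g : PG F) ∈ A → (QuotientGroup.mk h : PG F) ∈ A →
      (g : Matrix (Fin 3) (Fin 3) F) * (h : Matrix (Fin 3) (Fin 3) F) =
        (h : Matrix (Fin 3) (Fin 3) F) * (g : Matrix (Fin 3) (Fin 3) F)
  · obtain ⟨P, d, hE⟩ := exists_common hrF A hexp hcomm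
    choose E hEP hEd using hE
    obtain ⟨hfin, hcard⟩ := card_nthRoots_sq (K := AlgebraicClosure F) hr.pos
    have hroot : ∀ (a : A) i, (d a i / d a 0) ^ r = 1 := fun a i => by
      have h := ((E a).pow_eq_iff r 0).1 (by rw [hexp _ a.2, pow_zero]) i 0
      rwa [hEd, pow_zero] at h
    let f : A → {z : AlgebraicClosure F × AlgebraicClosure F // z.1 ^ r = 1 ∧ z.2 ^ r = 1} :=
      fun a => ⟨(d a 1 / d a 0, d a 2 / d a 0), hroot a 1, hroot a 2⟩
    haveI := hfin
    refine (Nat.card_le_card_of_injective f fun a b e => Subtype.ext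
      (eq_of_ratios (E a) (E b) ((hEP a).trans (hEP b).symm) fun i => ?_)).trans hcard
    rw [hEd, hEd]
    have e' := congrArg Subtype.val e
    fin_cases i
    · simp [div_self, (E a).d_ne 0 |> fun h => hEd a ▸ h, (E b).d_ne 0 |> fun h => hEd b ▸ h]
    · exact congrArg Prod.fst e'
    · exact congrArg Prod.snd e'
  · push Not at hcomm
    obtain ⟨g, h, hgA, hhA, hne⟩ := hcomm
    obtain ⟨c, hc3, hgh⟩ := comm_scalar (hab _ hgA _ hhA)
    have hc1 : c ≠ 1 := fun e => hne (by rw [hgh, e, one_smul])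
    have hgr : (g : Matrix (Fin 3) (Fin 3) F) ^ r * (h : Matrix (Fin 3) (Fin 3) F) =
        (h : Matrix (Fin 3) (Fin 3) F) * (g : Matrix (Fin 3) (Fin 3) F) ^ r := by
      have h0 := hexp _ hgA
      rw [← QuotientGroup.mk_pow, QuotientGroup.eq_one_iff] at h0
      obtain ⟨z, -, hz⟩ := scalar_of_mem h0
      rw [← Units.val_pow_eq_pow_val, hz, Matrix.smul_mul, Matrix.mul_smul, Matrix.one_mul, Matrix.mul_one]
    have hcr : c ^ r = 1 := by
      by_contra hne1
      have e := commutator_pow hgh r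
      rw [hgr] at e
      have e2 : (1 - c ^ r) • ((h : Matrix (Fin 3) (Fin 3) F) * (g : Matrix (Fin 3) (Fin 3) F) ^ r) = 0 := by
        rw [sub_smul, one_smul, ← e, sub_self]
      rcases smul_eq_zero.1 e2 with h1 | h1
      · exact hne1 (sub_eq_zero.1 h1).symm
      · have : ((h * g ^ r : GL (Fin 3) F) : Matrix (Fin 3) (Fin 3) F) = 0 := by
          rw [Units.val_mul, Units.val_pow_eq_pow_val]; exact h1
        exact Units.ne_zero _ this
    have hr3 : r = 3 := by
      by_contra hne3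
      have hg1 : c ^ (Nat.gcd r 3) = 1 := pow_gcd_eq_one.2 ⟨hcr, hc3⟩
      rw [(Nat.coprime_primes hr Nat.prime_three).2 hne3, pow_one] at hg1
      exact hc1 hg1
    subst hr3
    choose L hL using fun a : A => QuotientGroup.mk_surjective (a : PG F)
    have hLA : ∀ a, (QuotientGroup.mk (L a) : PG F) ∈ A := fun a => by rw [hL]; exact a.2
    choose s hs3 hs using fun a : A => comm_scalar (hab _ hgA _ (hLA a))
    choose t ht3 ht using fun a : A => comm_scalar (hab _ hhA _ (hLA a))
    obtain ⟨hfin, hcard⟩ := card_nthRoots_sq (K := F) (r := 3) (by norm_num)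
    haveI := hfin
    let f : A → {z : F × F // z.1 ^ 3 = 1 ∧ z.2 ^ 3 = 1} := fun a => ⟨(s a, t a), hs3 a, ht3 a⟩
    refine (Nat.card_le_card_of_injective f fun a b e => ?_).trans hcard
    have e' := congrArg Subtype.val e
    have key : ∀ (G : GL (Fin 3) F) (u : F) (X Y : GL (Fin 3) F),
        (G : Matrix (Fin 3) (Fin 3) F) * (X : Matrix (Fin 3) (Fin 3) F) = u • ((X : Matrix (Fin 3) (Fin 3) F) * G) →
        (G : Matrix (Fin 3) (Fin 3) F) * (Y : Matrix (Fin 3) (Fin 3) F) = u • ((Y : Matrix (Fin 3) (Fin 3) F) * G) →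
        (G : Matrix (Fin 3) (Fin 3) F) * ((X⁻¹ * Y : GL (Fin 3) F) : Matrix (Fin 3) (Fin 3) F) =
          ((X⁻¹ * Y : GL (Fin 3) F) : Matrix (Fin 3) (Fin 3) F) * G := fun G u X Y hX hY => by
      refine (Units.isUnit X).mul_left_cancel ?_
      have hu : u ≠ 0 := fun e => Units.ne_zero (G * X) (by rw [Units.val_mul, hX, e, zero_smul])
      apply smul_right_injective _ hu
      dsimp only
      rw [← mul_assoc, ← Matrix.smul_mul, ← hX, Units.val_mul, mul_assoc, Units.mul_inv_cancel_left, ← mul_assoc,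
        Units.mul_inv_cancel_left, hY]
    have hm := eq_one_of_commute hrF (g := g) (h := h) (m := (L a)⁻¹ * L b) (hexp _ hgA) hc1 hgh
      (key g (s a) (L a) (L b) (hs a) (by rw [show s a = s b from congrArg Prod.fst e']; exact hs b))
      (key h (t a) (L a) (L b) (ht a) (by rw [show t a = t b from congrArg Prod.snd e']; exact ht b))
    rw [QuotientGroup.mk_mul, QuotientGroup.mk_inv, hL, hL, inv_mul_eq_one] at hm
    exact Subtype.ext hm

end Cfsg.Lib.MitchellThree
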