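import Cfsg.Agent.MitchellThree.Torus
import Mathlib.GroupTheory.Transfer
import Mathlib.GroupTheory.Sylow
import Mathlib.GroupTheory.SpecificGroups.Cyclic

/-!
A simple group of order 7920 whose involution centralizers have order 48 has no faithful projective representation of
degree three in odd characteristic.
-/

set_option autoImplicit false
set_option linter.unusedSectionVars false

namespace Cfsg.Lib.MitchellThree

open Subgroup

universe u v

variable {F : Type u} [Field F] [Finite F] {L : Type v} [Group L] [Finite L]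

/-- A cyclic Sylow subgroup with a small automiser. -/
theorem count_cyclic [IsSimpleGroup L] (hna : ¬ IsMulCommutative L) (j : L →* PG F) (hj : Function.Injective j) {r : ℕ}
    [Fact r.Prime] (h3 : ¬ 3 ∣ r - 1) (hr2 : r ≠ 2) (hrF : (r : F) ≠ 0) (hdvd : r ∣ Nat.card L)
    (hsq : ¬ r ^ 2 ∣ Nat.card L)
    (hcen : ∀ x t : L, orderOf x = r → orderOf t = 2 → t * x ≠ x * t) :
    ∃ n o : ℕ, n % r = 1 ∧ Odd o ∧ r ∣ o ∧ n * (o * 2) = Nat.card L := by
  haveI : Fact (Nat.Prime 2) := ⟨Nat.prime_two⟩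
  have hr := (Fact.out : r.Prime)
  obtain ⟨x, hx⟩ := exists_prime_orderOf_dvd_card' r hdvd
  have hxp : IsPGroup r (zpowers x) := IsPGroup.of_card (n := 1) (by rw [Nat.card_zpowers, hx, pow_one])
  obtain ⟨P, hP⟩ := hxp.exists_le_sylow
  have hPc : Nat.card P = r := by
    obtain ⟨n, hn⟩ := P.2.exists_card_eq
    have h1 : r ∣ Nat.card P := by
      have := card_dvd_of_le hP
      rwa [Nat.card_zpowers, hx] at this
    have hn0 : n ≠ 0 := fun e => by rw [hn, e, pow_zero] at h1; exact hr.one_lt.ne' (Nat.dvd_one.1 h1)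
    have hn1 : ¬ 2 ≤ n := fun e => hsq ((pow_dvd_pow r e).trans (hn ▸ (P : Subgroup L).card_subgroup_dvd_card))
    rw [hn, show n = 1 by omega, pow_one]
  have hPx : (P : Subgroup L) = zpowers x :=
    (Subgroup.eq_of_le_of_card_ge hP (by rw [hPc, Nat.card_zpowers, hx])).symm
  haveI : IsCyclic (P : Subgroup L) := isCyclic_of_prime_card hPc
  set N := normalizer ((P : Subgroup L) : Set L)
  set φ := normalizerMonoidHom (P : Subgroup L) with hφ
  set o := Nat.card φ.ker
  have hxN : x ∈ N := le_normalizer (hP (mem_zpowers x))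
  have hkx : ∀ y ∈ φ.ker, (y : L) * x = x * y := fun y hy => by
    rw [hφ, normalizerMonoidHom_ker, mem_subgroupOf] at hy
    exact (mem_centralizer_iff.1 hy x (hP (mem_zpowers x))).symm
  have hodd : Odd o := Nat.not_even_iff_odd.1 fun he => by
    obtain ⟨y, hy⟩ := exists_prime_orderOf_dvd_card' (G := φ.ker) 2 he.two_dvd
    exact hcen x ((y : N) : L) hx (by rw [orderOf_coe, orderOf_coe, hy]) (hkx _ y.2)
  have hro : r ∣ o := by
    have hm : (⟨x, hxN⟩ : N) ∈ φ.ker := by
      rw [hφ, normalizerMonoidHom_ker, mem_subgroupOf, mem_centralizer_iff]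
      intro y hy
      rw [SetLike.mem_coe, hPx] at hy
      obtain ⟨k, rfl⟩ := hy
      exact ((Commute.refl x).zpow_left k).eq
    have h := orderOf_dvd_natCard φ.ker hm
    rwa [orderOf_mk, hx] at h
  have hcardN : Nat.card N = o * Nat.card φ.range := by
    rw [← φ.ker.card_mul_index, index_ker]
  have hcnt : Nat.card (Sylow r L) % r = 1 := by
    rw [(card_sylow_modEq_one r L : _ % r = _), Nat.mod_eq_of_lt hr.one_lt]
  have hAut : Nat.card (MulAut (P : Subgroup L)) = r - 1 := by
    rw [Nat.card_congr (IsCyclic.mulAutMulEquiv (P : Subgroup L)).toEquiv, Nat.card_eq_fintype_card,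
      ZMod.card_units_eq_totient, hPc, Nat.totient_prime hr]
  have hdiv : Nat.card φ.range ∣ r - 1 := hAut ▸ φ.range.card_subgroup_dvd_card
  haveI : IsCyclic (ZMod (Nat.card (P : Subgroup L)))ˣ := by rw [hPc]; infer_instance
  haveI : IsCyclic (MulAut (P : Subgroup L)) :=
    isCyclic_of_surjective (IsCyclic.mulAutMulEquiv (P : Subgroup L)).symm.toMonoidHom
      (IsCyclic.mulAutMulEquiv (P : Subgroup L)).symm.surjective
  obtain ⟨σ, hσ⟩ := IsCyclic.exists_generator (α := φ.range)
  have hσo : orderOf σ = Nat.card φ.range := orderOf_eq_card_of_forall_mem_zpowers hσ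
  obtain ⟨y, hy⟩ := σ.2
  have hxP : x ∈ (P : Subgroup L) := hP (mem_zpowers x)
  have hyx : (y : L) * x * (y : L)⁻¹ ∈ zpowers x := hPx ▸ (mem_normalizer_iff.1 y.2 x).1 hxP
  obtain ⟨k, hk⟩ := (isOfFinOrder_of_finite x).mem_powers_iff_mem_zpowers.2 hyx
  have hk' : (y : L) * x * (y : L)⁻¹ = x ^ k := hk.symm
  have hact : Act (j x) k := Or.inl ⟨j y, by rw [← map_inv, ← map_mul, ← map_mul, hk', map_pow]⟩
  have hpow : ∀ n : ℕ, ((σ : MulAut (P : Subgroup L)) ^ n) ⟨x, hxP⟩ = ⟨x ^ k ^ n, pow_mem hxP _⟩ := fun n => by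
    induction n with
    | zero => simp
    | succ n ih =>
      rw [pow_succ', MulAut.mul_apply, ih, ← hy, show (⟨x ^ k ^ n, pow_mem hxP _⟩ : (P : Subgroup L)) = ⟨x, hxP⟩ ^ k ^ n from rfl,
        map_pow]
      refine Subtype.ext ?_
      show ((y : L) * x * (y : L)⁻¹) ^ k ^ n = _
      rw [hk', ← pow_mul, pow_succ']
  have hone : ∀ n : ℕ, x ^ k ^ n = x → Nat.card φ.range ∣ n := fun n e => by
    rw [← hσo]
    refine orderOf_dvd_of_pow_eq_one (Subtype.ext ?_)
    rw [SubmonoidClass.coe_pow]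
    ext ⟨z, hz⟩
    rw [hPx] at hz
    obtain ⟨i, rfl⟩ := hz
    rw [show (⟨x ^ i, _⟩ : (P : Subgroup L)) = ⟨x, hxP⟩ ^ i from rfl, map_zpow, hpow]
    simp [e]
  have hj1 : Nat.card φ.range ≠ 1 := fun e => by
    have hle : N ≤ centralizer ((P : Subgroup L) : Set L) := fun z hz => by
      have : φ ⟨z, hz⟩ = 1 := by
        have hm : φ ⟨z, hz⟩ ∈ φ.range := ⟨_, rfl⟩
        rwa [card_eq_one.1 e, mem_bot] at hm
      have hm : (⟨z, hz⟩ : N) ∈ φ.ker := this
      rwa [hφ, normalizerMonoidHom_ker, mem_subgroupOf] at hm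
    have hc := MonoidHom.ker_transferSylow_isComplement' P hle
    rcases (inferInstance : (MonoidHom.transferSylow P hle).ker.Normal).eq_bot_or_eq_top with h | h
    · rw [h, isComplement'_bot_left] at hc
      haveI : IsCyclic L := isCyclic_of_prime_card (p := r) (by rw [← hPc, hc, card_top])
      exact hna ⟨⟨(IsCyclic.commGroup (α := L)).mul_comm⟩⟩
    · rw [h, isComplement'_top_left] at hc
      rw [hc, card_bot] at hPc
      exact hr.one_lt.ne hPc
  have hj2 : Nat.card φ.range = 2 := by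
    have h23 : Nat.card φ.range ∣ 2 ∨ Nat.card φ.range ∣ 3 := by
      rcases sq_or_cube (by rwa [orderOf_injective _ hj, hx]) hact with e | e <;> rw [← map_pow] at e <;>
        have e' := hj e
      · exact Or.inl (hone 2 (by rwa [pow_two]))
      · exact Or.inr (hone 3 (by rwa [pow_three, ← mul_assoc]))
    rcases h23 with h | h
    · exact ((Nat.dvd_prime Nat.prime_two).1 h).resolve_left hj1
    · have h3' := ((Nat.dvd_prime Nat.prime_three).1 h).resolve_left hj1
      exact absurd (h3' ▸ hdiv) h3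
  refine ⟨Nat.card (Sylow r L), o, hcnt, hodd, hro, ?_⟩
  rw [Sylow.card_eq_index_normalizer P, ← hj2, ← hcardN]
  exact index_mul_card N

/-- There is no group of order 7920 with these centralizers in the projective linear group. -/
theorem no_order_7920 [IsSimpleGroup L] (hna : ¬ IsMulCommutative L) (j : L →* PG F) (hj : Function.Injective j)
    (hcard : Nat.card L = 7920) (hcen : ∀ t : L, orderOf t = 2 → Nat.card (centralizer ({t} : Set L)) = 48) : False := by
  have hc : ∀ r : ℕ, ¬ r ∣ 48 → ∀ x t : L, orderOf x = r → orderOf t = 2 → t * x ≠ x * t := fun r hr x t hx ht e => by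
    refine hr ?_
    rw [← hcen t ht, ← hx, ← orderOf_mk x (mem_centralizer_singleton_iff.2 e.symm)]
    exact orderOf_dvd_natCard _
  by_cases h5 : (5 : F) = 0
  · haveI : Fact (Nat.Prime 11) := ⟨by norm_num⟩
    have h11 : ((11 : ℕ) : F) ≠ 0 := fun e => by
      push_cast at e
      exact one_ne_zero (α := F) (by linear_combination e - 2 * h5)
    obtain ⟨n, o, hn, ho, hd, hmul⟩ := count_cyclic hna j hj (r := 11) (by norm_num) (by norm_num) h11
      (by rw [hcard]; norm_num) (by rw [hcard]; norm_num) (hc 11 (by norm_num))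
    obtain ⟨o', rfl⟩ := hd
    rw [hcard] at hmul
    have hno : n * o' = 360 := by linarith
    have key : ∀ d ∈ Nat.divisors 360, d % 11 = 1 → (360 / d) % 2 = 0 := by decide +kernel
    have h := key n (Nat.mem_divisors.2 ⟨⟨o', hno.symm⟩, by norm_num⟩) hn
    rw [Nat.div_eq_of_eq_mul_right (Nat.pos_of_ne_zero fun e => by rw [e, zero_mul] at hno; omega) hno.symm] at h
    rcases ho with ⟨i, hi⟩
    omega
  · haveI : Fact (Nat.Prime 5) := ⟨by norm_num⟩
    obtain ⟨n, o, hn, ho, hd, hmul⟩ := count_cyclic hna j hj (r := 5) (by norm_num) (by norm_num) (by exact_mod_cast h5)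
      (by rw [hcard]; norm_num) (by rw [hcard]; norm_num) (hc 5 (by norm_num))
    obtain ⟨o', rfl⟩ := hd
    rw [hcard] at hmul
    have hno : n * o' = 792 := by linarith
    have key : ∀ d ∈ Nat.divisors 792, d % 5 = 1 → (792 / d) % 2 = 0 := by decide +kernel
    have h := key n (Nat.mem_divisors.2 ⟨⟨o', hno.symm⟩, by norm_num⟩) hn
    rw [Nat.div_eq_of_eq_mul_right (Nat.pos_of_ne_zero fun e => by rw [e, zero_mul] at hno; omega) hno.symm] at h
    rcases ho with ⟨i, hi⟩
    omega

end Cfsg.Lib.MitchellThree
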