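import Cfsg.Agent.MitchellThree.Linear
import Cfsg.Agent.Classical.Misc.PSLFrame

/-!
Automorphisms of `PSL₂(9)` seen on its elements of order five.
-/

set_option autoImplicit false
set_option linter.unusedSectionVars false

namespace Cfsg.Lib.MitchellThree.Two

open Matrix Cfsg.Lib.Known.AutPSLn
open scoped MatrixGroups

universe u

variable {K : Type} [Field K] [Fintype K] {F : Type u} [Field F] [Finite F]

local notation "P2" => Matrix.ProjectiveSpecialLinearGroup (Fin 2) K
local notation "M2" => Matrix (Fin 2) (Fin 2) K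

theorem pow_eq_one_iff_dvd' {G : Type*} [Monoid G] {x : G} {n k : ℕ} (h : orderOf x = n) : x ^ k = 1 ↔ n ∣ k := by
  rw [← h, orderOf_dvd_iff_pow_eq_one]

theorem mod_eq_of_pow_eq {G : Type*} [Group G] [Finite G] {x : G} {n k l : ℕ} (h : orderOf x = n) (e : x ^ k = x ^ l) :
    k % n = l % n := by
  subst h
  exact pow_eq_pow_iff_modEq.1 e

theorem exists_eighth (hK : Fintype.card K = 9) :
    ∃ t : Kˣ, orderOf t = 8 ∧ (t : K) ^ 4 = -1 ∧ ∀ u : Kˣ, ∃ n : ℕ, t ^ n = u := by
  obtain ⟨t, ht, hgen⟩ := exists_gen (K := K)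
  rw [hK] at ht
  refine ⟨t, ht, ?_, hgen⟩
  have h1 : ((t : K) ^ 4) * ((t : K) ^ 4) = 1 := by
    rw [← pow_add, ← Units.val_pow_eq_pow_val, show 4 + 4 = orderOf t by rw [ht], pow_orderOf_eq_one, Units.val_one]
  refine (mul_self_eq_one_iff.1 h1).resolve_left fun e => ?_
  have h2 : t ^ 4 = 1 := Units.ext (by rw [Units.val_pow_eq_pow_val, e, Units.val_one])
  have := Nat.le_of_dvd (by norm_num) (ht ▸ orderOf_dvd_of_pow_eq_one h2)
  omega

theorem three_eq_zero (hK : Fintype.card K = 9) : (3 : K) = 0 := by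
  have h := FiniteField.cast_card_eq_zero K
  rw [hK] at h
  have h3 : (3 : K) * 3 = 0 := by norm_num at h ⊢; exact h
  exact mul_self_eq_zero.1 h3

theorem eighth_cases (hK : Fintype.card K = 9) {t : K} (ht : t ^ 4 = -1) (τ : K ≃+* K) :
    τ t ≠ -t ∧ τ t ≠ t⁻¹ ∧ (τ t = t → τ = 1) := by
  classical
  have h2 := two_ne_zero_of_odd (K := K) (by rw [hK]; decide)
  have ht0 : t ≠ 0 := fun e => by rw [e, zero_pow (by norm_num)] at ht; exact one_ne_zero (neg_eq_zero.1 ht.symm)
  set u := Units.mk0 t ht0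
  have hord : orderOf u = 8 := by
    refine orderOf_eq_prime_pow (p := 2) (n := 2) ?_ ?_
    · intro e
      have h := congrArg Units.val e
      rw [Units.val_pow_eq_pow_val, Units.val_one, Units.val_mk0, show (2 : ℕ) ^ 2 = 4 by norm_num, ht] at h
      exact h2 (by linear_combination -h)
    · refine Units.ext ?_
      rw [Units.val_pow_eq_pow_val, Units.val_one, Units.val_mk0, show (2 : ℕ) ^ (2 + 1) = 4 * 2 by norm_num, pow_mul,
        ht]
      ring
  have hgen : ∀ y : K, y ≠ 0 → ∃ n : ℕ, y = t ^ n := fun y hy => by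
    have htop : Subgroup.zpowers u = ⊤ := by
      apply Subgroup.eq_top_of_card_eq
      rw [Nat.card_zpowers, hord, Nat.card_eq_fintype_card, Fintype.card_units, hK]
    have hu : Units.mk0 y hy ∈ Subgroup.zpowers u := htop ▸ Subgroup.mem_top _
    obtain ⟨n, hn⟩ := (isOfFinOrder_of_finite u).mem_powers_iff_mem_zpowers.2 hu
    exact ⟨n, by simpa [u] using (congrArg Units.val hn).symm⟩
  refine ⟨fun e => ?_, fun e => ?_, fun e => ?_⟩
  · obtain ⟨n, hn⟩ := hgen (1 + t) (fun h => h2 (by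
      have h1 : t = -1 := by linear_combination h
      rw [h1] at ht; linear_combination ht))
    have h1 := congrArg τ hn
    rw [map_add, map_one, e, map_pow, e, neg_pow, ← hn] at h1
    rcases neg_one_pow_eq_or K n with h | h <;> rw [h] at h1
    · exact ht0 (mul_left_cancel₀ h2 (by linear_combination -h1))
    · exact h2 (by linear_combination h1)
  · obtain ⟨n, hn⟩ := hgen (1 + t) (fun h => h2 (by
      have h1 : t = -1 := by linear_combination h
      rw [h1] at ht; linear_combination ht))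
    have h1 := congrArg τ hn
    rw [map_add, map_one, e, map_pow, e, inv_pow, ← hn] at h1
    have h0 : (1 + t) ≠ 0 := by rw [hn]; exact pow_ne_zero _ ht0
    field_simp at h1
    have h3 := three_eq_zero hK
    have : (t - 1) * (t - 1) = 0 := by linear_combination h1 - t * h3
    rw [mul_self_eq_zero, sub_eq_zero] at this
    rw [this, one_pow] at ht
    exact h2 (by linear_combination ht)
  · refine RingEquiv.ext fun y => ?_
    show τ y = y
    rcases eq_or_ne y 0 with rfl | hy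
    · simp
    obtain ⟨n, rfl⟩ := hgen y hy
    rw [map_pow, e]

theorem exists_five (hK : Fintype.card K = 9) : ∃ x y : P2, orderOf x = 5 ∧ y * x * y⁻¹ = x⁻¹ := by
  obtain ⟨e⟩ := Cfsg.Lib.Classical.PSLNine.psl_nine hK
  let c : Equiv.Perm (Fin 6) := Equiv.swap 0 4 * Equiv.swap 0 3 * Equiv.swap 0 2 * Equiv.swap 0 1
  let d : Equiv.Perm (Fin 6) := Equiv.swap 1 4 * Equiv.swap 2 3
  have hc : Equiv.Perm.sign c = 1 := by decide
  have hd : Equiv.Perm.sign d = 1 := by decide
  refine ⟨e.symm ⟨c, hc⟩, e.symm ⟨d, hd⟩, ?_, ?_⟩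
  · rw [MulEquiv.orderOf_eq]
    refine (orderOf_injective (alternatingGroup (Fin 6)).subtype Subtype.val_injective _).symm.trans ?_
    show orderOf c = 5
    exact orderOf_eq_prime (hp := ⟨by norm_num⟩) (by decide +kernel) (by decide +kernel)
  · rw [← map_inv, ← map_mul, ← map_mul, ← map_inv]
    congr 1
    exact Subtype.ext (show d * c * d⁻¹ = c⁻¹ by decide +kernel)

theorem conj_five (hK : Fintype.card K = 9) {x x' : P2} (hx : orderOf x = 5) (hx' : orderOf x' = 5) :
    ∃ (m : P2) (k : ℕ), m * x' * m⁻¹ = x ^ k := by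
  classical
  haveI : Fact (Nat.Prime 5) := ⟨by norm_num⟩
  have hcard : Nat.card P2 = 360 := by
    obtain ⟨e⟩ := Cfsg.Lib.Classical.PSLNine.psl_nine hK
    rw [Nat.card_congr e.toEquiv, nat_card_alternatingGroup, Nat.card_eq_fintype_card, Fintype.card_fin]
    rfl
  have syl : ∀ y : P2, orderOf y = 5 → ∃ S : Sylow 5 P2, (S : Subgroup P2) = Subgroup.zpowers y := by
    intro y hy
    have hP : IsPGroup 5 (Subgroup.zpowers y) := IsPGroup.of_card (n := 1) (by rw [Nat.card_zpowers, hy, pow_one])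
    obtain ⟨S, hS⟩ := hP.exists_le_sylow
    refine ⟨S, (Subgroup.eq_of_le_of_card_ge hS ?_).symm⟩
    obtain ⟨n, hn⟩ := IsPGroup.iff_card.1 S.isPGroup'
    rw [Nat.card_zpowers, hy, hn]
    have hdvd := Subgroup.card_subgroup_dvd_card (S : Subgroup P2)
    rw [hn, hcard] at hdvd
    have hn1 : n ≤ 1 := by
      by_contra hlt
      have h25 : 5 ^ 2 ∣ 360 := (pow_dvd_pow 5 (by omega : 2 ≤ n)).trans hdvd
      norm_num at h25
    calc 5 ^ n ≤ 5 ^ 1 := Nat.pow_le_pow_right (by norm_num) hn1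
      _ = 5 := pow_one 5
  obtain ⟨S, hS⟩ := syl x hx
  obtain ⟨S', hS'⟩ := syl x' hx'
  obtain ⟨m, hm⟩ := MulAction.exists_smul_eq P2 S' S
  refine ⟨m, ?_⟩
  have hmem : m * x' * m⁻¹ ∈ (S : Subgroup P2) := by
    rw [← hm, Sylow.coe_subgroup_smul]
    exact ⟨x', by show x' ∈ (S' : Subgroup P2); rw [hS']; exact Subgroup.mem_zpowers x', rfl⟩
  rw [hS] at hmem
  obtain ⟨k, hk⟩ := (isOfFinOrder_of_finite x).mem_powers_iff_mem_zpowers.2 hmem
  exact ⟨k, hk.symm⟩

theorem trace_five {M : SL(2, K)} (h5 : pr M ^ 5 = 1) (hne : pr M ≠ 1) :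
    (M : M2).trace ^ 4 - 3 * (M : M2).trace ^ 2 + 1 = 0 := by
  have h := Cfsg.Lib.Classical.PSLFrame.sq_val (s := M)
  set A := (M : M2)
  set t := A.trace
  rw [← map_pow] at h5
  obtain ⟨c, hc, hc'⟩ := pr_eq_iff.1 ((map_one pr).trans h5.symm)
  have hc'' : A ^ 5 = c • (1 : M2) := (Matrix.SpecialLinearGroup.coe_pow M 5).symm.trans hc'
  have e : A ^ 5 = (t ^ 4 - 3 * t ^ 2 + 1) • A - (t ^ 3 - 2 * t) • (1 : M2) := by
    have h3 : A * A * A = (t ^ 2 - 1) • A - t • (1 : M2) := by
      rw [h, sub_mul, Matrix.smul_mul, h, Matrix.one_mul]; module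
    have h4 : A * A * A * A = (t ^ 3 - 2 * t) • A - (t ^ 2 - 1) • (1 : M2) := by
      rw [h3, sub_mul, Matrix.smul_mul, Matrix.smul_mul, h, Matrix.one_mul]; module
    rw [show A ^ 5 = A * A * A * A * A by noncomm_ring, h4, sub_mul, Matrix.smul_mul, Matrix.smul_mul, h,
      Matrix.one_mul]
    module
  by_contra hv
  refine hne ?_
  set v := t ^ 4 - 3 * t ^ 2 + 1
  have hA : A = (v⁻¹ * (c + (t ^ 3 - 2 * t))) • (1 : M2) := by
    rw [mul_smul, add_smul, ← hc'', e, sub_add_cancel, inv_smul_smul₀ hv]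
  symm
  rw [← map_one (pr (K := K))]
  refine pr_eq_iff.2 ⟨_, ?_, hA⟩
  have hd : A.det = 1 := M.2
  rwa [hA, det_smul, det_one, mul_one, Fintype.card_fin, pow_two] at hd

variable (E : Emb K F)

theorem Emb.five_mod (E : Emb K F) (hK : Fintype.card K = 9) (h5 : (5 : F) ≠ 0) : Nat.card F % 5 = 1 ∨ Nat.card F % 5 = 4 := by
  obtain ⟨x, y, hx, hy⟩ := exists_five hK
  have hord : orderOf (E.J x) = 5 := by rw [orderOf_injective _ E.J_injective, hx]
  have hk : Act (E.J x) 4 := E.act_inner (y := y) (by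
    rw [hy]; exact inv_eq_of_mul_eq_one_right (by rw [← pow_succ']; rw [show 4 + 1 = orderOf x by rw [hx]]; exact pow_orderOf_eq_one x))
  rcases second (l := Nat.card F) (by rw [hord]; exact_mod_cast h5)
      (by rw [Ne, pow_eq_one_iff_dvd' hord]; norm_num) hk (Or.inr rfl)
      (by rw [← pow_mul_pow_sub _ (show 1 ≤ 4 * 4 by norm_num), pow_one, show 4 * 4 - 1 = 5 * 3 by norm_num, pow_mul,
        ← hord, pow_orderOf_eq_one, one_pow, mul_one])
      (fun e => by have := mod_eq_of_pow_eq hord (e.trans (pow_one _).symm); norm_num at this) with e | e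
  · left; exact mod_eq_of_pow_eq hord (e.trans (pow_one _).symm)
  · right; exact mod_eq_of_pow_eq hord e

theorem Emb.five_tau (hK : Fintype.card K = 9) (h5 : (5 : F) ≠ 0) :
    ∀ (ν : Kˣ) (τ : K ≃+* K), conjP (dg ν) * fieldP τ ∈ E.A → τ = 1 := by
  intro ν τ hmem
  obtain ⟨x, -, hx, -⟩ := exists_five hK
  obtain ⟨M, rfl⟩ := QuotientGroup.mk'_surjective _ x
  set β : MulAut P2 := conjP (dg ν) * fieldP τ
  have hx' : orderOf (β (pr M)) = 5 := by rw [MulEquiv.orderOf_eq]; exact hx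
  obtain ⟨m, k, hm⟩ := conj_five hK hx hx'
  have hmem' : MulAut.conj m * β ∈ E.A := E.A.mul_mem (E.inn m) hmem
  have hval : (MulAut.conj m * β) (pr M) = pr M ^ k := hm
  have hord : orderOf (E.J (pr M)) = 5 := by rw [orderOf_injective _ E.J_injective]; exact hx
  have hk0 : ¬ 5 ∣ k := fun h => by
    have : β (pr M) = 1 := conj_eq_one_iff.1 (hval.trans ((pow_eq_one_iff_dvd' hx).2 h))
    rw [this, orderOf_one] at hx'
    norm_num at hx'
  have hcases : k % 5 = 1 ∨ k % 5 = 4 := by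
    have key : ∀ r < 5, (r * r % 5 = 1 ∨ r * r * r % 5 = 1) → r = 1 ∨ r = 4 := by decide
    refine key (k % 5) (Nat.mod_lt _ (by norm_num)) ?_
    rcases sq_or_cube (by rw [hord]; exact_mod_cast h5) (E.act_aut hmem' hval) with e | e
    · left
      have := mod_eq_of_pow_eq hord (e.trans (pow_one _).symm)
      rw [Nat.mul_mod] at this; simpa using this
    · right
      have := mod_eq_of_pow_eq hord (e.trans (pow_one _).symm)
      rw [Nat.mul_mod, Nat.mul_mod k k] at this; simpa [Nat.mul_mod] using this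
  set t := (M : M2).trace
  obtain ⟨m, rfl⟩ := QuotientGroup.mk'_surjective _ m
  let g := Matrix.SpecialLinearGroup.toGL m * dg ν
  have hx5 : pr M ^ 5 = 1 := hx ▸ pow_orderOf_eq_one _
  have hsol : ∀ N : SL(2, K), pr M ^ k = pr N → (N : M2).trace = t → τ t = t ∨ τ t = -t := by
    intro N hN hNt
    have h1 : pr (conjSL g (fieldSL τ M)) = pr N := by
      rw [← hN, ← hval]
      show _ = (MulAut.conj (pr m) * (conjP (dg ν) * fieldP τ) : MulAut P2) (pr M)
      rw [← conjP_toGL, ← mul_assoc, ← map_mul]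
      rfl
    obtain ⟨c, hc, hN'⟩ := pr_eq_iff.1 h1
    have h2 : t = c * τ t := by
      conv_lhs => rw [← hNt, hN', trace_smul, smul_eq_mul]
      congr 1
      rw [Cfsg.Lib.Known.AutPSLn.coe_conjSL, trace_mul_comm, ← mul_assoc, Units.inv_mul, one_mul, coe_fieldSL]
      simp [t, trace_fin_two, map_add]
    rcases mul_self_eq_one_iff.1 hc with rfl | rfl
    · left; linear_combination -h2
    · right; linear_combination h2
  have htau : τ t = t ∨ τ t = -t := by
    rcases hcases with h | h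
    · exact hsol M (by rw [← Nat.div_add_mod k 5, h, pow_add, pow_mul, hx5, one_pow, one_mul, pow_one]) rfl
    · refine hsol M⁻¹ ?_ ?_
      · rw [← Nat.div_add_mod k 5, h, pow_add, pow_mul, hx5, one_pow, one_mul, map_inv]
        exact (inv_eq_of_mul_eq_one_right (by rw [← pow_succ']; exact hx5)).symm
      · rw [Cfsg.Lib.Known.AutPSL2.cinv, adjugate_fin_two]
        simp [t, trace_fin_two, add_comm]
  have hne : pr M ≠ 1 := fun e => by
    have : orderOf (pr M) = 5 := hx
    rw [e, orderOf_one] at this; norm_num at this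
  have ht4 : t ^ 4 = -1 := by
    have := trace_five hx5 hne
    linear_combination this + t ^ 2 * three_eq_zero hK
  obtain ⟨h1, -, h3⟩ := eighth_cases hK ht4 τ
  exact h3 (htau.resolve_right h1)

theorem Emb.index_two (hK : Fintype.card K = 9)
    (hdiag : ∀ g : GL (Fin 2) K, conjP g ∈ E.A → ∃ x, (conjP g : MulAut P2) = MulAut.conj x) :
    ∀ β ∈ E.A, ∀ γ ∈ E.A, (¬ ∃ x, β = MulAut.conj x) → (¬ ∃ x, γ = MulAut.conj x) → ∃ x, β * γ = MulAut.conj x := by
  intro β hβ γ hγ hnb hnc
  have htau : ∀ δ ∈ E.A, (¬ ∃ x, δ = MulAut.conj x) → ∃ (g : GL (Fin 2) K) (τ : K ≃+* K), δ = conjP g * fieldP τ ∧ τ ≠ 1 := by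
    intro δ hδ hn
    obtain ⟨M, ν, τ, hd, -⟩ := E.exists_rep hδ
    obtain ⟨M, rfl⟩ := QuotientGroup.mk'_surjective _ M
    refine ⟨Matrix.SpecialLinearGroup.toGL M * dg ν, τ, by rw [hd, map_mul, conjP_toGL, mul_assoc], fun e => hn ?_⟩
    have hg : δ = conjP (Matrix.SpecialLinearGroup.toGL M * dg ν) := by
      rw [hd, e, map_one, mul_one, map_mul, conjP_toGL]
    rw [hg] at hδ ⊢
    exact hdiag _ hδ
  obtain ⟨g, σ, rfl, hσ⟩ := htau β hβ hnb
  obtain ⟨g', τ, rfl, hτ⟩ := htau γ hγ hnc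
  have hst : σ * τ = 1 := by
    obtain ⟨t, ht, ht4, hgen⟩ := exists_eighth hK
    have key : ∀ ρ : K ≃+* K, ρ ≠ 1 → ρ (t : K) = (t : K) ^ 3 := by
      intro ρ hρ
      obtain ⟨h1, h2, h3⟩ := eighth_cases hK ht4 ρ
      obtain ⟨n, hn⟩ := hgen (Units.map (ρ : K →* K) t)
      have hn' : ρ (t : K) = (t : K) ^ (n % 8) := by
        rw [← Units.val_pow_eq_pow_val, ← ht, pow_mod_orderOf, hn]; rfl
      have h4 : ((t : K) ^ (n % 8)) ^ 4 = -1 := by rw [← hn', ← map_pow, ht4, map_neg, map_one]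
      have h8 : n % 8 < 8 := Nat.mod_lt _ (by norm_num)
      have two := two_ne_zero_of_odd E.odd
      have ht8 : (t : K) ^ 8 = 1 := by rw [show (8 : ℕ) = 4 * 2 by norm_num, pow_mul, ht4]; ring
      rw [← pow_mul, mul_comm, pow_mul, ht4] at h4
      interval_cases n % 8 <;> norm_num at h4 <;> first
        | exact absurd h4 fun e => two (by linear_combination e)
        | skip
      · exact absurd (h3 (by rw [hn', pow_one])) hρ
      · exact hn'
      · exact absurd (by rw [hn', pow_succ, ht4, neg_mul, one_mul]) h1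
      · refine absurd ?_ h2
        rw [hn']
        refine eq_inv_of_mul_eq_one_left ?_
        rw [← pow_succ, ht8]
    refine (eighth_cases hK ht4 (σ * τ)).2.2 ?_
    show σ (τ (t : K)) = t
    rw [key τ hτ, map_pow, key σ hσ, ← pow_mul, show 3 * 3 = 8 + 1 by norm_num, pow_add, pow_one,
      show (t : K) ^ 8 = 1 by rw [← Units.val_pow_eq_pow_val, ← ht, pow_orderOf_eq_one, Units.val_one], one_mul]
  have hprod : conjP g * fieldP σ * (conjP g' * fieldP τ) = (conjP (g * glMap σ g') : MulAut P2) := by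
    rw [show (conjP g : MulAut P2) * fieldP σ * (conjP g' * fieldP τ) = conjP g * (fieldP σ * conjP g') * fieldP τ by
      group, fieldP_mul_conjP, ← mul_assoc, ← map_mul, mul_assoc, ← map_mul, hst, map_one, mul_one]
  rw [hprod]
  exact hdiag _ (by rw [← hprod]; exact E.A.mul_mem hβ hγ)

end Cfsg.Lib.MitchellThree.Two
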