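import Cfsg.Agent.MitchellThree.ElemAb

/-!
The centralizer of a four-group in the three-dimensional projective linear group over a field of odd order is
abelian.
-/

set_option autoImplicit false
set_option linter.unusedSectionVars false

namespace Cfsg.Lib.MitchellThree

open Matrix Cfsg.Geo
open scoped MatrixGroups

universe u

variable {F : Type u} [Field F] [Finite F]

/-- Lifts of commuting elements commute when one has order at most two. -/
theorem lifts_commute_of_sq (h2 : (2 : F) ≠ 0) {g h : GL (Fin 3) F}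
    (hgh : (QuotientGroup.mk g : PG F) * QuotientGroup.mk h = QuotientGroup.mk h * QuotientGroup.mk g)
    (hh : (QuotientGroup.mk h : PG F) ^ 2 = 1) :
    (g : Matrix (Fin 3) (Fin 3) F) * (h : Matrix (Fin 3) (Fin 3) F) =
      (h : Matrix (Fin 3) (Fin 3) F) * (g : Matrix (Fin 3) (Fin 3) F) := by
  obtain ⟨c, hc3, hc⟩ := comm_scalar hgh.symm
  have e := commutator_pow hc 2
  rw [← QuotientGroup.mk_pow, QuotientGroup.eq_one_iff] at hh
  obtain ⟨l, hl0, hl⟩ := scalar_of_mem hh
  rw [Units.val_pow_eq_pow_val] at hl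
  rw [hl, Matrix.smul_mul, Matrix.one_mul, Matrix.mul_smul, Matrix.mul_one, smul_smul] at e
  have hg0 : (g : Matrix (Fin 3) (Fin 3) F) ≠ 0 := Units.ne_zero g
  have e' : (l - c ^ 2 * l) • (g : Matrix (Fin 3) (Fin 3) F) = 0 := by rw [sub_smul, ← e, sub_self]
  have hc2 : c ^ 2 = 1 := by
    have h0 := (smul_eq_zero.1 e').resolve_right hg0
    exact mul_right_cancel₀ hl0 (by linear_combination -h0)
  have hc1 : c = 1 := by
    have : c ^ 3 = c := by rw [pow_succ, hc2, one_mul]
    rw [← this, hc3]
  rw [hc1, one_smul] at hc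
  exact hc.symm

/-- The centralizer of a four-group is abelian. -/
theorem commute_of_centralize_four (h2 : (2 : F) ≠ 0) (A : Subgroup (PG F)) (hab : ∀ a ∈ A, ∀ b ∈ A, a * b = b * a)
    (hexp : ∀ a ∈ A, a ^ 2 = 1) (hcard : Nat.card A = 4) {y y' : PG F}
    (hy : ∀ a ∈ A, y * a = a * y) (hy' : ∀ a ∈ A, y' * a = a * y') : y * y' = y' * y := by
  classical
  have h2' : ((2 : ℕ) : F) ≠ 0 := by exact_mod_cast h2
  set ι := algebraMap F (AlgebraicClosure F)
  obtain ⟨P, d, hE⟩ := exists_common h2' A hexp fun g h hg hh =>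
    lifts_commute_of_sq h2 (hab _ hg _ hh) (hexp _ hh)
  choose E hEP hEd using hE
  have hsep : ∀ i j : Fin 3, i ≠ j → ∃ a : A, (E a).d i ≠ (E a).d j := by
    intro i j hij
    by_contra! hall
    obtain ⟨k, hki, hcover⟩ := (by decide :
      ∀ i j : Fin 3, i ≠ j → ∃ k, k ≠ i ∧ ∀ m, m = i ∨ m = j ∨ m = k) i j hij
    set f : A → AlgebraicClosure F := fun a => (E a).d k / (E a).d i with hf
    have hsq : ∀ a, f a = 1 ∨ f a = -1 := by
      intro a
      have h := ((E a).pow_eq_iff 2 0).1 (by rw [pow_zero]; exact hexp _ a.2) k i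
      rw [pow_zero, pow_two] at h
      exact mul_self_eq_one_iff.1 h
    have hinj : Function.Injective f := by
      intro a b e
      have e2 : ∀ m, (E a).d m / (E a).d i = (E b).d m / (E b).d i := fun m => by
        rcases hcover m with rfl | rfl | rfl
        · rw [div_self ((E a).d_ne _), div_self ((E b).d_ne _)]
        · rw [← hall a, ← hall b, div_self ((E a).d_ne _), div_self ((E b).d_ne _)]
        · exact e
      refine Subtype.ext (eq_of_ratios (E a) (E b) ((hEP a).trans (hEP b).symm) fun m => ?_)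
      rw [← div_div_div_cancel_right₀ ((E a).d_ne i) ((E a).d m) ((E a).d 0), e2, e2,
        div_div_div_cancel_right₀ ((E b).d_ne i)]
    let g : A → Bool := fun a => decide (f a = 1)
    have hg : Function.Injective g := by
      intro a b e
      simp only [g, decide_eq_decide] at e
      refine hinj ?_
      rcases hsq a with h | h
      · rw [h, e.1 h]
      · rcases hsq b with h' | h'
        · rw [e.2 h', h']
        · rw [h, h']
    have := Nat.card_le_card_of_injective g hg
    rw [hcard, Nat.card_eq_fintype_card, Fintype.card_bool] at this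
    omega
  have hdiag : ∀ (z : PG F), (∀ a ∈ A, z * a = a * z) → ∀ m : GL (Fin 3) F, (QuotientGroup.mk m : PG F) = z →
      ∃ v, (m : Matrix (Fin 3) (Fin 3) F).map ι * (P : Matrix (Fin 3) (Fin 3) _) =
        (P : Matrix (Fin 3) (Fin 3) _) * diagonal v := by
    intro z hz m hm
    set M := ((P⁻¹ : GL (Fin 3) (AlgebraicClosure F)) : Matrix (Fin 3) (Fin 3) _) *
      (m : Matrix (Fin 3) (Fin 3) F).map ι * (P : Matrix (Fin 3) (Fin 3) _) with hM
    have hcomm : ∀ a : A, M * diagonal (E a).d = diagonal (E a).d * M := by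
      intro a
      have hmg := lifts_commute_of_sq h2 (g := m) (h := (E a).g) (by rw [hm, (E a).mk_g]; exact hz _ a.2)
        (by rw [(E a).mk_g]; exact hexp _ a.2)
      have e := congrArg (fun N : Matrix (Fin 3) (Fin 3) F => N.map ι) hmg
      simp only [Matrix.map_mul] at e
      have ea := (E a).eq
      rw [hEP a] at ea
      have e3 : diagonal (E a).d = ((P⁻¹ : GL (Fin 3) (AlgebraicClosure F)) : Matrix (Fin 3) (Fin 3) _) *
          ((E a).g : Matrix (Fin 3) (Fin 3) F).map ι * (P : Matrix (Fin 3) (Fin 3) _) := by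
        rw [mul_assoc, ea, Units.inv_mul_cancel_left]
      rw [e3, hM]
      simp only [mul_assoc, Units.mul_inv_cancel_left]
      rw [← mul_assoc ((m : Matrix (Fin 3) (Fin 3) F).map ι), e]
      simp only [mul_assoc]
    refine ⟨fun i => M i i, ?_⟩
    have hMd : M = diagonal fun i => M i i := by
      ext i j
      rcases eq_or_ne i j with rfl | hij
      · rw [diagonal_apply_eq]
      · rw [diagonal_apply_ne _ hij]
        obtain ⟨a, ha⟩ := hsep i j hij
        have := congrFun (congrFun (hcomm a) i) j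
        rw [mul_diagonal, diagonal_mul] at this
        by_contra hne
        exact ha (mul_right_cancel₀ hne (this.symm.trans (mul_comm _ _)))
    rw [← hMd, hM, mul_assoc, Units.mul_inv_cancel_left]
  obtain ⟨m, rfl⟩ := QuotientGroup.mk_surjective y
  obtain ⟨m', rfl⟩ := QuotientGroup.mk_surjective y'
  obtain ⟨v, hv⟩ := hdiag _ hy m rfl
  obtain ⟨v', hv'⟩ := hdiag _ hy' m' rfl
  rw [← QuotientGroup.mk_mul, ← QuotientGroup.mk_mul]
  congr 1
  refine Units.ext (Matrix.map_injective ι.injective ((Units.isUnit P).mul_right_cancel ?_))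
  simp only [Units.val_mul]
  rw [Matrix.map_mul, Matrix.map_mul, mul_assoc, hv', ← mul_assoc, hv, mul_assoc,
    mul_assoc ((m' : Matrix (Fin 3) (Fin 3) F).map ι), hv, ← mul_assoc ((m' : Matrix (Fin 3) (Fin 3) F).map ι), hv',
    mul_assoc, diagonal_mul_diagonal, diagonal_mul_diagonal]
  simp [mul_comm]

end Cfsg.Lib.MitchellThree
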