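import Cfsg.Agent.OddChar.PF.OddOrder
import Mathlib.FieldTheory.IsAlgClosed.AlgebraicClosure
import Mathlib.LinearAlgebra.Matrix.GeneralLinearGroup.Defs
import Mathlib.LinearAlgebra.Matrix.Determinant.Basic
import Mathlib.GroupTheory.Solvable
import Mathlib.FieldTheory.Finite.Basic
import Mathlib.Tactic

/-!
Elementary facts on two by two matrices of finite order prime to the characteristic: centralizers of non-scalar
elements, eigenvalue ratios, and commutativity of subgroups of odd order.
-/

set_option autoImplicit false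
set_option linter.unusedSectionVars false

namespace Cfsg.Lib.MitchellThree.Block

open Matrix
open scoped MatrixGroups commutatorElement

universe u

variable {F : Type u} [Field F]

local notation "M2" => Matrix (Fin 2) (Fin 2) F
local notation "G2" => GL (Fin 2) F

/-- A scalar matrix. -/
def IsScal (M : M2) : Prop := ∃ c : F, M = c • 1

theorem sq_eq (M : M2) : M * M = M.trace • M - M.det • 1 := by
  ext i j; fin_cases i <;> fin_cases j <;> simp [Matrix.mul_apply, trace_fin_two, det_fin_two] <;> ring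

theorem exists_lin {M Y : M2} (hM : ¬ IsScal M) (h : M * Y = Y * M) : ∃ α β : F, Y = α • 1 + β • M := by
  have h00 := congrFun (congrFun h 0) 0
  have h01 := congrFun (congrFun h 0) 1
  have h10 := congrFun (congrFun h 1) 0
  simp [Matrix.mul_apply, Fin.sum_univ_two] at h00 h01 h10
  by_cases hb : M 0 1 = 0
  · by_cases hc : M 1 0 = 0
    · have hne : M 0 0 - M 1 1 ≠ 0 := fun e => hM ⟨M 0 0, by
        ext i j; fin_cases i <;> fin_cases j <;> simp [hb, hc]; linear_combination -e⟩
      refine ⟨Y 0 0 - (Y 0 0 - Y 1 1) / (M 0 0 - M 1 1) * M 0 0, (Y 0 0 - Y 1 1) / (M 0 0 - M 1 1), ?_⟩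
      rw [hb] at h01; rw [hc] at h10
      have y01 : Y 0 1 = 0 := (mul_eq_zero.1 (show (M 0 0 - M 1 1) * Y 0 1 = 0 by linear_combination h01)).resolve_left hne
      have y10 : Y 1 0 = 0 := (mul_eq_zero.1 (show (M 0 0 - M 1 1) * Y 1 0 = 0 by linear_combination -h10)).resolve_left hne
      ext i j; fin_cases i <;> fin_cases j <;> simp [hb, hc, y01, y10]
      field_simp; ring
    · refine ⟨Y 0 0 - Y 1 0 / M 1 0 * M 0 0, Y 1 0 / M 1 0, ?_⟩
      ext i j; fin_cases i <;> fin_cases j <;> simp <;> field_simp <;> first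
        | ring1
        | linear_combination h00
        | linear_combination -h00
        | linear_combination h10
        | linear_combination -h10
  · refine ⟨Y 0 0 - Y 0 1 / M 0 1 * M 0 0, Y 0 1 / M 0 1, ?_⟩
    ext i j; fin_cases i <;> fin_cases j <;> simp <;> field_simp <;> first
      | ring1
      | linear_combination h00
      | linear_combination -h00
      | linear_combination h01
      | linear_combination -h01

theorem comm_of_commute {M Y Z : M2} (hM : ¬ IsScal M) (hY : M * Y = Y * M) (hZ : M * Z = Z * M) : Y * Z = Z * Y := by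
  obtain ⟨a, b, rfl⟩ := exists_lin hM hY
  rw [add_mul, mul_add, Matrix.smul_mul, Matrix.one_mul, Matrix.mul_smul, Matrix.mul_one, Matrix.smul_mul,
    Matrix.mul_smul, hZ]

/-- Commuting with two non-commuting matrices forces scalar. -/
theorem scal_of_commute_pair {M Y Z : M2} (hY : M * Y = Y * M) (hZ : M * Z = Z * M) (hne : Y * Z ≠ Z * Y) : IsScal M :=
  by_contra fun h => hne (comm_of_commute h hY hZ)

variable {L : Type u} [Field L]

/-- Roots of the characteristic polynomial. -/
structure Roots (ι : F →+* L) (M : M2) where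
  /-- The first root. -/
  a : L
  /-- The second root. -/
  b : L
  sum : a + b = ι M.trace
  prod : a * b = ι M.det

theorem exists_roots [IsAlgClosed L] (ι : F →+* L) (h2 : (2 : F) ≠ 0) (M : M2) : Nonempty (Roots ι M) := by
  have h2' : (2 : L) ≠ 0 := by rw [← map_ofNat ι]; exact (map_ne_zero ι).2 h2
  obtain ⟨s, hs⟩ := IsAlgClosed.exists_eq_mul_self (ι M.trace * ι M.trace - 4 * ι M.det)
  refine ⟨⟨(ι M.trace + s) / 2, (ι M.trace - s) / 2, by field_simp; ring, ?_⟩⟩
  field_simp
  linear_combination hs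

variable {ι : F →+* L} {M : Matrix (Fin 2) (Fin 2) F} (R : Roots ι M)

theorem Roots.pow_trace : ∀ k : ℕ, ι (M ^ k).trace = R.a ^ k + R.b ^ k := by
  suffices h : ∀ k, ι (M ^ k).trace = R.a ^ k + R.b ^ k ∧ ι (M ^ (k + 1)).trace = R.a ^ (k + 1) + R.b ^ (k + 1) from
    fun k => (h k).1
  intro k
  induction k with
  | zero => refine ⟨?_, ?_⟩ <;> simp [trace_fin_two, R.sum, map_ofNat, one_add_one_eq_two]
  | succ k ih =>
    refine ⟨ih.2, ?_⟩
    rw [show M ^ (k + 1 + 1) = M ^ k * (M * M) by rw [pow_succ, pow_succ, mul_assoc], sq_eq, mul_sub, Matrix.mul_smul,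
      Matrix.mul_smul, Matrix.mul_one, ← pow_succ, trace_sub, trace_smul, trace_smul, smul_eq_mul, smul_eq_mul,
      map_sub, map_mul, map_mul, ih.1, ih.2, ← R.sum, ← R.prod]
    ring

theorem Roots.ne_zero (hd : M.det ≠ 0) : R.a ≠ 0 ∧ R.b ≠ 0 :=
  mul_ne_zero_iff.1 (by rw [R.prod]; exact (map_ne_zero ι).2 hd)

/-- A finite order modulo scalars separates the roots. -/
theorem Roots.of_pow (h2 : (2 : F) ≠ 0) (hd : M.det ≠ 0) {n : ℕ} (hn : (n : F) ≠ 0) {c : F} (hM : M ^ n = c • 1)
    (hns : ¬ IsScal M) : R.a ≠ R.b ∧ R.a ^ n = R.b ^ n := by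
  have h1 : R.a ^ n + R.b ^ n = 2 * ι c := by
    rw [← R.pow_trace, hM, trace_smul, trace_one, Fintype.card_fin, smul_eq_mul, map_mul, map_natCast]
    push_cast; ring
  have h3 : R.a ^ n * R.b ^ n = ι c * ι c := by
    have := congrArg (fun X : M2 => ι X.det) hM
    rw [det_pow, map_pow, det_smul, det_one, mul_one, Fintype.card_fin, map_pow, ← R.prod, mul_pow] at this
    linear_combination this
  refine ⟨fun e => hns ?_, ?_⟩
  · have he : ι (M.trace * M.trace - 4 * M.det) = 0 := by
      rw [map_sub, map_mul, map_mul, map_ofNat, ← R.sum, ← R.prod, e]; ring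
    have h4 : M.trace * M.trace - 4 * M.det = 0 := (map_eq_zero ι).1 he
    set l := M.trace / 2 with hl
    set N : M2 := M - l • 1 with hN
    have hN2 : N * N = 0 := by
      have hdl : M.det = l * l := by rw [hl]; field_simp; linear_combination -h4
      have htl : M.trace = 2 * l := by rw [hl]; field_simp
      rw [hN, sub_mul, mul_sub, mul_sub, sq_eq, hdl, htl]
      simp only [Matrix.smul_mul, Matrix.mul_smul, Matrix.one_mul, Matrix.mul_one, smul_smul, smul_sub]
      module
    have hpow : ∀ k : ℕ, M ^ (k + 1) = l ^ (k + 1) • (1 : M2) + ((k + 1 : ℕ) * l ^ k) • N := by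
      intro k
      induction k with
      | zero => simp [hN]
      | succ k ih =>
        rw [pow_succ, ih, show M = l • 1 + N by rw [hN]; abel, add_mul, Matrix.smul_mul, Matrix.smul_mul,
          Matrix.one_mul, mul_add, Matrix.mul_smul, Matrix.mul_one, hN2, add_zero, smul_add, smul_smul, smul_smul,
          ← pow_succ, add_assoc, ← add_smul]
        push_cast; ring_nf
    obtain ⟨k, rfl⟩ : ∃ k, n = k + 1 := ⟨n - 1, (Nat.succ_pred_eq_of_pos (Nat.pos_of_ne_zero fun e => hn (by simp [e]))).symm⟩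
    rw [hpow] at hM
    have hl0 : l ≠ 0 := fun e => hd (by
      rw [hl, div_eq_zero_iff] at e
      rw [e.resolve_right h2] at h4
      exact (mul_eq_zero.1 (show (4 : F) * M.det = 0 by linear_combination -h4)).resolve_left
        (show (4 : F) ≠ 0 by rw [show (4 : F) = 2 * 2 by norm_num]; exact mul_ne_zero h2 h2))
    set s : F := ((k + 1 : ℕ) * l ^ k) with hs
    have hs0 : s ≠ 0 := mul_ne_zero hn (pow_ne_zero _ hl0)
    have hN' : N = (s⁻¹ * (c - l ^ (k + 1))) • (1 : M2) := by
      rw [← smul_smul, sub_smul, ← hM, add_sub_cancel_left, smul_smul, inv_mul_cancel₀ hs0, one_smul]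
    exact ⟨l + s⁻¹ * (c - l ^ (k + 1)), by rw [add_smul, ← hN', hN]; abel⟩
  · have h5 : (R.a ^ n - R.b ^ n) ^ 2 = 0 := by
      rw [show (R.a ^ n - R.b ^ n) ^ 2 = (R.a ^ n + R.b ^ n) ^ 2 - 4 * (R.a ^ n * R.b ^ n) by ring, h1, h3]; ring
    exact sub_eq_zero.1 (pow_eq_zero_iff two_ne_zero |>.1 h5)

theorem disc_ne_zero (h2 : (2 : F) ≠ 0) (hd : M.det ≠ 0) {n : ℕ} (hn : (n : F) ≠ 0) {c : F} (hM : M ^ n = c • 1)
    (hns : ¬ IsScal M) : M.trace * M.trace - 4 * M.det ≠ 0 := by
  obtain ⟨R⟩ := exists_roots (algebraMap F (AlgebraicClosure F)) h2 M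
  intro e
  have h := congrArg (algebraMap F (AlgebraicClosure F)) e
  rw [map_sub, map_mul, map_mul, map_ofNat, ← R.sum, ← R.prod, map_zero] at h
  exact (R.of_pow h2 hd hn hM hns).1 (sub_eq_zero.1 (mul_self_eq_zero.1
    (show (R.a - R.b) * (R.a - R.b) = 0 by linear_combination h)))

/-- A polynomial in a regular semisimple matrix with the same invariants. -/
theorem options {Y : M2} {α β : F} (h2 : (2 : F) ≠ 0) (hY : Y = α • 1 + β • M) (ht : Y.trace = M.trace)
    (hd : Y.det = M.det) (hdisc : M.trace * M.trace - 4 * M.det ≠ 0) : Y = M ∨ Y = M.trace • 1 - M := by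
  have e1 : 2 * α + β * M.trace = M.trace := by
    have h := ht; rw [hY] at h; simp [trace_fin_two] at h ⊢; linear_combination h
  have e2 : α * α + α * β * M.trace + β * β * M.det = M.det := by
    have h := hd; rw [hY] at h; simp [trace_fin_two, det_fin_two] at h ⊢; linear_combination h
  have e3 : (1 - β * β) * (M.trace * M.trace - 4 * M.det) = 0 := by
    linear_combination 4 * e2 - (2 * α + β * M.trace + M.trace) * e1
  have hb : β * β = 1 := (sub_eq_zero.1 ((mul_eq_zero.1 e3).resolve_right hdisc)).symm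
  rcases mul_self_eq_one_iff.1 hb with rfl | rfl
  · left
    have : α = 0 := (mul_eq_zero.1 (show (2 : F) * α = 0 by linear_combination e1)).resolve_left h2
    rw [hY, this, zero_smul, zero_add, one_smul]
  · right
    have : α = M.trace := (mul_left_cancel₀ h2 (by linear_combination e1))
    rw [hY, this, neg_smul, one_smul, sub_eq_add_neg]

theorem trace_conj (x : G2) (Y : M2) : ((x : M2) * Y * ((x⁻¹ : G2) : M2)).trace = Y.trace := by
  rw [trace_mul_comm, ← mul_assoc, Units.inv_mul, Matrix.one_mul]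

theorem det_conj (x : G2) (Y : M2) : ((x : M2) * Y * ((x⁻¹ : G2) : M2)).det = Y.det := by
  rw [det_mul, det_mul, mul_comm (x : M2).det, mul_assoc, ← det_mul, Units.mul_inv, det_one, mul_one]

/-- Two options for a conjugate commuting with the element. -/
theorem conj_options (h2 : (2 : F) ≠ 0) {a x : G2} (hns : ¬ IsScal (a : M2)) {n : ℕ} (hn : (n : F) ≠ 0) {c : F}
    (ha : (a : M2) ^ n = c • 1) (hc : a * (x * a * x⁻¹) = x * a * x⁻¹ * a) :
    x * a * x⁻¹ = a ∨ ((x * a * x⁻¹ : G2) : M2) = (a : M2).trace • 1 - (a : M2) := by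
  obtain ⟨α, β, h⟩ := exists_lin hns (congrArg Units.val hc)
  rcases options h2 h (trace_conj x _) (det_conj x _)
    (disc_ne_zero h2 (Matrix.isUnits_det_units a).ne_zero hn ha hns) with e | e
  · exact Or.inl (Units.ext e)
  · exact Or.inr e

theorem sq_commute (h2 : (2 : F) ≠ 0) {a x : G2} (hns : ¬ IsScal (a : M2)) {n : ℕ} (hn : (n : F) ≠ 0) {c : F}
    (ha : (a : M2) ^ n = c • 1) (hc : a * (x * a * x⁻¹) = x * a * x⁻¹ * a) : x * x * a = a * (x * x) := by
  rcases conj_options h2 hns hn ha hc with e | e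
  · have h1 : x * a = a * x := mul_inv_eq_iff_eq_mul.1 e
    exact ((show Commute x a from h1).mul_left h1).eq
  · have h1 : (x : M2) * (a : M2) = ((a : M2).trace • 1 - (a : M2)) * (x : M2) := by
      rw [← e, Units.val_mul, Units.val_mul, Units.inv_mul_cancel_right]
    refine Units.ext ?_
    simp only [Units.val_mul]
    rw [mul_assoc, h1, sub_mul, Matrix.smul_mul, Matrix.one_mul, mul_sub, Matrix.mul_smul, ← mul_assoc, h1,
      sub_mul, Matrix.smul_mul, Matrix.one_mul, sub_mul, Matrix.smul_mul, ← mul_assoc]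
    abel

variable [Finite F]

theorem isScal_odd {g : G2} (hg : IsScal (g : M2)) (hdet : (g : M2).det = 1) (ho : Odd (orderOf g)) : g = 1 := by
  obtain ⟨c, hc⟩ := hg
  rw [hc, det_smul, det_one, mul_one, Fintype.card_fin] at hdet
  have : g ^ 2 = 1 := Units.ext (by rw [Units.val_pow_eq_pow_val, hc, smul_pow, one_pow, hdet, one_smul, Units.val_one])
  have h := (Nat.dvd_prime Nat.prime_two).1 (orderOf_dvd_of_pow_eq_one this)
  rcases h with h | h
  · exact orderOf_eq_one_iff.1 h
  · rw [h] at ho; exact absurd ho (by decide)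

/-- A subgroup of odd order prime to the characteristic is commutative. -/
theorem comm_of_odd (h2 : (2 : F) ≠ 0) (O : Subgroup G2) (ho : Odd (Nat.card O)) (hcop : (Nat.card O : F) ≠ 0) :
    ∀ a ∈ O, ∀ b ∈ O, a * b = b * a := by
  classical
  by_contra hne
  push Not at hne
  haveI : Finite G2 := inferInstance
  haveI hsol := Cfsg.Agent.PF.isSolvable_of_odd O ho
  obtain ⟨k, hk⟩ := (Group.isSolvable_def O).1 hsol
  have hex : ∃ k, derivedSeries O k = ⊥ := ⟨k, hk⟩
  set m := Nat.find hex with hm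
  have hm2 : 2 ≤ m := by
    by_contra hlt
    obtain ⟨a, ha, b, hb, hab⟩ := hne
    have h1 : derivedSeries O 1 = ⊥ := eq_bot_iff.2 ((derivedSeries_antitone O (show m ≤ 1 by omega)).trans (Nat.find_spec hex).le)
    rw [derivedSeries_one, _root_.commutator_def, Subgroup.commutator_eq_bot_iff_le_centralizer] at h1
    exact hab (congrArg Subtype.val ((Subgroup.mem_centralizer_iff.1 (h1 (Subgroup.mem_top (⟨b, hb⟩ : O))) ⟨a, ha⟩ (Subgroup.mem_top _))))
  obtain ⟨j, hj⟩ : ∃ j, m = j + 2 := ⟨m - 2, by omega⟩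
  set A := derivedSeries O (j + 1) with hA
  have hAne : A ≠ ⊥ := Nat.find_min hex (show j + 1 < m by omega)
  have hAcomm : ∀ u ∈ A, ∀ v ∈ A, u * v = v * u := by
    have h : ⁅A, A⁆ = ⊥ := by rw [hA, ← derivedSeries_succ, show j + 1 + 1 = m by omega]; exact Nat.find_spec hex
    rw [Subgroup.commutator_eq_bot_iff_le_centralizer] at h
    exact fun u hu v hv => Subgroup.mem_centralizer_iff.1 (h hv) u hu
  obtain ⟨a, haA, ha1⟩ := A.bot_or_exists_ne_one.resolve_left hAne
  have hdetA : ∀ u ∈ A, ((u : G2) : M2).det = 1 := fun u hu => by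
    have hu' : u ∈ commutator O := by
      rw [← derivedSeries_one]; exact derivedSeries_antitone O (show 1 ≤ j + 1 by omega) hu
    have h1 : Matrix.GeneralLinearGroup.det (u : G2) = 1 :=
      Abelianization.commutator_subset_ker (Matrix.GeneralLinearGroup.det.comp O.subtype) hu'
    exact congrArg Units.val h1
  have hoa : Odd (orderOf (a : G2)) := ho.of_dvd_nat (Subgroup.orderOf_dvd_natCard O a.2)
  have hns : ¬ IsScal ((a : G2) : M2) := fun h => ha1 (Subtype.ext (isScal_odd h (hdetA a haA) hoa))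
  have ha : ((a : G2) : M2) ^ Nat.card O = (1 : F) • 1 := by
    rw [one_smul, ← Units.val_pow_eq_pow_val, ← SubmonoidClass.coe_pow, pow_card_eq_one', OneMemClass.coe_one,
      Units.val_one]
  haveI : A.Normal := derivedSeries_normal O _
  have hcen : ∀ x : O, (x : G2) * (a : G2) = (a : G2) * x := by
    intro x
    have hsq := sq_commute h2 (x := (x : G2)) hns hcop ha
      (congrArg Subtype.val (hAcomm a haA (x * a * x⁻¹) (‹A.Normal›.conj_mem a haA x)))
    obtain ⟨i, hi⟩ := (ho.of_dvd_nat (Subgroup.orderOf_dvd_natCard O x.2))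
    have hxx : (x : G2) = ((x : G2) * x) ^ (i + 1) := by
      rw [← pow_two, ← pow_mul, show 2 * (i + 1) = orderOf (x : G2) + 1 by omega, pow_succ, pow_orderOf_eq_one, one_mul]
    rw [hxx]
    exact (Commute.pow_left (show Commute ((x : G2) * x) a from hsq) (i + 1)).eq
  obtain ⟨u, hu, v, hv, huv⟩ := hne
  exact huv (Units.ext (comm_of_commute hns (congrArg Units.val (hcen ⟨u, hu⟩)).symm
    (congrArg Units.val (hcen ⟨v, hv⟩)).symm))

end Cfsg.Lib.MitchellThree.Block
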