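import Cfsg.Agent.MitchellThree.FourCentral
import Cfsg.Agent.MitchellThree.GLTwo

/-!
Involutions of the three-dimensional projective linear group: the block embedding of `GL₂` onto their centralizers, and
elations.
-/

set_option autoImplicit false
set_option linter.unusedSectionVars false

namespace Cfsg.Lib.MitchellThree

open Matrix Cfsg.Geo
open scoped MatrixGroups

universe u

variable {F : Type u} [Field F]

/-- An elation. -/
def IsEl (x : PG F) : Prop := ∃ g : GL (Fin 3) F, (QuotientGroup.mk g : PG F) = x ∧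
  ∃ u φ : Fin 3 → F, u ≠ 0 ∧ φ ≠ 0 ∧ φ ⬝ᵥ u = 0 ∧ (g : Matrix (Fin 3) (Fin 3) F) = 1 + vecMulVec u φ

theorem IsEl.conj {x : PG F} (h : IsEl x) (y : PG F) : IsEl (y * x * y⁻¹) := by
  obtain ⟨g, rfl, u, φ, hu, hφ, h0, hg⟩ := h
  obtain ⟨m, rfl⟩ := QuotientGroup.mk_surjective y
  refine ⟨m * g * m⁻¹, by simp only [QuotientGroup.mk_mul, QuotientGroup.mk_inv],
    (m : Matrix (Fin 3) (Fin 3) F) *ᵥ u, φ ᵥ* ((m⁻¹ : GL (Fin 3) F) : Matrix (Fin 3) (Fin 3) F), ?_, ?_, ?_, ?_⟩
  · intro e
    refine hu ?_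
    have := congrArg (fun v => ((m⁻¹ : GL (Fin 3) F) : Matrix (Fin 3) (Fin 3) F) *ᵥ v) e
    simpa [Matrix.mulVec_mulVec] using this
  · intro e
    refine hφ ?_
    have := congrArg (fun v => v ᵥ* (m : Matrix (Fin 3) (Fin 3) F)) e
    simpa [Matrix.vecMul_vecMul] using this
  · rw [dotProduct_mulVec, Matrix.vecMul_vecMul, Units.inv_mul, Matrix.vecMul_one, h0]
  · rw [Units.val_mul, Units.val_mul, hg, mul_add, mul_one, add_mul, Units.mul_inv, Matrix.mul_vecMulVec,
      Matrix.vecMulVec_mul]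

theorem IsEl.of_conj {x y : PG F} (h : IsEl (y * x * y⁻¹)) : IsEl x := by
  have := h.conj y⁻¹
  rwa [inv_inv, show y⁻¹ * (y * x * y⁻¹) * y = x by group] at this

/-- The block matrix. -/
def emb (A : Matrix (Fin 2) (Fin 2) F) : Matrix (Fin 3) (Fin 3) F := !![1, 0, 0; 0, A 0 0, A 0 1; 0, A 1 0, A 1 1]

theorem emb_one : emb (1 : Matrix (Fin 2) (Fin 2) F) = 1 := by
  ext i j; fin_cases i <;> fin_cases j <;> simp [emb]

theorem emb_mul (A B : Matrix (Fin 2) (Fin 2) F) : emb (A * B) = emb A * emb B := by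
  ext i j; fin_cases i <;> fin_cases j <;> simp [emb, Matrix.mul_apply, Fin.sum_univ_two, Fin.sum_univ_three]

theorem emb_det (A : Matrix (Fin 2) (Fin 2) F) : (emb A).det = A.det := by
  simp [emb, Matrix.det_fin_three, Matrix.det_fin_two]

/-- The embedding as a monoid map. -/
def embHom : Matrix (Fin 2) (Fin 2) F →* Matrix (Fin 3) (Fin 3) F := ⟨⟨emb, emb_one⟩, emb_mul⟩

/-- The block embedding into the projective group. -/
def bmap : GL (Fin 2) F →* PG F := (QuotientGroup.mk' (scalars (Fin 3) F)).comp (Units.map embHom)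

theorem bmap_apply (A : GL (Fin 2) F) : bmap A = QuotientGroup.mk (Units.map embHom A) := rfl

theorem bmap_injective : Function.Injective (bmap : GL (Fin 2) F →* PG F) := by
  refine (injective_iff_map_eq_one _).2 fun A hA => Units.ext ?_
  rw [bmap_apply, QuotientGroup.eq_one_iff, mem_scalars_iff] at hA
  obtain ⟨c, hc⟩ := hA
  have hc' : emb (A : Matrix (Fin 2) (Fin 2) F) = (c : F) • 1 := hc
  have h00 := congrFun (congrFun hc' 0) 0
  simp [emb] at h00
  ext i j
  have h := congrFun (congrFun hc' i.succ) j.succ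
  fin_cases i <;> fin_cases j <;> simp [emb, ← h00] at h <;> simpa using h

/-- The standard involution. -/
abbrev negOne : PG F := bmap (-1 : GL (Fin 2) F)

variable [Finite F]

/-- The centralizer of the standard involution is the block group. -/
theorem exists_block (h2 : (2 : F) ≠ 0) {y : PG F} (h : y * negOne = negOne * y) : ∃ A, bmap A = y := by
  obtain ⟨m, rfl⟩ := QuotientGroup.mk_surjective y
  have hc := lifts_commute_of_sq h2 (g := m) (h := Units.map embHom (-1 : GL (Fin 2) F)) h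
    (by rw [← bmap_apply, ← map_pow, neg_one_sq, map_one])
  have hT : ((Units.map embHom (-1 : GL (Fin 2) F) : GL (Fin 3) F) : Matrix (Fin 3) (Fin 3) F) =
      emb (-1 : Matrix (Fin 2) (Fin 2) F) := rfl
  rw [hT] at hc
  set M := (m : Matrix (Fin 3) (Fin 3) F) with hM
  have z : ∀ (i j : Fin 3), (i = 0 ∧ j ≠ 0) ∨ (i ≠ 0 ∧ j = 0) → M i j = 0 := by
    intro i j hij
    have e := congrFun (congrFun hc i) j
    fin_cases i <;> fin_cases j <;> simp at hij <;> simp [emb, Matrix.mul_apply, Fin.sum_univ_three] at e ⊢ <;>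
      first
        | exact (mul_eq_zero.1 (show (2 : F) * _ = 0 by linear_combination e)).resolve_left h2
        | exact (mul_eq_zero.1 (show (2 : F) * _ = 0 by linear_combination -e)).resolve_left h2
  have hd : M.det ≠ 0 := (Matrix.isUnits_det_units m).ne_zero
  have hd' : M.det = M 0 0 * (M 1 1 * M 2 2 - M 1 2 * M 2 1) := by
    rw [Matrix.det_fin_three, z 0 1 (by decide), z 0 2 (by decide)]; ring
  rw [hd'] at hd
  obtain ⟨h00, hd2⟩ := mul_ne_zero_iff.1 hd
  let A : Matrix (Fin 2) (Fin 2) F := (M 0 0)⁻¹ • !![M 1 1, M 1 2; M 2 1, M 2 2]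
  have hA : A.det ≠ 0 := by
    simp only [A, Matrix.det_smul, Fintype.card_fin, Matrix.det_fin_two_of]
    exact mul_ne_zero (pow_ne_zero _ (inv_ne_zero h00)) hd2
  refine ⟨Matrix.GeneralLinearGroup.mkOfDetNeZero A hA, ?_⟩
  rw [bmap_apply, QuotientGroup.eq, mem_scalars_iff]
  refine ⟨Units.mk0 _ h00, ?_⟩
  have e : M = M 0 0 • emb A := by
    ext i j
    fin_cases i <;> fin_cases j <;> simp [emb, A, h00, z]
  rw [Units.val_mul, ← hM]
  conv_lhs => rw [e]
  rw [Matrix.mul_smul]
  congr 1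
  exact Units.inv_mul _

/-- Every involution is conjugate to the standard one. -/
theorem exists_frame (h2 : (2 : F) ≠ 0) {t : PG F} (ht : orderOf t = 2) : ∃ y : PG F, y * t * y⁻¹ = negOne := by
  obtain ⟨g, rfl⟩ := QuotientGroup.mk_surjective t
  have hsq : (QuotientGroup.mk g : PG F) ^ 2 = 1 := by rw [← ht]; exact pow_orderOf_eq_one _
  rw [← QuotientGroup.mk_pow, QuotientGroup.eq_one_iff] at hsq
  obtain ⟨l, hl0, hl⟩ := scalar_of_mem hsq
  rw [Units.val_pow_eq_pow_val] at hl
  set G := (g : Matrix (Fin 3) (Fin 3) F) with hG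
  have hd : G.det ≠ 0 := (Matrix.isUnits_det_units g).ne_zero
  have hd2 : G.det ^ 2 = l ^ 3 := by
    rw [← Matrix.det_pow, hl, Matrix.det_smul, Matrix.det_one, mul_one, Fintype.card_fin]
  set s := l / G.det with hs
  have hs2 : s * s * l = 1 := by
    rw [hs]; field_simp; linear_combination -hd2
  set T := s • G with hT
  have hT2 : (T - (1 : F) • 1) * (T - (-1 : F) • 1) = 0 := by
    rw [hT, one_smul, neg_one_smul, sub_neg_eq_add, sub_mul, mul_add, Matrix.smul_mul, Matrix.mul_smul, ← pow_two, hl,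
      smul_smul, smul_smul, hs2, one_smul, Matrix.mul_one, Matrix.one_mul]
    abel
  have h11 : (1 : F) ≠ -1 := fun e => h2 (by linear_combination e)
  obtain ⟨P, d, hP, hd'⟩ := Cfsg.Lib.Classical.SLThree.diag_of_two T h11 hT2
  have hnc : ¬ ∀ i j, d i = d j := fun hall => by
    have e : T = d 0 • 1 := by
      refine (Units.isUnit P).mul_right_cancel ?_
      rw [hP, Matrix.smul_mul, Matrix.one_mul, show diagonal d = d 0 • (1 : Matrix (Fin 3) (Fin 3) F) from ?_,
        Matrix.mul_smul, Matrix.mul_one]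
      ext i j
      rcases eq_or_ne i j with rfl | hne
      · simp [hall i 0]
      · simp [hne]
    have hs0 : s ≠ 0 := div_ne_zero hl0 hd
    have hd0 : d 0 ≠ 0 := by rcases hd' 0 with e' | e' <;> rw [e'] <;> simp
    have : (QuotientGroup.mk g : PG F) = 1 := by
      rw [QuotientGroup.eq_one_iff, mem_scalars_iff]
      refine ⟨Units.mk0 (s⁻¹ * d 0) (mul_ne_zero (inv_ne_zero hs0) hd0), ?_⟩
      rw [Units.val_mk0, ← smul_smul, ← e, hT, smul_smul, inv_mul_cancel₀ hs0, one_smul]
    rw [this, orderOf_one] at ht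
    omega
  obtain ⟨σ, hσ⟩ : ∃ σ : Equiv.Perm (Fin 3), d (σ 0) = -d (σ 1) ∧ d (σ 0) = -d (σ 2) := by
    have key : ∀ i j, d i ≠ d j → d i = -d j := fun i j h => by
      rcases hd' i with e | e <;> rcases hd' j with e' | e' <;> rw [e, e'] at h ⊢ <;> simp_all
    have s1 : (Equiv.swap (0 : Fin 3) 1) 2 = 2 := by decide
    have s2 : (Equiv.swap (0 : Fin 3) 2) 1 = 1 := by decide
    by_cases h01 : d 0 = d 1
    · have h02 : d 0 ≠ d 2 := fun h02 => hnc fun i j => by
        have : ∀ k, d k = d 0 := fun k => by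
          rcases (by decide : ∀ k : Fin 3, k = 0 ∨ k = 1 ∨ k = 2) k with rfl | rfl | rfl
          exacts [rfl, h01.symm, h02.symm]
        rw [this i, this j]
      exact ⟨Equiv.swap 0 2, by rw [Equiv.swap_apply_left, s2, ← h01]; exact key _ _ h02.symm,
        by rw [Equiv.swap_apply_left, Equiv.swap_apply_right]; exact key _ _ h02.symm⟩
    · by_cases h02 : d 0 = d 2
      · exact ⟨Equiv.swap 0 1, by rw [Equiv.swap_apply_left, Equiv.swap_apply_right]; exact key _ _ (Ne.symm h01),
          by rw [Equiv.swap_apply_left, s1, ← h02]; exact key _ _ (Ne.symm h01)⟩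
      · exact ⟨1, key _ _ h01, key _ _ h02⟩
  set Q : Matrix (Fin 3) (Fin 3) F := (P : Matrix (Fin 3) (Fin 3) F).submatrix id σ with hQ
  have hQd : Q.det ≠ 0 := by
    rw [hQ, Matrix.det_permute']
    exact mul_ne_zero (by rcases Int.units_eq_one_or (Equiv.Perm.sign σ) with e | e <;> rw [e] <;> simp)
      (Matrix.isUnits_det_units P).ne_zero
  have hTQ : T * Q = Q * (d (σ 0) • emb (-1 : Matrix (Fin 2) (Fin 2) F)) := by
    have e : T * Q = Q * diagonal (d ∘ σ) := by
      rw [← Matrix.submatrix_diagonal_equiv d σ, hQ]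
      conv_lhs => rw [← Matrix.submatrix_id_id T]
      rw [← Matrix.submatrix_mul _ _ _ id _ Function.bijective_id, hP, Matrix.submatrix_mul_equiv]
    rw [e]
    congr 1
    ext i j
    fin_cases i <;> fin_cases j <;> simp [emb]
    all_goals first
      | linear_combination hσ.1
      | linear_combination -hσ.1
      | linear_combination hσ.2
      | linear_combination -hσ.2
  set Qu := Matrix.GeneralLinearGroup.mkOfDetNeZero Q hQd
  refine ⟨(QuotientGroup.mk Qu)⁻¹, ?_⟩
  rw [inv_inv, negOne, bmap_apply, ← QuotientGroup.mk_inv, ← QuotientGroup.mk_mul, ← QuotientGroup.mk_mul, QuotientGroup.eq,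
    mem_scalars_iff]
  have hd0 : d (σ 0) ≠ 0 := by rcases hd' (σ 0) with e' | e' <;> rw [e'] <;> simp
  have hs0 : s ≠ 0 := div_ne_zero hl0 hd
  refine ⟨Units.mk0 (s * (d (σ 0))⁻¹) (mul_ne_zero hs0 (inv_ne_zero hd0)), ?_⟩
  rw [_root_.mul_inv_rev, _root_.mul_inv_rev, inv_inv, Units.val_mul, Units.val_mul, Units.val_mul, Units.val_mk0]
  set E := ((Units.map embHom (-1 : GL (Fin 2) F) : GL (Fin 3) F)) with hE
  have hEv : (E : Matrix (Fin 3) (Fin 3) F) = emb (-1 : Matrix (Fin 2) (Fin 2) F) := rfl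
  have hG' : G * Q = s⁻¹ • (Q * (d (σ 0) • (E : Matrix (Fin 3) (Fin 3) F))) := by
    rw [hEv, ← hTQ, hT, Matrix.smul_mul, smul_smul, inv_mul_cancel₀ hs0, one_smul]
  have hQu : (Qu : Matrix (Fin 3) (Fin 3) F) = Q := rfl
  have hinv : ((g⁻¹ : GL (Fin 3) F) : Matrix (Fin 3) (Fin 3) F) * Q =
      (s * (d (σ 0))⁻¹) • (Q * ((E⁻¹ : GL (Fin 3) F) : Matrix (Fin 3) (Fin 3) F)) := by
    have h1 := congrArg (fun X => ((g⁻¹ : GL (Fin 3) F) : Matrix (Fin 3) (Fin 3) F) * X *
      ((E⁻¹ : GL (Fin 3) F) : Matrix (Fin 3) (Fin 3) F)) hG'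
    simp only [Matrix.mul_smul, Matrix.smul_mul, smul_smul, mul_assoc, Units.mul_inv, Matrix.mul_one] at h1
    rw [hG, ← mul_assoc ((g⁻¹ : GL (Fin 3) F) : Matrix (Fin 3) (Fin 3) F), Units.inv_mul, Matrix.one_mul] at h1
    rw [h1, smul_smul, show s * (d (σ 0))⁻¹ * (s⁻¹ * d (σ 0)) = 1 by field_simp, one_smul]
  rw [hQu, hinv, Matrix.mul_smul, Matrix.smul_mul]
  congr 1
  rw [← hQu, ← mul_assoc, Units.inv_mul, Matrix.one_mul, Units.inv_mul]

/-- A block element of the characteristic's order is an elation. -/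
theorem isEl_of_block {p : ℕ} [hp : Fact p.Prime] [CharP F p] {A : GL (Fin 2) F} (hA : orderOf A = p) :
    IsEl (bmap A) := by
  set N := (A : Matrix (Fin 2) (Fin 2) F) - 1 with hN
  haveI := charP_of_injective_algebraMap (algebraMap F (Matrix (Fin 2) (Fin 2) F)).injective p
  have hnil : N ^ p = 0 := by
    rw [hN, sub_pow_char_of_commute p (Commute.one_right _), one_pow, ← Units.val_pow_eq_pow_val, ← hA,
      pow_orderOf_eq_one, Units.val_one, sub_self]
  have hdet : N.det = 0 := by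
    have h := congrArg Matrix.det hnil
    rw [Matrix.det_pow, Matrix.det_zero] at h
    exact pow_eq_zero_iff hp.out.ne_zero |>.1 h
  have htr : N.trace = 0 := (Matrix.isNilpotent_trace_of_isNilpotent ⟨p, hnil⟩).eq_zero
  have hne : N ≠ 0 := fun e => by
    have : A = 1 := Units.ext (sub_eq_zero.1 e)
    rw [this, orderOf_one] at hA
    exact hp.out.one_lt.ne hA
  rw [Matrix.det_fin_two] at hdet
  rw [Matrix.trace_fin_two] at htr
  refine ⟨Units.map embHom A, rfl, ?_⟩
  have hA' : (A : Matrix (Fin 2) (Fin 2) F) = N + 1 := by rw [hN, sub_add_cancel]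
  change ∃ u φ : Fin 3 → F, u ≠ 0 ∧ φ ≠ 0 ∧ φ ⬝ᵥ u = 0 ∧ emb (A : Matrix (Fin 2) (Fin 2) F) = 1 + vecMulVec u φ
  rw [hA']
  by_cases hb : N 0 1 = 0
  · have ha : N 0 0 = 0 := by
      have : N 0 0 * N 0 0 = 0 := by linear_combination N 0 0 * htr - hdet - N 1 0 * hb
      exact mul_self_eq_zero.1 this
    have hd : N 1 1 = 0 := by linear_combination htr - ha
    have hc : N 1 0 ≠ 0 := fun e => hne (by ext i j; fin_cases i <;> fin_cases j <;> simp [ha, hb, hd, e])
    refine ⟨![0, 0, N 1 0], ![0, 1, 0], fun e => hc (by simpa using congrFun e 2),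
      fun e => one_ne_zero (α := F) (by simpa using congrFun e 1), by simp [dotProduct, Fin.sum_univ_three], ?_⟩
    ext i j; fin_cases i <;> fin_cases j <;> simp [emb, ha, hb, hd, vecMulVec_apply] <;> ring1
  · refine ⟨![0, N 0 1, N 1 1], ![0, N 0 0 / N 0 1, 1], fun e => hb (by simpa using congrFun e 1),
      fun e => one_ne_zero (α := F) (by simpa using congrFun e 2), ?_, ?_⟩
    · simp [dotProduct, Fin.sum_univ_three]; field_simp; linear_combination htr
    · ext i j; fin_cases i <;> fin_cases j <;> simp [emb, vecMulVec_apply] <;> field_simp <;> first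
        | ring1
        | linear_combination hdet
        | linear_combination -hdet

/-- Without elations a block group has order prime to the characteristic. -/
theorem cop_of_noEl {p : ℕ} [hp : Fact p.Prime] [CharP F p] (C : Subgroup (GL (Fin 2) F))
    (h : ∀ A ∈ C, ¬ IsEl (bmap A)) : (Nat.card C : F) ≠ 0 := fun e => by
  obtain ⟨x, hx⟩ := exists_prime_orderOf_dvd_card' p ((CharP.cast_eq_zero_iff F p _).1 e)
  exact h x x.2 (isEl_of_block (by rw [Subgroup.orderOf_coe, hx]))

end Cfsg.Lib.MitchellThree
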