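import Cfsg.Agent.Quadratic.BaerSuzuki
import Cfsg.Agent.SolvStruct.Zipper

/-!
An involution inverting a non-trivial element of odd order (Baer and Suzuki).
-/

set_option autoImplicit false
set_option linter.style.haveILetI false

namespace Cfsg.Lib.MitchellThree

open Subgroup

universe v

theorem exists_inverting {Q : Type v} [Group Q] [Finite Q] (h2 : 2 ∣ Nat.card Q)
    (hN : ∀ N : Subgroup Q, N.Normal → IsPGroup 2 N → N = ⊥) :
    ∃ x : Q, x ≠ 1 ∧ Odd (orderOf x) ∧ ∃ t : Q, t * x * t⁻¹ = x⁻¹ ∧ orderOf t = 2 := by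
  haveI := Fact.mk Nat.prime_two
  obtain ⟨t, ht⟩ := exists_prime_orderOf_dvd_card' 2 h2
  have htt : t * t = 1 := by rw [← sq, ← ht]; exact pow_orderOf_eq_one t
  have htp : IsPGroup 2 (zpowers t) := IsPGroup.of_card (n := 1) (by rw [Nat.card_zpowers, ht, pow_one])
  obtain ⟨g, hg⟩ : ∃ g : Q, ¬ IsPGroup 2 ↥(zpowers t ⊔ (zpowers t).map (MulAut.conj g).toMonoidHom) := by
    by_contra hno
    push Not at hno
    obtain ⟨N, hNn, hNp, hle⟩ := Cfsg.Lib.BaerSuzuki.baer_suzuki (zpowers t) hno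
    have h1 : t = 1 := by
      have := hle (mem_zpowers t)
      rwa [hN N hNn hNp, mem_bot] at this
    rw [h1, orderOf_one] at ht
    omega
  set s := g * t * g⁻¹ with hs
  have hss : s * s = 1 := by
    rw [hs, show g * t * g⁻¹ * (g * t * g⁻¹) = g * (t * t) * g⁻¹ by group, htt]; group
  set u := t * s with hu
  have htu : t * u * t⁻¹ = u⁻¹ := by
    rw [hu, show t⁻¹ = t from inv_eq_of_mul_eq_one_left htt, ← mul_assoc, htt, one_mul, mul_inv_rev,
      inv_eq_of_mul_eq_one_left hss, inv_eq_of_mul_eq_one_left htt]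
  obtain ⟨k, m, hm, hkm⟩ := Nat.exists_eq_pow_mul_and_not_dvd (orderOf_pos u).ne' 2 (by norm_num)
  have hm1 : m ≠ 1 := fun e => hg (by
    have hup : IsPGroup 2 (zpowers u) := IsPGroup.of_card (n := k) (by rw [Nat.card_zpowers, hkm, e, mul_one])
    refine (hup.to_sup_of_normal_left' htp ?_).to_le ?_
    · rw [zpowers_le]
      refine Cfsg.Lib.SolvStruct.mem_normalizer_of_conj_smul_le ?_
      rintro _ ⟨a, ⟨i, rfl⟩, rfl⟩
      refine ⟨-i, ?_⟩
      show u ^ (-i) = t * u ^ i * t⁻¹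
      rw [← conj_zpow, htu, inv_zpow']
    · refine sup_le le_sup_right ?_
      rw [MonoidHom.map_zpowers, zpowers_le]
      have : s = t * u := by rw [hu, ← mul_assoc, htt, one_mul]
      show g * t * g⁻¹ ∈ _
      rw [← hs, this]
      exact mul_mem (mem_sup_right (mem_zpowers t)) (mem_sup_left (mem_zpowers u)))
  refine ⟨u ^ (2 ^ k), ?_, ?_, t, ?_, ht⟩
  · intro e
    have := Nat.le_of_dvd (pow_pos (by norm_num) k) (orderOf_dvd_of_pow_eq_one e)
    rw [hkm] at this
    have hm0 : m ≠ 0 := fun e0 => hm (e0 ▸ dvd_zero 2)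
    nlinarith [Nat.one_le_iff_ne_zero.2 (pow_ne_zero k (two_ne_zero : (2:ℕ) ≠ 0)), show 2 ≤ m by omega]
  · rw [orderOf_pow_of_dvd (pow_ne_zero _ two_ne_zero) (hkm ▸ Dvd.intro m rfl), hkm,
      Nat.mul_div_cancel_left _ (pow_pos (by norm_num) k)]
    exact Nat.not_even_iff_odd.1 fun he => hm (even_iff_two_dvd.1 he)
  · rw [← conj_pow, htu, inv_pow]

end Cfsg.Lib.MitchellThree
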