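import Cfsg.Agent.MitchellThree.Frame

/-!
Two homologies of order four whose squares have a product of odd order, in a group without elations: the squares are
equal.
-/

set_option autoImplicit false
set_option linter.unusedSectionVars false

namespace Cfsg.Lib.MitchellThree

open Matrix Cfsg.Geo
open scoped MatrixGroups

universe u

variable {F : Type u} [Field F]

local notation "M3" => Matrix (Fin 3) (Fin 3) F

/-- A representative `1 + c u ⊗ φ`. -/
def Rep (x : PG F) (c : F) (u φ : Fin 3 → F) : Prop :=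
  ∃ g : GL (Fin 3) F, (QuotientGroup.mk g : PG F) = x ∧ (g : M3) = 1 + c • vecMulVec u φ

/-- A homology with eigenvalue `κ`. -/
def Hom (x : PG F) (κ : F) (u φ : Fin 3 → F) : Prop := φ ⬝ᵥ u = 1 ∧ Rep x (κ - 1) u φ

theorem rep_mul (u φ : Fin 3 → F) (h : φ ⬝ᵥ u = 1) (c d : F) :
    (1 + c • vecMulVec u φ) * (1 + d • vecMulVec u φ) = 1 + (c + d + c * d) • vecMulVec u φ := by
  simp only [mul_add, add_mul, Matrix.mul_one, Matrix.one_mul, Matrix.smul_mul, Matrix.mul_smul,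
    vecMulVec_mul_vecMulVec, h, one_smul, smul_smul, add_smul, mul_comm d c]
  abel

theorem Rep.mul {x y : PG F} {c d : F} {u φ : Fin 3 → F} (h : φ ⬝ᵥ u = 1) (hx : Rep x c u φ) (hy : Rep y d u φ) :
    Rep (x * y) (c + d + c * d) u φ := by
  obtain ⟨g, rfl, hg⟩ := hx
  obtain ⟨g', rfl, hg'⟩ := hy
  exact ⟨g * g', rfl, by rw [Units.val_mul, hg, hg', rep_mul u φ h]⟩

theorem Hom.sq {x : PG F} {κ : F} (hκ : κ ^ 2 = -1) {u φ : Fin 3 → F} (h : Hom x κ u φ) : Rep (x ^ 2) (-2) u φ := by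
  rw [pow_two, show (-2 : F) = (κ - 1) + (κ - 1) + (κ - 1) * (κ - 1) by linear_combination -hκ]
  exact h.2.mul h.1 h.2

theorem Hom.cube {x : PG F} {κ : F} (hκ : κ ^ 2 = -1) {u φ : Fin 3 → F} (h : Hom x κ u φ) :
    Rep (x ^ 3) (-κ - 1) u φ := by
  rw [pow_succ, show (-κ - 1 : F) = -2 + (κ - 1) + -2 * (κ - 1) by ring]
  exact (h.sq hκ).mul h.1 h.2

/-- Change of coordinates. -/
theorem Rep.conj {x : PG F} {c : F} {u φ u' φ' : Fin 3 → F} (h : Rep x c u φ) (T : GL (Fin 3) F)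
    (hu : (T : M3) *ᵥ u' = u) (hφ : φ ᵥ* (T : M3) = φ') :
    Rep ((QuotientGroup.mk T : PG F)⁻¹ * x * QuotientGroup.mk T) c u' φ' := by
  obtain ⟨g, rfl, hg⟩ := h
  refine ⟨T⁻¹ * g * T, by simp only [QuotientGroup.mk_mul, QuotientGroup.mk_inv], ?_⟩
  rw [Units.val_mul, Units.val_mul, hg, mul_add, add_mul, Matrix.mul_one, Units.inv_mul, Matrix.mul_smul,
    Matrix.smul_mul, Matrix.mul_vecMulVec, Matrix.vecMulVec_mul, hφ, ← hu, Matrix.mulVec_mulVec, Units.inv_mul,
    Matrix.one_mulVec]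

theorem Hom.conj {x : PG F} {κ : F} {u φ u' φ' : Fin 3 → F} (h : Hom x κ u φ) (T : GL (Fin 3) F)
    (hu : (T : M3) *ᵥ u' = u) (hφ : φ ᵥ* (T : M3) = φ') :
    Hom ((QuotientGroup.mk T : PG F)⁻¹ * x * QuotientGroup.mk T) κ u' φ' :=
  ⟨by rw [← hφ, ← dotProduct_mulVec, hu]; exact h.1, h.2.conj T hu hφ⟩

/-- The commutator of the two transvection products in the degenerate position. -/
theorem pair_eq (x y κ : F) (hxy : x * y = 1) (hκ : κ ^ 2 = -1) :
    let P : M3 := vecMulVec ![0, 1, 0] ![0, 1, 0]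
    let Q : M3 := vecMulVec ![-1, x, 0] ![0, y, 1]
    let E := (1 + (-2 : F) • P) * (1 + (-2 : F) • Q)
    let C := (1 + (κ - 1) • P) * (1 + (κ - 1) • Q) * (1 + (-κ - 1) • P) * (1 + (-κ - 1) • Q)
    E * C = (1 + vecMulVec ![-8 * κ, 0, 0] ![0, 0, 1]) * C * E := by
  intro P Q E C
  have hP : (1 : M3) + (-2 : F) • P = !![1, 0, 0; 0, -1, 0; 0, 0, 1] := by
    ext i j; fin_cases i <;> fin_cases j <;> simp [P, vecMulVec_apply] <;> ring
  have hQ : ∀ l : F, (1 : M3) + l • Q = !![1, -l * y, -l; 0, 1 + l, l * x; 0, 0, 1] := fun l => by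
    ext i j; fin_cases i <;> fin_cases j <;> simp [Q, vecMulVec_apply] <;> first | ring1 | linear_combination l * hxy | linear_combination -l * hxy
  have hP' : ∀ l : F, (1 : M3) + l • P = !![1, 0, 0; 0, 1 + l, 0; 0, 0, 1] := fun l => by
    ext i j; fin_cases i <;> fin_cases j <;> simp [P, vecMulVec_apply]
  have hE : E = !![1, 2 * y, 2; 0, 1, 2 * x; 0, 0, 1] := by
    simp only [E, hP, hQ]
    ext i j; fin_cases i <;> fin_cases j <;> simp [Matrix.mul_apply, Fin.sum_univ_three] <;> ring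
  have hC : C = !![1, -(κ - 1) ^ 2 * y, (κ - 1) ^ 3 * (κ - 1) * 0 + (κ - 1) ^ 3; 0, 1, (κ - 1) ^ 2 * x; 0, 0, 1] := by
    simp only [C, hP', hQ]
    ext i j; fin_cases i <;> fin_cases j <;> simp [Matrix.mul_apply, Fin.sum_univ_three]
    all_goals grobner
  have hD : (1 : M3) + vecMulVec ![-8 * κ, 0, 0] ![0, 0, 1] = !![1, 0, -8 * κ; 0, 1, 0; 0, 0, 1] := by
    ext i j; fin_cases i <;> fin_cases j <;> simp [vecMulVec_apply]
  rw [hE, hC, hD]
  ext i j; fin_cases i <;> fin_cases j <;> simp [Matrix.mul_apply, Fin.sum_univ_three]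
  all_goals grobner

variable [Finite F]

/-- The degenerate position gives an elation. -/
theorem pair_degenerate (h2 : (2 : F) ≠ 0) {G : Subgroup (PG F)} (hno : ∀ g ∈ G, ¬ IsEl g) {κ x y : F}
    (hκ : κ ^ 2 = -1) (hxy : x * y = 1) {a b : PG F} (ha : a ∈ G) (hb : b ∈ G)
    (hA : Hom a κ ![0, 1, 0] ![0, 1, 0]) (hB : Hom b κ ![-1, x, 0] ![0, y, 1]) : False := by
  have h4 : κ ≠ 0 := fun e => by rw [e] at hκ; simp at hκ
  obtain ⟨A2, hA2, hA2'⟩ := hA.sq hκ
  obtain ⟨B2, hB2, hB2'⟩ := hB.sq hκ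
  obtain ⟨A1, hA1, hA1'⟩ := hA.2
  obtain ⟨B1, hB1, hB1'⟩ := hB.2
  obtain ⟨A3, hA3, hA3'⟩ := hA.cube hκ
  obtain ⟨B3, hB3, hB3'⟩ := hB.cube hκ
  set E := A2 * B2 with hE
  set C := A1 * B1 * A3 * B3 with hC
  have key : ((E * C * E⁻¹ * C⁻¹ : GL (Fin 3) F) : M3) = 1 + vecMulVec ![-8 * κ, 0, 0] ![0, 0, 1] := by
    have h : ((E * C : GL (Fin 3) F) : M3) = (1 + vecMulVec ![-8 * κ, 0, 0] ![0, 0, 1]) * ((C * E : GL (Fin 3) F) : M3) := by
      simp only [hE, hC, Units.val_mul, hA2', hB2', hA1', hB1', hA3', hB3']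
      rw [pair_eq x y κ hxy hκ]
      simp only [mul_assoc]
    rw [show E * C * E⁻¹ * C⁻¹ = E * C * (C * E)⁻¹ by group, Units.val_mul, h, mul_assoc, Units.mul_inv, Matrix.mul_one]
  refine hno _ ?_ ⟨E * C * E⁻¹ * C⁻¹, rfl, ![-8 * κ, 0, 0], ![0, 0, 1], fun e => ?_, fun e => ?_, ?_, key⟩
  · simp only [hE, hC, QuotientGroup.mk_mul, QuotientGroup.mk_inv, hA2, hB2, hA1, hB1, hA3, hB3]
    have hEm : a ^ 2 * b ^ 2 ∈ G := mul_mem (pow_mem ha 2) (pow_mem hb 2)
    have hCm : a * b * a ^ 3 * b ^ 3 ∈ G := mul_mem (mul_mem (mul_mem ha hb) (pow_mem ha 3)) (pow_mem hb 3)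
    exact mul_mem (mul_mem (mul_mem hEm hCm) (inv_mem hEm)) (inv_mem hCm)
  · have := congrFun e 0
    simp [h4] at this
    exact h2 (pow_eq_zero_iff (n := 3) (by norm_num) |>.1 (by linear_combination this))
  · simpa using congrFun e 2
  · simp [dotProduct, Fin.sum_univ_three]

theorem first_row {A : Matrix (Fin 2) (Fin 2) F} (h00 : A 0 0 = -1) (h01 : A 0 1 = 0) (n : ℕ) :
    (A ^ n) 0 0 = (-1) ^ n := by
  induction n with
  | zero => simp
  | succ k ih =>
    rw [pow_succ' A, Matrix.mul_apply, Fin.sum_univ_two, h00, h01, ih]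
    ring

/-- The general position, in coordinates. -/
theorem pair_general {p : ℕ} [Fact p.Prime] [CharP F p] (h2 : (2 : F) ≠ 0) {G : Subgroup (PG F)}
    (hno : ∀ g ∈ G, ¬ IsEl g) {κ x y : F} (hκ : κ ^ 2 = -1) (hxy : x * y ≠ 1) {a b : PG F} (ha : a ∈ G)
    (hb : b ∈ G) (hA : Hom a κ ![0, 1, 0] ![0, 1, x]) (hB : Hom b κ ![0, 0, 1] ![0, y, 1])
    (hodd : Odd (orderOf (a ^ 2 * b ^ 2)))
    (hsq : ∀ c ∈ G, orderOf c = 2 → c * a = a * c → c * b = b * c →
      a ^ 2 * (a ^ 2 * b ^ 2) ^ 2 = (a ^ 2 * b ^ 2) ^ 2 * a ^ 2) : a ^ 2 * b ^ 2 = 1 := by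
  classical
  have hk : κ ≠ 0 := fun e => by rw [e] at hκ; simp at hκ
  let A' : Matrix (Fin 2) (Fin 2) F := !![κ, (κ - 1) * x; 0, 1]
  let B' : Matrix (Fin 2) (Fin 2) F := !![1, 0; (κ - 1) * y, κ]
  have dA : A'.det ≠ 0 := by simp [A', det_fin_two, hk]
  have dB : B'.det ≠ 0 := by simp [B', det_fin_two, hk]
  set A := Matrix.GeneralLinearGroup.mkOfDetNeZero A' dA with hAdef
  set B := Matrix.GeneralLinearGroup.mkOfDetNeZero B' dB with hBdef
  have hAv : (A : Matrix (Fin 2) (Fin 2) F) = A' := rfl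
  have hBv : (B : Matrix (Fin 2) (Fin 2) F) = B' := rfl
  have hav : bmap A = a := by
    obtain ⟨g, hg, hg'⟩ := hA.2
    rw [bmap_apply, ← hg]
    congr 1
    refine Units.ext ?_
    rw [hg']
    show emb A' = _
    ext i j; fin_cases i <;> fin_cases j <;> simp [emb, A', vecMulVec_apply]
  have hbv : bmap B = b := by
    obtain ⟨g, hg, hg'⟩ := hB.2
    rw [bmap_apply, ← hg]
    congr 1
    refine Units.ext ?_
    rw [hg']
    show emb B' = _
    ext i j; fin_cases i <;> fin_cases j <;> simp [emb, B', vecMulVec_apply]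
  have hA4 : A ^ 4 = 1 := by
    refine Units.ext ?_
    rw [Units.val_pow_eq_pow_val, hAv, Units.val_one]
    ext i j; fin_cases i <;> fin_cases j <;> simp [A', pow_succ, Matrix.mul_apply, Fin.sum_univ_two]
    all_goals grobner
  have hB4 : B ^ 4 = 1 := by
    refine Units.ext ?_
    rw [Units.val_pow_eq_pow_val, hBv, Units.val_one]
    ext i j; fin_cases i <;> fin_cases j <;> simp [B', pow_succ, Matrix.mul_apply, Fin.sum_univ_two]
    all_goals grobner
  set E := A ^ 2 * B ^ 2 with hE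
  have heb : bmap E = a ^ 2 * b ^ 2 := by rw [hE, map_mul, map_pow, map_pow, hav, hbv]
  have hEo : orderOf E = orderOf (a ^ 2 * b ^ 2) := by rw [← heb, orderOf_injective _ bmap_injective]
  set g := A * B ^ 3 with hgdef
  let D : Subgroup (GL (Fin 2) F) := G.comap bmap ⊓ Matrix.GeneralLinearGroup.det.ker
  have hEm : E ∈ D := by
    refine ⟨by show bmap E ∈ G; rw [heb]; exact mul_mem (pow_mem ha 2) (pow_mem hb 2), ?_⟩
    show Matrix.GeneralLinearGroup.det E = 1
    refine Units.ext ?_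
    rw [Matrix.GeneralLinearGroup.val_det_apply, hE, Units.val_mul, Units.val_pow_eq_pow_val,
      Units.val_pow_eq_pow_val, hAv, hBv, det_mul, det_pow, det_pow]
    simp [A', B', det_fin_two]
    grobner
  have hgm : g ∈ D := by
    refine ⟨by show bmap g ∈ G; rw [hgdef, map_mul, map_pow, hav, hbv]; exact mul_mem ha (pow_mem hb 3), ?_⟩
    show Matrix.GeneralLinearGroup.det g = 1
    refine Units.ext ?_
    rw [Matrix.GeneralLinearGroup.val_det_apply, hgdef, Units.val_mul, Units.val_pow_eq_pow_val, hAv, hBv, det_mul,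
      det_pow]
    simp [A', B', det_fin_two]
    grobner
  have hcop : (Nat.card D : F) ≠ 0 := cop_of_noEl (p := p) D fun z hz => hno _ hz.1
  rcases Nat.even_or_odd (Nat.card D) with hev | hod
  · haveI : Fact (Nat.Prime 2) := ⟨Nat.prime_two⟩
    obtain ⟨z, hz⟩ := exists_prime_orderOf_dvd_card' (G := D) 2 hev.two_dvd
    have hz2 : orderOf (z : GL (Fin 2) F) = 2 := by rw [Subgroup.orderOf_coe, hz]
    have hdet : ((z : GL (Fin 2) F) : Matrix (Fin 2) (Fin 2) F).det = 1 := congrArg Units.val z.2.2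
    have hzz : ((z : GL (Fin 2) F) : Matrix (Fin 2) (Fin 2) F) * ((z : GL (Fin 2) F) : Matrix (Fin 2) (Fin 2) F) = 1 := by
      rw [← pow_two, ← Units.val_pow_eq_pow_val, orderOf_dvd_iff_pow_eq_one.1 hz2.dvd, Units.val_one]
    have hq := Block.sq_eq ((z : GL (Fin 2) F) : Matrix (Fin 2) (Fin 2) F)
    rw [hzz, hdet, one_smul] at hq
    set M := ((z : GL (Fin 2) F) : Matrix (Fin 2) (Fin 2) F) with hM
    set t := M.trace
    have ht : t • M = (2 : F) • (1 : Matrix (Fin 2) (Fin 2) F) := by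
      rw [two_smul, eq_comm, ← sub_eq_iff_eq_add.1 hq.symm]
    have ht0 : t ≠ 0 := fun e => by
      rw [e, zero_smul] at ht
      exact h2 (by simpa using (congrFun (congrFun ht 0) 0).symm)
    have hMc : M = (t⁻¹ * 2) • 1 := by rw [← smul_smul, ← ht, smul_smul, inv_mul_cancel₀ ht0, one_smul]
    have hc2 : (t⁻¹ * 2) * (t⁻¹ * 2) = 1 := by
      have := congrFun (congrFun hzz 0) 0
      rw [hMc] at this
      simpa using this
    have hzneg : (z : GL (Fin 2) F) = -1 := by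
      refine Units.ext ?_
      rw [← hM, Units.val_neg, Units.val_one, hMc]
      rcases mul_self_eq_one_iff.1 hc2 with e | e
      · exfalso
        have : (z : GL (Fin 2) F) = 1 := Units.ext (by rw [← hM, hMc, e, one_smul, Units.val_one])
        rw [this, orderOf_one] at hz2
        omega
      · rw [e, neg_one_smul]
    have hc : negOne ∈ G := by rw [negOne, ← hzneg]; exact z.2.1
    have hcom := hsq negOne hc (by rw [negOne, orderOf_injective _ bmap_injective, ← hzneg, hz2])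
      (by rw [← hav, negOne, ← map_mul, ← map_mul, neg_one_mul, mul_neg_one])
      (by rw [← hbv, negOne, ← map_mul, ← map_mul, neg_one_mul, mul_neg_one])
    set e := a ^ 2 * b ^ 2 with hedef
    have a4 : a ^ 2 * a ^ 2 = 1 := by rw [← pow_add, ← hav, ← map_pow, hA4, map_one]
    have b4 : b ^ 2 * b ^ 2 = 1 := by rw [← pow_add, ← hbv, ← map_pow, hB4, map_one]
    have hinv : (a ^ 2) * e ^ 2 * a ^ 2 = (e ^ 2)⁻¹ := by
      have h1 : e⁻¹ = a ^ 2 * e * a ^ 2 := by
        calc e⁻¹ = (b ^ 2)⁻¹ * (a ^ 2)⁻¹ := _root_.mul_inv_rev _ _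
          _ = b ^ 2 * a ^ 2 := by rw [inv_eq_of_mul_eq_one_right a4, inv_eq_of_mul_eq_one_right b4]
          _ = (a ^ 2 * a ^ 2) * b ^ 2 * a ^ 2 := by rw [a4, one_mul]
          _ = _ := by rw [hedef]; group
      rw [← inv_pow, h1, pow_two e, pow_two (a ^ 2 * e * a ^ 2)]
      calc a ^ 2 * (e * e) * a ^ 2 = a ^ 2 * e * 1 * e * a ^ 2 := by group
        _ = a ^ 2 * e * (a ^ 2 * a ^ 2) * e * a ^ 2 := by rw [a4]
        _ = _ := by group
    rw [hcom, mul_assoc, a4, mul_one, eq_inv_iff_mul_eq_one, ← pow_add] at hinv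
    have hd : orderOf e ∣ 2 ^ 2 := orderOf_dvd_of_pow_eq_one hinv
    exact orderOf_eq_one_iff.1 ((Nat.Coprime.pow_right 2 (Nat.coprime_two_right.2 hodd)).eq_one_of_dvd hd)
  · exfalso
    have hcm := Block.comm_of_odd h2 D hod hcop E hEm g hgm
    have hEv : (E : Matrix (Fin 2) (Fin 2) F) = !![4 * x * y - 1, 2 * x; -2 * y, -1] := by
      rw [hE, Units.val_mul, Units.val_pow_eq_pow_val, Units.val_pow_eq_pow_val, hAv, hBv]
      ext i j; fin_cases i <;> fin_cases j <;> simp [A', B', pow_succ, Matrix.mul_apply, Fin.sum_univ_two]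
      all_goals grobner
    have hgv : (g : Matrix (Fin 2) (Fin 2) F) = !![κ + 2 * x * y, (1 + κ) * x; -(1 + κ) * y, -κ] := by
      rw [hgdef, Units.val_mul, Units.val_pow_eq_pow_val, hAv, hBv]
      ext i j; fin_cases i <;> fin_cases j <;> simp [A', B', pow_succ, Matrix.mul_apply, Fin.sum_univ_two]
      all_goals grobner
    clear_value E g
    have hm : (E : Matrix (Fin 2) (Fin 2) F) * (g : Matrix (Fin 2) (Fin 2) F) =
        (g : Matrix (Fin 2) (Fin 2) F) * (E : Matrix (Fin 2) (Fin 2) F) := congrArg Units.val hcm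
    have h01 := congrFun (congrFun hm 0) 1
    rw [hEv, hgv] at h01
    simp [Matrix.mul_apply, Fin.sum_univ_two] at h01
    have h0 : 4 * κ * (x * (x * y - 1)) = 0 := by linear_combination h01
    have hx : x = 0 := by
      rcases mul_eq_zero.1 h0 with e | e
      · rcases mul_eq_zero.1 e with e | e
        · exact absurd (pow_eq_zero_iff (n := 2) (by norm_num) |>.1 (by linear_combination e : (2 : F) ^ 2 = 0)) h2
        · exact absurd e hk
      · exact (mul_eq_zero.1 e).resolve_right (sub_ne_zero.2 hxy)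
    have h1 := first_row (A := (E : Matrix (Fin 2) (Fin 2) F)) (by rw [hEv, hx]; simp) (by rw [hEv, hx]; simp) (orderOf E)
    rw [← Units.val_pow_eq_pow_val, pow_orderOf_eq_one, Units.val_one, Matrix.one_apply_eq, hEo, hodd.neg_one_pow] at h1
    exact h2 (by linear_combination h1)

/-- Two homologies of order four whose squares have a product of odd order have the same square. -/
theorem pair_trivial {p : ℕ} [Fact p.Prime] [CharP F p] (h2 : (2 : F) ≠ 0) {G : Subgroup (PG F)}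
    (hno : ∀ g ∈ G, ¬ IsEl g) {κ : F} (hκ : κ ^ 2 = -1) {a b : PG F} (ha : a ∈ G) (hb : b ∈ G)
    {u φ v ψ : Fin 3 → F} (hA : Hom a κ u φ) (hB : Hom b κ v ψ) (hodd : Odd (orderOf (a ^ 2 * b ^ 2)))
    (hsq : ∀ c ∈ G, orderOf c = 2 → c * a = a * c → c * b = b * c →
      a ^ 2 * (a ^ 2 * b ^ 2) ^ 2 = (a ^ 2 * b ^ 2) ^ 2 * a ^ 2) : a ^ 2 * b ^ 2 = 1 := by
  classical
  obtain ⟨A2, hA2, hA2'⟩ := hA.sq hκ
  obtain ⟨B2, hB2, hB2'⟩ := hB.sq hκ
  set x := φ ⬝ᵥ v with hx
  set y := ψ ⬝ᵥ u with hy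
  have hu : φ ⬝ᵥ u = 1 := hA.1
  have hv : ψ ⬝ᵥ v = 1 := hB.1
  have htrans : ∀ (w χ : Fin 3 → F), χ ⬝ᵥ w = 0 →
      (1 + (-2 : F) • vecMulVec u φ) * (1 + (-2 : F) • vecMulVec v ψ) = 1 + vecMulVec w χ →
      a ^ 2 * b ^ 2 = 1 := fun w χ h0 h => by
    have hmk : (QuotientGroup.mk (A2 * B2) : PG F) = a ^ 2 * b ^ 2 := by rw [QuotientGroup.mk_mul, hA2, hB2]
    have hval : ((A2 * B2 : GL (Fin 3) F) : M3) = 1 + vecMulVec w χ := by rw [Units.val_mul, hA2', hB2', h]
    by_contra hne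
    refine hno _ (mul_mem (pow_mem ha 2) (pow_mem hb 2)) ⟨A2 * B2, hmk, w, χ, ?_, ?_, h0, hval⟩ <;>
    · rintro rfl
      refine hne ?_
      rw [← hmk, show A2 * B2 = 1 from Units.ext (by rw [hval]; simp)]
      rfl
  by_cases hφ : ψ = y • φ
  · have hxy : x * y = 1 := by rw [← hv, hφ, smul_dotProduct, ← hx, smul_eq_mul, mul_comm]
    refine htrans ((2 : F) • (u - y • v)) φ ?_ ?_
    · rw [dotProduct_smul, dotProduct_sub, dotProduct_smul, hu, ← hx, smul_eq_mul, smul_eq_mul]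
      linear_combination (-2 : F) * hxy
    · simp only [hφ, mul_add, add_mul, Matrix.mul_one, Matrix.one_mul, Matrix.smul_mul,
        Matrix.mul_smul, vecMulVec_mul_vecMulVec, ← hx]
      ext i j
      simp [vecMulVec_apply]
      linear_combination (4 * u i * φ j) * hxy
  have hrow : ∀ w : Fin 3 → F, w = 0 ∨ ∃ k, w k ≠ 0 := fun w => by
    by_cases h : w = 0
    · exact Or.inl h
    · exact Or.inr (Function.ne_iff.1 h)
  by_cases hxy : x * y = 1
  · by_cases hv1 : x • u - v = 0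
    · rw [sub_eq_zero] at hv1
      refine htrans u ((2 : F) • (x • ψ - φ)) ?_ ?_
      · rw [smul_dotProduct, sub_dotProduct, smul_dotProduct, hu, ← hy, smul_eq_mul, smul_eq_mul]
        linear_combination (2 : F) * hxy
      · simp only [← hv1, mul_add, add_mul, Matrix.mul_one, Matrix.one_mul, Matrix.smul_mul,
          Matrix.mul_smul, vecMulVec_mul_vecMulVec, dotProduct_smul, hu]
        ext i j
        simp [vecMulVec_apply]
        ring
    exfalso
    obtain ⟨k, hk⟩ := (hrow (ψ - y • φ)).resolve_left (sub_ne_zero.2 hφ)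
    let z : Fin 3 → F := (ψ k - y * φ k)⁻¹ • (Pi.single k 1 - φ k • u)
    have hk' : ψ k - y * φ k ≠ 0 := by simpa using hk
    have z1 : φ ⬝ᵥ z = 0 := by
      simp [z, dotProduct_smul, dotProduct_sub, dotProduct_single, hu]
    have z2 : ψ ⬝ᵥ z = 1 := by
      simp [z, dotProduct_smul, dotProduct_sub, dotProduct_single, ← hy, smul_eq_mul]
      rw [inv_mul_eq_iff_eq_mul₀ hk']
      ring
    set v1 := x • u - v with hv1def
    let T : M3 := !![v1 0, u 0, z 0; v1 1, u 1, z 1; v1 2, u 2, z 2]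
    have hTw : ∀ w : Fin 3 → F, T *ᵥ w = w 0 • v1 + w 1 • u + w 2 • z := fun w => by
      ext i; fin_cases i <;> simp [T, Matrix.mulVec, dotProduct, Fin.sum_univ_three] <;> ring
    have hTr : ∀ χ : Fin 3 → F, χ ᵥ* T = ![χ ⬝ᵥ v1, χ ⬝ᵥ u, χ ⬝ᵥ z] := fun χ => by
      ext i; fin_cases i <;> simp [T, Matrix.vecMul, dotProduct, Fin.sum_univ_three]
    have p1 : φ ⬝ᵥ v1 = 0 := by rw [hv1def, dotProduct_sub, dotProduct_smul, hu, ← hx]; simp
    have q1 : ψ ⬝ᵥ v1 = 0 := by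
      rw [hv1def, dotProduct_sub, dotProduct_smul, hv, ← hy, smul_eq_mul, hxy, sub_self]
    have hTu : IsUnit T := by
      rw [← Matrix.mulVec_injective_iff_isUnit]
      refine (injective_iff_map_eq_zero (Matrix.mulVecLin T)).2 fun w hw => ?_
      have hw' : w 0 • v1 + w 1 • u + w 2 • z = 0 := by rw [← hTw]; exact hw
      have e1 : w 1 = 0 := by
        have := congrArg (φ ⬝ᵥ ·) hw'
        simpa [dotProduct_add, dotProduct_smul, p1, hu, z1] using this
      have e2 : w 2 = 0 := by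
        have := congrArg (ψ ⬝ᵥ ·) hw'
        simpa [dotProduct_add, dotProduct_smul, q1, z2, e1] using this
      have e0 : w 0 = 0 := by
        rw [e1, e2, zero_smul, zero_smul, add_zero, add_zero] at hw'
        exact (smul_eq_zero.1 hw').resolve_right hv1
      ext i; fin_cases i <;> simp [e0, e1, e2]
    obtain ⟨T', hT'⟩ : ∃ T' : GL (Fin 3) F, (T' : M3) = T := hTu
    set m : PG F := QuotientGroup.mk T'
    refine pair_degenerate h2 (G := G.map (MulAut.conj m⁻¹).toMonoidHom) (fun g hg => ?_) hκ hxy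
      ⟨a, ha, by simp [m]⟩ ⟨b, hb, by simp [m]⟩ (hA.conj T' ?_ ?_) (hB.conj T' ?_ ?_)
    · obtain ⟨w, hw, rfl⟩ := hg
      simp only [MulEquiv.coe_toMonoidHom, MulAut.conj_apply, inv_inv]
      exact fun h => hno w hw (by rw [← inv_inv m] at h; exact h.of_conj)
    · rw [hT', hTw]; simp
    · rw [hT', hTr, p1, hu, z1]
    · rw [hT', hTw, hv1def]; simp
    · rw [hT', hTr, q1, ← hy, z2]
  · let Z : Matrix (Fin 2) (Fin 3) F := !![φ 0, φ 1, φ 2; ψ 0, ψ 1, ψ 2]
    obtain ⟨w₀, hw₀, hw0⟩ := Submodule.exists_mem_ne_zero_of_ne_bot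
      (LinearMap.ker_ne_bot_of_finrank_lt (f := Matrix.mulVecLin Z) (by simp))
    rw [LinearMap.mem_ker] at hw₀
    have p1 : φ ⬝ᵥ w₀ = 0 := by
      have := congrFun hw₀ 0
      simpa [Z, Matrix.mulVec, dotProduct, Fin.sum_univ_three] using this
    have q1 : ψ ⬝ᵥ w₀ = 0 := by
      have := congrFun hw₀ 1
      simpa [Z, Matrix.mulVec, dotProduct, Fin.sum_univ_three] using this
    let T : M3 := !![w₀ 0, u 0, v 0; w₀ 1, u 1, v 1; w₀ 2, u 2, v 2]
    have hTw : ∀ w : Fin 3 → F, T *ᵥ w = w 0 • w₀ + w 1 • u + w 2 • v := fun w => by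
      ext i; fin_cases i <;> simp [T, Matrix.mulVec, dotProduct, Fin.sum_univ_three] <;> ring
    have hTr : ∀ χ : Fin 3 → F, χ ᵥ* T = ![χ ⬝ᵥ w₀, χ ⬝ᵥ u, χ ⬝ᵥ v] := fun χ => by
      ext i; fin_cases i <;> simp [T, Matrix.vecMul, dotProduct, Fin.sum_univ_three]
    have hTu : IsUnit T := by
      rw [← Matrix.mulVec_injective_iff_isUnit]
      refine (injective_iff_map_eq_zero (Matrix.mulVecLin T)).2 fun w hw => ?_
      have hw' : w 0 • w₀ + w 1 • u + w 2 • v = 0 := by rw [← hTw]; exact hw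
      have f1 : w 1 + w 2 * x = 0 := by
        have := congrArg (φ ⬝ᵥ ·) hw'
        simpa [dotProduct_add, dotProduct_smul, p1, hu, ← hx] using this
      have f2 : w 1 * y + w 2 = 0 := by
        have := congrArg (ψ ⬝ᵥ ·) hw'
        simpa [dotProduct_add, dotProduct_smul, q1, hv, ← hy] using this
      have e2 : w 2 = 0 := (mul_eq_zero.1 (show (1 - x * y) * w 2 = 0 by linear_combination f2 - y * f1)).resolve_left
        (sub_ne_zero.2 (Ne.symm hxy))
      have e1 : w 1 = 0 := by linear_combination f1 - x * e2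
      have e0 : w 0 = 0 := by
        rw [e1, e2, zero_smul, zero_smul, add_zero, add_zero] at hw'
        exact (smul_eq_zero.1 hw').resolve_right hw0
      ext i; fin_cases i <;> simp [e0, e1, e2]
    obtain ⟨T', hT'⟩ : ∃ T' : GL (Fin 3) F, (T' : M3) = T := hTu
    set m : PG F := QuotientGroup.mk T'
    let c : PG F ≃* PG F := MulAut.conj m⁻¹
    have hc : ∀ g, c g = m⁻¹ * g * m := fun g => by simp [c]
    have hu1 : (T' : M3) *ᵥ ![0, 1, 0] = u := by rw [hT', hTw]; simp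
    have hf1 : φ ᵥ* (T' : M3) = ![0, 1, x] := by rw [hT', hTr, p1, hu, ← hx]
    have hu2 : (T' : M3) *ᵥ ![0, 0, 1] = v := by rw [hT', hTw]; simp
    have hf2 : ψ ᵥ* (T' : M3) = ![0, y, 1] := by rw [hT', hTr, q1, hv, ← hy]
    have hno' : ∀ g ∈ G.map c.toMonoidHom, ¬ IsEl g := fun g hg => by
      obtain ⟨w, hw, rfl⟩ := hg
      simp only [MulEquiv.coe_toMonoidHom]
      rw [hc]
      exact fun h => hno w hw (by rw [show m⁻¹ * w * m = m⁻¹ * w * (m⁻¹)⁻¹ by rw [inv_inv]] at h; exact h.of_conj)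
    have key := pair_general (p := p) h2 (G := G.map c.toMonoidHom) hno' hκ hxy (a := c a) (b := c b)
      ⟨a, ha, rfl⟩ ⟨b, hb, rfl⟩ (by rw [hc]; exact hA.conj T' hu1 hf1) (by rw [hc]; exact hB.conj T' hu2 hf2)
      (by rw [← map_pow, ← map_pow, ← map_mul, MulEquiv.orderOf_eq]; exact hodd) ?_
    · rw [← map_pow, ← map_pow, ← map_mul] at key
      exact c.injective (key.trans (map_one c).symm)
    · rintro z ⟨w, hw, rfl⟩ h2z hza hzb
      simp only [MulEquiv.coe_toMonoidHom] at h2z hza hzb ⊢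
      have := hsq w hw (by rwa [MulEquiv.orderOf_eq] at h2z) (c.injective (by simpa using hza))
        (c.injective (by simpa using hzb))
      simpa using congrArg c this

end Cfsg.Lib.MitchellThree
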