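import Cfsg.Agent.MitchellThree.CentUse
import Cfsg.Agent.MitchellThree.Pair
import Cfsg.Agent.MitchellThree.Inverting

/-!
An elation-free simple group does not have wreathed Sylow 2-subgroups: every involution is the square of a homology
and two homologies of order four generate too little.
-/

set_option autoImplicit false
set_option linter.unusedSectionVars false

namespace Cfsg.Lib.MitchellThree

open Subgroup
open scoped MatrixGroups

universe u v

variable {F : Type u} [Field F] [Finite F] {L : Type v} [Group L] [Finite L] {W : Free F L}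

/-- The lift of a scalar block. -/
theorem rep_bmap {κ : F} (hκ : κ ^ 2 = -1) {A : GL (Fin 2) F}
    (hA : (A : Matrix (Fin 2) (Fin 2) F) = (-κ) • 1) : Hom (bmap A) κ ![1, 0, 0] ![1, 0, 0] := by
  have h0 : κ ≠ 0 := fun e => by rw [e] at hκ; simp at hκ
  refine ⟨by simp [dotProduct, Fin.sum_univ_three], ?_⟩
  set c : GL (Fin 3) F := Units.map (Matrix.scalar (Fin 3) : F →+* Matrix (Fin 3) (Fin 3) F).toMonoidHom
    (Units.mk0 κ h0) with hc
  refine ⟨c * Units.map embHom A, ?_, ?_⟩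
  · rw [QuotientGroup.mk_mul, (QuotientGroup.eq_one_iff c).2 (show c ∈ Cfsg.Geo.scalars (Fin 3) F from MonoidHom.mem_range.2 ⟨_, rfl⟩), one_mul]; rfl
  · show Matrix.scalar (Fin 3) κ * emb (A : Matrix (Fin 2) (Fin 2) F) = _
    rw [hA]
    ext i j
    fin_cases i <;> fin_cases j <;>
      simp [emb, Matrix.scalar_apply, Matrix.diagonal_mul, Matrix.vecMulVec_apply] <;>
      first | ring1 | linear_combination -hκ | linear_combination hκ

/-- Every involution is the square of a homology. -/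
theorem Free.exists_hom (hw : Cfsg.IsWreathed (W.S : Subgroup L)) {t : L} (ht : orderOf t = 2) :
    (∃ κ : F, κ ^ 2 = -1) ∧ ∀ κ : F, κ ^ 2 = -1 → ∃ s : L, s ^ 2 = t ∧ ∃ u φ, Hom (W.j s) κ u φ := by
  obtain ⟨P⟩ := W.exists_frame ht
  set R := (P.R : Subgroup (centralizer ({t} : Set L)))
  have hwR : Cfsg.IsWreathed R := Cfsg.Lib.SylowTwo.isWreathed_congr P.eS.symm hw
  obtain ⟨n, hn, hcard, -⟩ := id hwR
  obtain ⟨hcyc, hc2, -⟩ := Cfsg.Agent.S1197.result hwR n hcard
  obtain ⟨hidx, hscal⟩ := P.center_R ht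
  have hn2 : n = 2 := by
    have h := (center R).card_mul_index
    rw [hc2, hidx, hcard, show 2 ^ (2 * n + 1) = 2 ^ n * 2 ^ (n + 1) by rw [← pow_add]; congr 1; omega] at h
    have h3 : 2 ^ (n + 1) = 2 ^ 3 := (Nat.eq_of_mul_eq_mul_left (Nat.two_pow_pos n) h).symm
    have := Nat.pow_right_injective le_rfl h3
    omega
  obtain ⟨g, hg⟩ := IsCyclic.exists_generator (α := center R)
  have hg4 : orderOf g = 4 := by rw [orderOf_eq_card_of_forall_mem_zpowers hg, hc2, hn2]; norm_num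
  set s := ((g : R) : centralizer ({t} : Set L)) with hs
  have hs4 : orderOf s = 4 := by rw [hs, Subgroup.orderOf_coe, Subgroup.orderOf_coe, hg4]
  obtain ⟨c, hc⟩ := hscal (g : R) g.2
  have hpw : ∀ k, ((P.f (s ^ k) : GL (Fin 2) F) : Matrix (Fin 2) (Fin 2) F) = c ^ k • 1 := fun k => by
    rw [map_pow, Units.val_pow_eq_pow_val, hc, smul_pow, one_pow]
  have hs2 : s ^ 2 ≠ 1 := fun e => by have := Nat.le_of_dvd (by norm_num) (orderOf_dvd_of_pow_eq_one e); omega
  have hcsq : c ^ 2 = -1 := by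
    have h4 : c ^ 2 * c ^ 2 = 1 := by
      have h : ((P.f (s ^ 4) : GL (Fin 2) F) : Matrix (Fin 2) (Fin 2) F) = 1 := by
        rw [orderOf_dvd_iff_pow_eq_one.1 hs4.dvd, map_one, Units.val_one]
      rw [hpw] at h
      have := congrFun (congrFun h 0) 0
      simp at this
      linear_combination this
    refine (mul_self_eq_one_iff.1 h4).resolve_left fun e => hs2 (P.inj (Units.ext ?_))
    rw [hpw, e, one_smul, map_one, Units.val_one]
  refine ⟨⟨c, hcsq⟩, fun κ hκ => ?_⟩
  have key : ∀ s' : centralizer ({t} : Set L),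
      ((P.f s' : GL (Fin 2) F) : Matrix (Fin 2) (Fin 2) F) = (-κ) • 1 →
      ∃ s : L, s ^ 2 = t ∧ ∃ u φ, Hom (W.j s) κ u φ := fun s' hs' => by
    refine ⟨s', ?_, ?_⟩
    · have : s' ^ 2 = ⟨t, mem_centralizer_singleton_iff.2 rfl⟩ := P.inj (Units.ext (by
        rw [map_pow, Units.val_pow_eq_pow_val, hs', smul_pow, one_pow, neg_sq, hκ, P.f_t, Units.val_neg,
          Units.val_one, neg_one_smul]))
      exact congrArg Subtype.val this
    · obtain ⟨Y, hY⟩ := QuotientGroup.mk_surjective P.y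
      refine ⟨((Y⁻¹ : GL (Fin 3) F) : Matrix (Fin 3) (Fin 3) F).mulVec ![1, 0, 0],
        Matrix.vecMul ![1, 0, 0] (Y : Matrix (Fin 3) (Fin 3) F), ?_⟩
      have h := (rep_bmap hκ hs').conj Y (u' := ((Y⁻¹ : GL (Fin 3) F) : Matrix (Fin 3) (Fin 3) F).mulVec ![1, 0, 0])
        (by rw [Matrix.mulVec_mulVec, Units.mul_inv, Matrix.one_mulVec]) rfl
      rw [P.spec, hY] at h
      rwa [show P.y⁻¹ * (P.y * W.j s' * P.y⁻¹) * P.y = W.j s' by group] at h
  rcases sq_eq_sq_iff_eq_or_eq_neg.1 (hcsq.trans hκ.symm) with e | e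
  · refine key (s ^ 3) ?_
    rw [hpw, pow_succ, hcsq, e, neg_one_mul]
  · refine key s ?_
    rw [← pow_one s, hpw, pow_one, e]

/-- No two involutions have product of non-trivial odd order. -/
theorem Free.eq_of_odd (hw : Cfsg.IsWreathed (W.S : Subgroup L)) {a b : L} (ha : orderOf a = 2)
    (hb : orderOf b = 2) (hodd : Odd (orderOf (a * b))) : a * b = 1 := by
  haveI := W.char
  haveI := Fact.mk W.prime
  obtain ⟨⟨κ, hκ⟩, hA⟩ := W.exists_hom hw ha
  obtain ⟨sa, rfl, u, φ, hsa⟩ := hA κ hκ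
  obtain ⟨sb, rfl, v, ψ, hsb⟩ := (W.exists_hom hw hb).2 κ hκ
  refine W.inj ?_
  rw [map_one, map_mul, map_pow, map_pow]
  refine pair_trivial (p := W.p) W.two (G := W.j.range) (fun g ⟨x, hx⟩ => hx ▸ W.noEl x) hκ ⟨sa, rfl⟩ ⟨sb, rfl⟩
    hsa hsb (by rw [← map_pow, ← map_pow, ← map_mul, orderOf_injective _ W.inj]; exact hodd) ?_
  rintro _ ⟨c, rfl⟩ hc hca hcb
  rw [orderOf_injective _ W.inj] at hc
  rw [← map_mul, ← map_mul] at hca hcb
  obtain ⟨P⟩ := W.exists_frame hc
  let x : centralizer ({c} : Set L) := ⟨sa, mem_centralizer_singleton_iff.2 (W.inj hca).symm⟩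
  let y : centralizer ({c} : Set L) := ⟨sb, mem_centralizer_singleton_iff.2 (W.inj hcb).symm⟩
  have h4 : ∀ s : L, orderOf (s ^ 2) = 2 → s ^ 4 = 1 := fun s hs => by
    rw [show 4 = 2 * 2 from rfl, pow_mul]; exact orderOf_dvd_iff_pow_eq_one.1 hs.dvd
  have h := congrArg Subtype.val
    (P.commute_of_scal (P.squares hc (x := x) (y := y) (Subtype.ext (h4 sa ha)) (Subtype.ext (h4 sb hb))) (x ^ 2))
  simp only [← map_pow, ← map_mul]
  exact congrArg W.j h.symm

/-- The Sylow 2-subgroup is not wreathed. -/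
theorem Free.not_wreathed (W : Free F L) : ¬ Cfsg.IsWreathed (W.S : Subgroup L) := by
  intro hw
  haveI : Fact (Nat.Prime 2) := ⟨Nat.prime_two⟩
  haveI := W.simple
  have hN : ∀ N : Subgroup L, N.Normal → IsPGroup 2 N → N = ⊥ := fun N hN hp => by
    refine hN.eq_bot_or_eq_top.resolve_right fun e => W.ncomm ?_
    rw [e] at hp
    haveI : Group.IsNilpotent L := (hp.of_equiv Subgroup.topEquiv).isNilpotent
    exact ⟨⟨IsSimpleGroup.comm_iff_isSolvable.2 inferInstance⟩⟩
  have h2 : 2 ∣ Nat.card L := by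
    obtain ⟨n, hn, hcard, -⟩ := hw
    refine dvd_trans ?_ (W.S : Subgroup L).card_subgroup_dvd_card
    rw [hcard]; exact dvd_pow_self 2 (by omega)
  obtain ⟨x, hx1, hxo, t, hxt, ht⟩ : ∃ x : L, x ≠ 1 ∧ Odd (orderOf x) ∧ ∃ t : L, t * x * t⁻¹ = x⁻¹ ∧ orderOf t = 2 :=
    exists_inverting h2 hN
  have htt : t * t = 1 := by rw [← pow_two]; exact orderOf_dvd_iff_pow_eq_one.1 ht.dvd
  have hti : t⁻¹ = t := inv_eq_of_mul_eq_one_left htt
  have hb : orderOf (t * x) = 2 := by
    refine orderOf_eq_prime ?_ fun e => hx1 ?_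
    · rw [pow_two]
      calc t * x * (t * x) = (t * x * t⁻¹) * x := by rw [hti]; group
        _ = 1 := by rw [hxt, inv_mul_cancel]
    · have hx : x = t := by rw [← hti]; exact eq_inv_of_mul_eq_one_right e
      rw [hx, ht] at hxo
      exact absurd hxo (by decide)
  have hab : t * (t * x) = x := by rw [← mul_assoc, htt, one_mul]
  have h := W.eq_of_odd hw ht hb (by rwa [hab])
  exact hx1 (hab ▸ h)

end Cfsg.Lib.MitchellThree
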