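import Cfsg.Agent.GenDihedral.Red.AutTwo
import Cfsg.Agent.Classical.Misc.PSLNine
import Cfsg.Agent.Classical.Misc.SmallPSL

/-!
Unipotent and diagonal elements of `PSL₂` over a finite field of odd order, and their images under the diagonal and
field automorphisms.
-/

set_option autoImplicit false
set_option linter.unusedSectionVars false

namespace Cfsg.Lib.MitchellThree.Two

open Matrix Cfsg.Lib.Known.AutPSLn
open scoped MatrixGroups

variable {K : Type} [Field K]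

local notation "P2" => Matrix.ProjectiveSpecialLinearGroup (Fin 2) K

/-- The projection. -/
abbrev pr : SL(2, K) →* P2 := QuotientGroup.mk' (Subgroup.center SL(2, K))

/-- A unipotent element. -/
def uni (a : K) : SL(2, K) := ⟨!![1, a; 0, 1], by simp [det_fin_two]⟩

/-- A diagonal element. -/
def dia (s : Kˣ) : SL(2, K) := ⟨!![(s : K), 0; 0, ((s⁻¹ : Kˣ) : K)], by simp [det_fin_two]⟩

/-- The Weyl element. -/
def wey : SL(2, K) := ⟨!![0, 1; -1, 0], by simp [det_fin_two]⟩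

/-- Its image. -/
def W : P2 := pr wey

/-- The image of a unipotent element. -/
def U (a : K) : P2 := pr (uni a)

/-- The image of a diagonal element. -/
def D (s : Kˣ) : P2 := pr (dia s)

theorem pr_eq_iff {M N : SL(2, K)} : pr M = pr N ↔ ∃ c : K, c * c = 1 ∧ (N : Matrix (Fin 2) (Fin 2) K) = c • (M : Matrix (Fin 2) (Fin 2) K) := by
  constructor
  · exact Cfsg.Lib.Known.AutPSL2.π_eq
  · rintro ⟨c, hc, h⟩
    refine (QuotientGroup.mk'_eq_mk' _).2 ⟨M⁻¹ * N, ?_, mul_inv_cancel_left _ _⟩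
    refine Matrix.SpecialLinearGroup.mem_center_iff.2 ⟨c, by simpa [sq] using hc, ?_⟩
    show _ = ((M⁻¹ : SL(2, K)) : Matrix (Fin 2) (Fin 2) K) * (N : Matrix (Fin 2) (Fin 2) K)
    rw [h, Matrix.mul_smul, show ((M⁻¹ : SL(2, K)) : Matrix (Fin 2) (Fin 2) K) * (M : Matrix (Fin 2) (Fin 2) K) = 1 from
      congrArg Subtype.val (inv_mul_cancel M), Matrix.scalar_apply, ← Matrix.smul_one_eq_diagonal]

theorem U_add (a b : K) : U (a + b) = U a * U b := by
  rw [U, U, U, ← map_mul]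
  congr 1
  refine Subtype.ext ?_
  show !![1, a + b; 0, 1] = !![1, a; 0, 1] * !![1, b; 0, 1]
  ext i j; fin_cases i <;> fin_cases j <;> simp [Matrix.mul_apply, Fin.sum_univ_two, add_comm]

theorem U_zero : U (0 : K) = 1 := by
  have h := U_add (0 : K) 0
  rw [add_zero] at h
  exact mul_eq_left.1 h.symm

theorem U_inj {a b : K} (h : U a = U b) : a = b := by
  obtain ⟨c, -, h⟩ := pr_eq_iff.1 h
  have h0 := congrFun (congrFun h 0) 0
  have h1 := congrFun (congrFun h 0) 1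
  simp [uni] at h0 h1
  rw [h1, ← h0, one_mul]

theorem U_pow (a : K) (n : ℕ) : U a ^ n = U (n • a) := by
  induction n with
  | zero => rw [pow_zero, zero_smul, U_zero]
  | succ n ih => rw [pow_succ, ih, succ_nsmul, U_add]

theorem U_neg (a : K) : U (-a) = (U a)⁻¹ := eq_inv_of_mul_eq_one_left (by rw [← U_add, neg_add_cancel, U_zero])

theorem D_mul (s t : Kˣ) : D (s * t) = D s * D t := by
  rw [D, D, D, ← map_mul]
  congr 1
  refine Subtype.ext ?_
  show !![((s * t : Kˣ) : K), 0; 0, (((s * t)⁻¹ : Kˣ) : K)] = !![(s : K), 0; 0, ((s⁻¹ : Kˣ) : K)] * !![(t : K), 0; 0, ((t⁻¹ : Kˣ) : K)]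
  ext i j; fin_cases i <;> fin_cases j <;> simp [Matrix.mul_apply, Fin.sum_univ_two, mul_comm]

theorem D_one : D (1 : Kˣ) = 1 := by
  have h := D_mul (1 : Kˣ) 1
  rw [mul_one] at h
  exact mul_eq_left.1 h.symm

theorem D_inv (s : Kˣ) : D s⁻¹ = (D s)⁻¹ := eq_inv_of_mul_eq_one_left (by rw [← D_mul, inv_mul_cancel, D_one])

theorem D_pow (s : Kˣ) (n : ℕ) : D s ^ n = D (s ^ n) := by
  induction n with
  | zero => rw [pow_zero, pow_zero, D_one]
  | succ n ih => rw [pow_succ, pow_succ, ih, D_mul]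

theorem D_eq_one_iff {s : Kˣ} : D s = 1 ↔ (s : K) = 1 ∨ (s : K) = -1 := by
  constructor
  · intro h
    obtain ⟨c, hc, h⟩ := pr_eq_iff.1 (h.trans (map_one pr).symm)
    have h0 := congrFun (congrFun h 0) 0
    simp [dia] at h0
    rcases mul_self_eq_one_iff.1 hc with rfl | rfl
    · left; linear_combination -h0
    · right; linear_combination h0
  · intro h
    rw [← map_one pr, D]
    refine pr_eq_iff.2 ⟨(s : K), by rcases h with h | h <;> simp [h], ?_⟩
    have hs : ((s⁻¹ : Kˣ) : K) = s := by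
      rw [Units.val_inv_eq_inv_val]
      rcases h with h | h <;> simp [h]
    have h1 : (s : K) * s = 1 := by rcases h with h | h <;> simp [h]
    show (1 : Matrix (Fin 2) (Fin 2) K) = _
    ext i j; fin_cases i <;> fin_cases j <;> simp [dia, h1]

theorem D_conj_U (s : Kˣ) (a : K) : D s * U a * (D s)⁻¹ = U ((s : K) * s * a) := by
  rw [mul_inv_eq_iff_eq_mul, D, U, U, ← map_mul, ← map_mul]
  congr 1
  refine Subtype.ext ?_
  show !![(s : K), 0; 0, ((s⁻¹ : Kˣ) : K)] * !![1, a; 0, 1] =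
    !![1, (s : K) * s * a; 0, 1] * !![(s : K), 0; 0, ((s⁻¹ : Kˣ) : K)]
  ext i j; fin_cases i <;> fin_cases j <;> simp [Matrix.mul_apply, Fin.sum_univ_two]
  field_simp

theorem W_conj_D (s : Kˣ) : W * D s * W⁻¹ = (D s)⁻¹ := by
  rw [← D_inv, mul_inv_eq_iff_eq_mul, W, D, D, ← map_mul, ← map_mul]
  congr 1
  refine Subtype.ext ?_
  show !![(0 : K), 1; -1, 0] * !![(s : K), 0; 0, ((s⁻¹ : Kˣ) : K)] =
    !![((s⁻¹ : Kˣ) : K), 0; 0, (((s⁻¹)⁻¹ : Kˣ) : K)] * !![(0 : K), 1; -1, 0]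
  ext i j; fin_cases i <;> fin_cases j <;> simp [Matrix.mul_apply, Fin.sum_univ_two]

/-- `diag(ν, 1)`. -/
abbrev dg (ν : Kˣ) : GL (Fin 2) K := Cfsg.Lib.Known.AutPSL2.diagGL ν

theorem dg_U (ν : Kˣ) (a : K) : (conjP (dg ν) : MulAut P2) (U a) = U ((ν : K) * a) := by
  show pr (conjSL (dg ν) (uni a)) = pr (uni _)
  congr 1
  refine Subtype.ext ?_
  rw [Cfsg.Lib.Known.AutPSLn.coe_conjSL]
  rw [← map_inv, Cfsg.Lib.Known.AutPSL2.coe_diagGL, Cfsg.Lib.Known.AutPSL2.coe_diagGL]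
  show _ * !![1, a; 0, 1] * _ = !![1, (ν : K) * a; 0, 1]
  ext i j; fin_cases i <;> fin_cases j <;> simp [Matrix.mul_apply, Fin.sum_univ_two]

theorem dg_D (ν : Kˣ) (s : Kˣ) : (conjP (dg ν) : MulAut P2) (D s) = D s := by
  show pr (conjSL (dg ν) (dia s)) = pr (dia s)
  congr 1
  refine Subtype.ext ?_
  rw [Cfsg.Lib.Known.AutPSLn.coe_conjSL]
  rw [← map_inv, Cfsg.Lib.Known.AutPSL2.coe_diagGL, Cfsg.Lib.Known.AutPSL2.coe_diagGL]
  show _ * !![(s : K), 0; 0, ((s⁻¹ : Kˣ) : K)] * _ = !![(s : K), 0; 0, ((s⁻¹ : Kˣ) : K)]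
  ext i j
  fin_cases i <;> fin_cases j <;> simp [Matrix.mul_apply, Fin.sum_univ_two]
  field_simp

theorem field_U (τ : K ≃+* K) (a : K) : (fieldP τ : MulAut P2) (U a) = U (τ a) := by
  show pr (fieldSL τ (uni a)) = pr (uni (τ a))
  congr 1
  refine Subtype.ext ?_
  rw [coe_fieldSL]
  ext i j; fin_cases i <;> fin_cases j <;> simp [uni]

theorem field_D (τ : K ≃+* K) (s : Kˣ) :
    (fieldP τ : MulAut P2) (D s) = D (Units.map (τ : K →* K) s) := by
  show pr (fieldSL τ (dia s)) = pr (dia _)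
  congr 1
  refine Subtype.ext ?_
  rw [coe_fieldSL]
  ext i j; fin_cases i <;> fin_cases j <;> simp [dia]

variable [Fintype K]

theorem D_order {ζ : Kˣ} (hζ : orderOf ζ = Fintype.card K - 1) (hodd : Odd (Fintype.card K)) :
    orderOf (D ζ) = (Fintype.card K - 1) / 2 := by
  obtain ⟨m, hm⟩ := hodd
  have h2 : Fintype.card K - 1 = 2 * m := by omega
  have hm0 : 0 < m := by
    have := Fintype.one_lt_card (α := K); omega
  rw [h2, Nat.mul_div_cancel_left m two_pos, orderOf_eq_iff hm0]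
  refine ⟨?_, fun k hk hk0 h => ?_⟩
  · rw [D_pow, D_eq_one_iff]
    have h1 : ((ζ ^ m : Kˣ) : K) * ((ζ ^ m : Kˣ) : K) = 1 := by
      rw [← Units.val_mul, ← pow_add, ← two_mul, ← h2, ← hζ, pow_orderOf_eq_one, Units.val_one]
    exact mul_self_eq_one_iff.1 h1
  · rw [D_pow, D_eq_one_iff] at h
    have h1 : ζ ^ (2 * k) = 1 := Units.ext (by
      rw [pow_mul', Units.val_pow_eq_pow_val, Units.val_one]
      rcases h with h | h <;> rw [h] <;> simp)
    have h3 := Nat.le_of_dvd (by omega) (orderOf_dvd_of_pow_eq_one h1)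
    omega

/-- An automorphism is inner, up to a diagonal and a field automorphism. -/
theorem decomp (β : MulAut P2) :
    ∃ (M : P2) (ν : Kˣ) (τ : K ≃+* K), β = MulAut.conj M * (conjP (dg ν) * fieldP τ) := by
  obtain ⟨g, τ, h⟩ := Cfsg.Lib.GenDihedral.decomp_two β
  have hd : (g : Matrix (Fin 2) (Fin 2) K).det ≠ 0 := (Matrix.isUnits_det_units g).ne_zero
  set ν : Kˣ := Units.mk0 _ hd
  let M : SL(2, K) := ⟨(g : Matrix (Fin 2) (Fin 2) K) * ((dg ν⁻¹ : GL (Fin 2) K) : Matrix (Fin 2) (Fin 2) K), by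
    rw [det_mul, Cfsg.Lib.Known.AutPSL2.coe_diagGL, det_fin_two_of]
    simp [ν, hd]⟩
  refine ⟨pr M, ν, τ, ?_⟩
  have hg : g = Matrix.SpecialLinearGroup.toGL M * dg ν := by
    refine Units.ext ?_
    show (g : Matrix (Fin 2) (Fin 2) K) = (g : Matrix (Fin 2) (Fin 2) K) * _ * _
    rw [mul_assoc, ← Units.val_mul, ← map_mul, inv_mul_cancel, map_one, Units.val_one, mul_one]
  rw [h, hg, map_mul, conjP_toGL, mul_assoc]

theorem diag_inner_of_sq {g : GL (Fin 2) K} (h : IsSquare (g : Matrix (Fin 2) (Fin 2) K).det) :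
    ∃ M : P2, (conjP g : MulAut P2) = MulAut.conj M := Cfsg.Lib.GenDihedral.inner_of_sq_det h

end Cfsg.Lib.MitchellThree.Two
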