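import Cfsg.Agent.MitchellThree.Mono
import Cfsg.Agent.MitchellThree.PslData
import Cfsg.Agent.GWDihedral.Tops.Linear

/-!
A group of automorphisms of `PSL₂(K)` containing the inner ones and embedded in the three-dimensional projective
linear group: the general facts.
-/

set_option autoImplicit false
set_option linter.unusedSectionVars false

namespace Cfsg.Lib.MitchellThree.Two

open Matrix Cfsg.Lib.Known.AutPSLn
open scoped MatrixGroups

universe u

variable {K : Type} [Field K] [Fintype K] {F : Type u} [Field F] [Finite F]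

local notation "P2" => Matrix.ProjectiveSpecialLinearGroup (Fin 2) K

/-- The embedding data. -/
structure Emb (K : Type) [Field K] [Fintype K] (F : Type u) [Field F] [Finite F] where
  /-- The group of automorphisms. -/
  A : Subgroup (MulAut (Matrix.ProjectiveSpecialLinearGroup (Fin 2) K))
  inn : ∀ x, MulAut.conj x ∈ A
  /-- The embedding. -/
  f : A →* PG F
  inj : Function.Injective f
  odd : Odd (Fintype.card K)
  three_lt : 3 < Fintype.card K

/-- Every member is inner. -/
def Emb.Inner (E : Emb K F) : Prop := ∀ β ∈ E.A, ∃ x, β = MulAut.conj x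

/-- Every member is linear. -/
def Emb.Linear (E : Emb K F) : Prop := ∀ β ∈ E.A, ∃ g : GL (Fin 2) K, β = conjP g

variable (E : Emb K F)

theorem conj_injective : Function.Injective (MulAut.conj : P2 →* MulAut P2) := by
  refine (injective_iff_map_eq_one _).2 fun x hx => ?_
  obtain ⟨M, rfl⟩ := QuotientGroup.mk'_surjective _ x
  rw [← conjP_toGL, ← map_one (conjP : GL (Fin 2) K →* MulAut P2)] at hx
  obtain ⟨c, hc⟩ := Cfsg.Lib.CyclicNorm.conjP_eq_iff hx
  have hc' : (M : Matrix (Fin 2) (Fin 2) K) = c • (1 : Matrix (Fin 2) (Fin 2) K) := hc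
  have hd := M.2
  rw [hc', det_smul, det_one, mul_one, Fintype.card_fin, pow_two] at hd
  symm
  rw [← map_one (pr (K := K))]
  exact pr_eq_iff.2 ⟨c, hd, by rw [hc']; rfl⟩

/-- The image of the simple group. -/
def Emb.J : P2 →* PG F := E.f.comp ((MulAut.conj : P2 →* MulAut P2).codRestrict E.A E.inn)

theorem Emb.J_injective : Function.Injective E.J := fun _ _ h =>
  conj_injective (congrArg Subtype.val (E.inj h))

theorem Emb.conj_eq {β : MulAut P2} (hβ : β ∈ E.A) (x : P2) :
    E.f ⟨β, hβ⟩ * E.J x * (E.f ⟨β, hβ⟩)⁻¹ = E.J (β x) := by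
  show E.f _ * E.f _ * (E.f _)⁻¹ = E.f _
  rw [← map_inv, ← map_mul, ← map_mul]
  congr 1
  refine Subtype.ext (MulEquiv.ext fun y => ?_)
  simp [MulAut.mul_apply]

theorem Emb.act_inner {x y : P2} {k : ℕ} (h : y * x * y⁻¹ = x ^ k) : Act (E.J x) k :=
  Or.inl ⟨E.J y, by rw [← map_inv, ← map_mul, ← map_mul, h, map_pow]⟩

theorem Emb.act_aut {β : MulAut P2} (hβ : β ∈ E.A) {x : P2} {k : ℕ} (h : β x = x ^ k) : Act (E.J x) k :=
  Or.inl ⟨E.f ⟨β, hβ⟩, by rw [E.conj_eq, h, map_pow]⟩

/-- Every member is inner times a diagonal and a field automorphism in the group. -/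
theorem Emb.exists_rep {β : MulAut P2} (hβ : β ∈ E.A) : ∃ (M : P2) (ν : Kˣ) (τ : K ≃+* K),
    β = MulAut.conj M * (conjP (dg ν) * fieldP τ) ∧ conjP (dg ν) * fieldP τ ∈ E.A := by
  obtain ⟨M, ν, τ, h⟩ := decomp β
  refine ⟨M, ν, τ, h, ?_⟩
  rw [h] at hβ
  exact (Subgroup.mul_mem_cancel_left _ (E.inn M)).1 hβ

theorem isSquare_mul_of_not {a b : Kˣ} (ha : ¬ IsSquare (a : K)) (hb : ¬ IsSquare (b : K)) :
    IsSquare ((a * b : Kˣ) : K) := by
  classical
  have h2 : ringChar K ≠ 2 := fun h => ha (FiniteField.isSquare_of_char_two h _)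
  have ha' := (quadraticChar_neg_one_iff_not_isSquare (F := K)).2 ha
  have hb' := (quadraticChar_neg_one_iff_not_isSquare (F := K)).2 hb
  rw [← quadraticChar_one_iff_isSquare (by simp), Units.val_mul, map_mul, ha', hb']
  norm_num

/-- A linear group with a diagonal outer member contains every linear automorphism. -/
theorem Emb.inner_or_all (h : E.Linear) : E.Inner ∨ ∀ g : GL (Fin 2) K, conjP g ∈ E.A := by
  classical
  by_cases hin : E.Inner
  · exact Or.inl hin
  refine Or.inr fun g => ?_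
  simp only [Emb.Inner] at hin
  push Not at hin
  obtain ⟨β, hβ, hno⟩ := hin
  obtain ⟨g₀, rfl⟩ := h β hβ
  have hns : ¬ IsSquare (g₀ : Matrix (Fin 2) (Fin 2) K).det := fun hs => by
    obtain ⟨x, hx⟩ := diag_inner_of_sq hs
    exact hno x hx
  by_cases hg : IsSquare (g : Matrix (Fin 2) (Fin 2) K).det
  · obtain ⟨x, hx⟩ := diag_inner_of_sq hg
    rw [hx]; exact E.inn x
  · have hsq : IsSquare ((g * g₀ : GL (Fin 2) K) : Matrix (Fin 2) (Fin 2) K).det := by
      rw [Units.val_mul, det_mul]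
      have := isSquare_mul_of_not (a := Units.mk0 _ (Matrix.isUnits_det_units g).ne_zero)
        (b := Units.mk0 _ (Matrix.isUnits_det_units g₀).ne_zero) hg hns
      simpa using this
    obtain ⟨x, hx⟩ := diag_inner_of_sq hsq
    have : conjP (g * g₀) ∈ E.A := by rw [hx]; exact E.inn x
    rw [map_mul] at this
    exact (Subgroup.mul_mem_cancel_right _ hβ).1 this

theorem Emb.linear_of_trivial (h : ∀ (ν : Kˣ) (τ : K ≃+* K), conjP (dg ν) * fieldP τ ∈ E.A → τ = 1) : E.Linear := by
  intro β hβ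
  obtain ⟨M, ν, τ, hd, hmem⟩ := E.exists_rep hβ
  obtain ⟨M, rfl⟩ := QuotientGroup.mk'_surjective _ M
  refine ⟨Matrix.SpecialLinearGroup.toGL M * dg ν, ?_⟩
  rw [hd, h ν τ hmem, map_one, mul_one, map_mul, conjP_toGL]

theorem ringEquiv_eq_one_of_prime (hK : (Fintype.card K).Prime) (τ : K ≃+* K) : τ = 1 := by
  haveI : Fact (Fintype.card K).Prime := ⟨hK⟩
  let e : ZMod (Fintype.card K) ≃+* K := ZMod.ringEquivOfPrime K hK rfl
  refine RingEquiv.ext fun x => ?_
  have : (((e.symm x).val : ℕ) : K) = x := by rw [← map_natCast e, ZMod.natCast_rightInverse, e.apply_symm_apply]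
  rw [← this, map_natCast]
  rfl

theorem two_ne_zero_of_odd (hodd : Odd (Fintype.card K)) : (2 : K) ≠ 0 :=
  Cfsg.Lib.Classical.PSLFour.two_ne hodd

theorem fix_all_of_squares (hodd : Odd (Fintype.card K)) (τ : K ≃+* K) (h : ∀ x : K, τ (x * x) = x * x) :
    τ = 1 := by
  refine RingEquiv.ext fun x => ?_
  show τ x = x
  have h2 := two_ne_zero_of_odd hodd
  have h4 : (4 : K) ≠ 0 := by rw [show (4 : K) = 2 * 2 by norm_num]; exact mul_ne_zero h2 h2
  refine mul_left_cancel₀ h4 ?_
  have e : 4 * x = (x + 1) * (x + 1) - (x - 1) * (x - 1) := by ring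
  have e' := congrArg τ e
  rw [map_sub, h, h, map_mul, map_ofNat, ← e] at e'
  exact e'

/-- A field automorphism inverting the squares lives on a field with at most nine elements. -/
theorem card_le_nine (hodd : Odd (Fintype.card K)) (τ : K ≃+* K) (hne : τ ≠ 1)
    (h : ∀ x : K, x ≠ 0 → τ (x * x) = (x * x)⁻¹) : Fintype.card K ≤ 9 := by
  classical
  have hττ' : ∀ x, τ (τ x) = x := by
    intro x
    have h1 : τ * τ = 1 := fix_all_of_squares hodd (τ * τ) fun x => by
      show τ (τ (x * x)) = x * x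
      rcases eq_or_ne x 0 with rfl | hx
      · simp
      · rw [h x hx, map_inv₀, h x hx, inv_inv]
    exact congrArg (fun f : K ≃+* K => f x) h1
  have hfix : ∀ a : K, τ a = a → a = 0 ∨ a = 1 ∨ a = -1 := by
    intro a ha
    rcases eq_or_ne a 0 with rfl | ha0
    · exact Or.inl rfl
    obtain ⟨s, rfl⟩ := Cfsg.Lib.GWD.Linear.isSquare_of_fixed hodd (RingEquiv.ext hττ' : τ * τ = 1) hne ha
    have hs : s ≠ 0 := fun e => ha0 (by rw [e, mul_zero])
    rw [h s hs] at ha
    right
    apply mul_self_eq_one_iff.1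
    calc s * s * (s * s) = s * s * (s * s)⁻¹ := by rw [ha]
      _ = 1 := mul_inv_cancel₀ ha0
  obtain ⟨x₀, hx₀⟩ : ∃ x, τ x ≠ x := by
    by_contra hh; push Not at hh; exact hne (RingEquiv.ext hh)
  set e := x₀ - τ x₀ with he
  have he0 : e ≠ 0 := sub_ne_zero.2 hx₀.symm
  have hτe : τ e = -e := by rw [he, map_sub, hττ', neg_sub]
  let S : Finset K := {0, 1, -1}
  have hS : S.card ≤ 3 := Finset.card_le_three
  have hmaps : ∀ x : K, (x + τ x, (x - τ x) * e) ∈ S ×ˢ S := fun x => by
    simp only [Finset.mem_product, S, Finset.mem_insert, Finset.mem_singleton]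
    exact ⟨hfix _ (by rw [map_add, hττ', add_comm]), hfix _ (by rw [map_mul, map_sub, hττ', hτe]; ring)⟩
  have h2 := two_ne_zero_of_odd hodd
  have := Finset.card_le_card_of_injOn (s := Finset.univ) (fun x : K => (x + τ x, (x - τ x) * e))
    (fun x _ => hmaps x) (fun x _ y _ hxy => by
      simp only [Prod.mk.injEq] at hxy
      have h1 : x - τ x = y - τ y := mul_right_cancel₀ he0 hxy.2
      refine mul_left_cancel₀ h2 ?_
      linear_combination hxy.1 + h1)
  rw [Finset.card_univ, Finset.card_product] at this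
  exact this.trans (Nat.mul_le_mul hS hS)

theorem exists_gen : ∃ ζ : Kˣ, orderOf ζ = Fintype.card K - 1 ∧ ∀ u : Kˣ, ∃ n : ℕ, ζ ^ n = u := by
  obtain ⟨ζ, hζ⟩ := IsCyclic.exists_ofOrder_eq_natCard (α := Kˣ)
  refine ⟨ζ, ?_, fun u => ?_⟩
  · classical
    rw [hζ, Nat.card_eq_fintype_card, Fintype.card_units]
  · have htop : Subgroup.zpowers ζ = ⊤ := by
      apply Subgroup.eq_top_of_card_eq
      rw [Nat.card_zpowers, hζ]
    have hu : u ∈ Subgroup.zpowers ζ := htop ▸ Subgroup.mem_top u
    exact (isOfFinOrder_of_finite ζ).mem_powers_iff_mem_zpowers.2 hu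

/-- The congruence of the field of definition from a split torus, and linearity of the group. -/
theorem Emb.torus (hcop : ((((Fintype.card K - 1) / 2 : ℕ)) : F) ≠ 0) (h9 : 9 ≤ Fintype.card K) :
    ((Fintype.card K - 1) / 2 ∣ Nat.card F - 1 ∨ (Fintype.card K - 1) / 2 ∣ Nat.card F + 1) ∧
    ((9 < Fintype.card K ∨ ∀ (ν : Kˣ) (τ : K ≃+* K), conjP (dg ν) * fieldP τ ∈ E.A → τ = 1) → E.Linear) := by
  obtain ⟨ζ, hζ, hgen⟩ := exists_gen (K := K)
  set d := (Fintype.card K - 1) / 2 with hd
  have hd4 : 4 ≤ d := by omega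
  have hord : orderOf (E.J (D ζ)) = d := by rw [orderOf_injective _ E.J_injective, D_order hζ E.odd]
  set x := E.J (D ζ)
  have hx : (orderOf x : F) ≠ 0 := by rw [hord]; exact hcop
  have hx3 : x ^ 3 ≠ 1 := fun e => by
    have := Nat.le_of_dvd (by norm_num) (hord ▸ orderOf_dvd_of_pow_eq_one e); omega
  have hxd : x ^ d = 1 := hord ▸ pow_orderOf_eq_one x
  have hinv : x ^ (d - 1) = x⁻¹ :=
    eq_inv_of_mul_eq_one_left (by rw [← pow_succ, Nat.sub_add_cancel (by omega), hxd])
  have hk : Act x (d - 1) := Or.inl ⟨E.J W, by rw [← map_inv, ← map_mul, ← map_mul, W_conj_D, map_inv, hinv]⟩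
  have hk2 : x ^ ((d - 1) * (d - 1)) = x := by rw [pow_mul, hinv, inv_pow, hinv, inv_inv]
  have hk1 : x ^ (d - 1) ≠ x := fun e => by
    rw [hinv, inv_eq_iff_mul_eq_one, ← pow_two] at e
    have := Nat.le_of_dvd (by norm_num) (hord ▸ orderOf_dvd_of_pow_eq_one e); omega
  refine ⟨?_, fun hor => ?_⟩
  · have hq : 1 ≤ Nat.card F := Nat.card_pos
    rcases second hx hx3 hk (l := Nat.card F) (Or.inr rfl) hk2 hk1 with e | e
    · left
      rw [← hord]
      apply orderOf_dvd_of_pow_eq_one
      exact mul_right_cancel (b := x) (by rw [← pow_succ, Nat.sub_add_cancel hq, e, one_mul])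
    · right
      rw [← hord]
      apply orderOf_dvd_of_pow_eq_one
      rw [pow_succ, e, hinv, inv_mul_cancel]
  · refine E.linear_of_trivial fun ν τ hmem => ?_
    rcases hor with hbig | hh
    · obtain ⟨l, hl⟩ := hgen (Units.map (τ : K →* K) ζ)
      have hact : Act x l := E.act_aut hmem (by rw [MulAut.mul_apply, field_D, dg_D, D_pow, hl])
      have hcases : D (Units.map (τ : K →* K) ζ) = D ζ ∨ D (Units.map (τ : K →* K) ζ) = D ζ⁻¹ := by
        rcases second hx hx3 hk hact hk2 hk1 with e | e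
        · left; apply E.J_injective; rw [← hl, ← D_pow, map_pow]; exact e
        · right; apply E.J_injective; rw [← hl, ← D_pow, map_pow, D_inv, map_inv]; exact e.trans hinv
      by_contra hne
      have key : ∀ w : Kˣ, D (Units.map (τ : K →* K) ζ) = D w →
          ∀ y : K, y ≠ 0 → ∃ n : ℕ, y = (ζ : K) ^ n ∧ τ (y * y) = ((w : K) ^ n) * (w : K) ^ n := by
        intro w hw y hy
        obtain ⟨n, hn⟩ := hgen (Units.mk0 y hy)
        have hy' : y = (ζ : K) ^ n := by rw [← Units.val_pow_eq_pow_val, hn, Units.val_mk0]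
        refine ⟨n, hy', ?_⟩
        have h1 : D (Units.map (τ : K →* K) ζ * w⁻¹) = 1 := by rw [D_mul, hw, ← D_mul, mul_inv_cancel, D_one]
        have hsq : τ (ζ : K) * τ (ζ : K) = (w : K) * w := by
          have hv : τ (ζ : K) * (w : K)⁻¹ = 1 ∨ τ (ζ : K) * (w : K)⁻¹ = -1 := by
            simpa using D_eq_one_iff.1 h1
          rcases hv with hv | hv <;> rw [mul_inv_eq_iff_eq_mul₀ w.ne_zero] at hv <;> rw [hv] <;> ring
        rw [hy', map_mul, map_pow, ← mul_pow, hsq, mul_pow]
      rcases hcases with e | e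
      · refine hne (fix_all_of_squares E.odd τ fun y => ?_)
        rcases eq_or_ne y 0 with rfl | hy
        · simp
        · obtain ⟨n, hn, h⟩ := key ζ e y hy
          rw [h, hn]
      · refine absurd (card_le_nine E.odd τ hne fun y hy => ?_) (by omega)
        obtain ⟨n, hn, h⟩ := key ζ⁻¹ e y hy
        rw [h, hn, Units.val_inv_eq_inv_val, inv_pow, mul_inv]
    · exact hh ν τ hmem

end Cfsg.Lib.MitchellThree.Two
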