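import Cfsg.Agent.MitchellThree.Five

/-!
`PSL₂(K)` and its extensions inside the three-dimensional projective linear group over a finite field of odd
characteristic: either the field is a subfield and the group is linear, or the field has five, seven or nine elements.
-/

set_option autoImplicit false
set_option linter.unusedSectionVars false

namespace Cfsg.Lib.MitchellThree.Two

open Matrix Cfsg.Lib.Known.AutPSLn
open scoped MatrixGroups

universe u

variable {K : Type} [Field K] [Fintype K] {F : Type u} [Field F] [Finite F]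

local notation "P2" => Matrix.ProjectiveSpecialLinearGroup (Fin 2) K

theorem natCast_ne_zero_of_lt (p : ℕ) [CharP F p] {n : ℕ} (h : ¬ p ∣ n) : (n : F) ≠ 0 :=
  fun e => h ((CharP.cast_eq_zero_iff F p n).1 e)

theorem dvd_of_half {p a b d : ℕ} (hp : 3 ≤ p) (hb : 2 ≤ b) (hd : 2 * d + 1 = p ^ b) (h9 : 9 < p ^ b)
    (h : d ∣ p ^ a - 1 ∨ d ∣ p ^ a + 1) : b ∣ a := by
  set r := a % b with hr
  have hpow : p ^ a = p ^ r * (p ^ b) ^ (a / b) := by rw [← pow_mul, ← pow_add, hr, Nat.mod_add_div]
  have hdiv : d ∣ (p ^ b) ^ (a / b) - 1 := by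
    have := Nat.sub_dvd_pow_sub_pow (p ^ b) 1 (a / b)
    rw [one_pow] at this
    exact (Dvd.intro_left 2 (by omega)).trans this
  have h1 : 1 ≤ (p ^ b) ^ (a / b) := Nat.one_le_pow _ _ (pow_pos (by omega) _)
  have hrb : r ≤ b - 1 := by have := Nat.mod_lt a (show 0 < b by omega); omega
  have hle : p ^ r ≤ p ^ (b - 1) := Nat.pow_le_pow_right (by omega) hrb
  have hpb : p ^ b = p * p ^ (b - 1) := by rw [← pow_succ', Nat.sub_add_cancel (by omega)]
  have h3 : 3 * p ^ (b - 1) ≤ p ^ b := by rw [hpb]; exact Nat.mul_le_mul_right _ hp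
  have h4 : 3 ≤ p ^ (b - 1) := hp.trans (Nat.le_self_pow (by omega) p)
  have hr1 : 1 ≤ p ^ r := Nat.one_le_pow _ _ (by omega)
  have h5 : 9 < p * p ^ (b - 1) := hpb ▸ h9
  have h6 : p ^ r + 1 < d := by
    by_cases hp3 : p = 3
    · subst hp3
      have : 4 ≤ 3 ^ (b - 1) := by omega
      omega
    · have : 5 * p ^ (b - 1) ≤ p ^ b := by
        rw [hpb]
        refine Nat.mul_le_mul_right _ ?_
        have hne4 : p ≠ 4 := fun e => by
          have hodd : Odd (p ^ b) := ⟨d, by omega⟩
          rw [e] at hodd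
          exact Nat.not_even_iff_odd.2 hodd (Nat.even_pow.2 ⟨by decide, by omega⟩)
        omega
      omega
  refine Nat.dvd_of_mod_eq_zero ?_
  show r = 0
  rcases h with h | h
  · have : d ∣ p ^ r - 1 := by
      have e : p ^ a - 1 = p ^ r * ((p ^ b) ^ (a / b) - 1) + (p ^ r - 1) := by
        rw [hpow, Nat.mul_sub, mul_one]
        have := Nat.le_mul_of_pos_right (p ^ r) h1
        omega
      rw [e] at h
      exact (Nat.dvd_add_right (hdiv.mul_left _)).1 h
    by_contra hr0
    have h2 : 3 ≤ p ^ r := hp.trans (Nat.le_self_pow hr0 p)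
    have := Nat.le_of_dvd (by omega) this
    omega
  · have : d ∣ p ^ r + 1 := by
      have e : p ^ a + 1 = p ^ r * ((p ^ b) ^ (a / b) - 1) + (p ^ r + 1) := by
        rw [hpow, Nat.mul_sub, mul_one]
        have := Nat.le_mul_of_pos_right (p ^ r) h1
        omega
      rw [e] at h
      exact (Nat.dvd_add_right (hdiv.mul_left _)).1 h
    have := Nat.le_of_dvd (by omega) this
    omega

variable (E : Emb K F)

/-- The case of the defining characteristic. -/
theorem Emb.same_char {p a b : ℕ} [hp : Fact p.Prime] [CharP F p] (hp2 : p ≠ 2) (hF : Nat.card F = p ^ a)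
    (hK : Fintype.card K = p ^ b) : b ∣ a ∧ E.Linear := by
  have hp3 : 3 ≤ p := by have := hp.out.two_le; omega
  rcases Nat.lt_or_ge b 2 with hb | hb
  · have hb1 : b = 1 := by
      rcases Nat.eq_zero_or_pos b with rfl | h
      · have := E.three_lt; rw [hK, pow_zero] at this; omega
      · omega
    subst hb1
    exact ⟨one_dvd a, E.linear_of_trivial fun ν τ _ => ringEquiv_eq_one_of_prime (by rw [hK, pow_one]; exact hp.out) τ⟩
  have h9 : 9 ≤ Fintype.card K := by
    rw [hK]; exact le_trans (by norm_num) (le_trans (Nat.pow_le_pow_left hp3 2) (Nat.pow_le_pow_right (by omega) hb))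
  obtain ⟨m, hm⟩ := E.odd
  have hd : 2 * ((Fintype.card K - 1) / 2) + 1 = p ^ b := by omega
  have hcop : ¬ p ∣ (Fintype.card K - 1) / 2 := fun h => by
    have h1 : p ∣ 1 := (Nat.dvd_add_right (h.mul_left 2)).1 (hd ▸ dvd_pow_self p (by omega))
    exact hp.out.one_lt.ne' (Nat.dvd_one.1 h1)
  obtain ⟨hdiv, hlin⟩ := E.torus (natCast_ne_zero_of_lt p hcop) h9
  rcases Nat.lt_or_ge 9 (Fintype.card K) with hbig | h9'
  · refine ⟨dvd_of_half hp3 hb hd (hK ▸ hbig) ?_, hlin (Or.inl hbig)⟩
    rwa [hF] at hdiv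
  · have h9e : Fintype.card K = 9 := by omega
    obtain ⟨rfl, rfl⟩ : p = 3 ∧ b = 2 := by
      have h1 : p ∣ 3 ^ 2 := by rw [show 3 ^ 2 = 9 by norm_num, ← h9e, hK]; exact dvd_pow_self p (by omega)
      have hp' : p = 3 := (Nat.prime_dvd_prime_iff_eq hp.out Nat.prime_three).1 (hp.out.dvd_of_dvd_pow h1)
      subst hp'
      exact ⟨rfl, Nat.pow_right_injective (Nat.le_succ 2) (show 3 ^ b = 3 ^ 2 by rw [← hK, h9e])⟩
    have h5 : (5 : F) ≠ 0 := by exact_mod_cast natCast_ne_zero_of_lt (F := F) 3 (show ¬ 3 ∣ 5 by norm_num)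
    refine ⟨?_, hlin (Or.inr (E.five_tau h9e h5))⟩
    have h := E.five_mod h9e h5
    rw [hF] at h
    rcases Nat.even_or_odd a with h2 | ⟨k, rfl⟩
    · exact even_iff_two_dvd.1 h2
    · exfalso
      rw [pow_succ, pow_mul, Nat.mul_mod, Nat.pow_mod, show 3 ^ 2 % 5 = 4 by norm_num] at h
      have hk : ∀ j : ℕ, 4 ^ j % 5 = 1 ∨ 4 ^ j % 5 = 4 := fun j => by
        induction j with
        | zero => left; rfl
        | succ j ih => rw [pow_succ, Nat.mul_mod]; rcases ih with e | e <;> rw [e] <;> norm_num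
      rcases hk k with e' | e' <;> rw [e'] at h <;> norm_num at h

/-- The image of the root group. -/
def Emb.rootHom : Multiplicative K →* PG F :=
  MonoidHom.mk' (fun a => E.J (U a.toAdd)) fun a b => by rw [toAdd_mul, U_add, map_mul]

theorem Emb.orderOf_U {r : ℕ} [hr : Fact r.Prime] [CharP K r] {a : K} (ha : a ≠ 0) : orderOf (E.J (U a)) = r := by
  rw [orderOf_injective _ E.J_injective]
  refine orderOf_eq_prime ?_ fun e => ha (U_inj (e.trans U_zero.symm))
  rw [U_pow, nsmul_eq_mul, CharP.cast_eq_zero, zero_mul, U_zero]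

theorem Emb.act_diag {ν : Kˣ} (h : conjP (dg ν) ∈ E.A) {k : ℕ} (hk : (k : K) = ν) : Act (E.J (U 1)) k :=
  E.act_aut h (by rw [dg_U, U_pow, nsmul_eq_mul, hk])

theorem Emb.act_square {s : K} (hs : s ≠ 0) {k : ℕ} (hk : (k : K) = s * s) : Act (E.J (U 1)) k :=
  E.act_inner (y := D (Units.mk0 s hs)) (by rw [D_conj_U, U_pow, nsmul_eq_mul, hk]; simp)

theorem Emb.no_act {r : ℕ} [hr : Fact r.Prime] [CharP K r] (hrF : (r : F) ≠ 0) {k : ℕ} (h : Act (E.J (U 1)) k)
    (h2 : k * k % r ≠ 1) (h3 : k * k * k % r ≠ 1) : False := by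
  have hord := E.orderOf_U (r := r) (one_ne_zero (α := K))
  have h1 : 1 % r = 1 := Nat.mod_eq_of_lt hr.out.one_lt
  rcases sq_or_cube (by rw [hord]; exact hrF) h with e | e
  · exact h2 ((mod_eq_of_pow_eq hord (e.trans (pow_one _).symm)).trans h1)
  · exact h3 ((mod_eq_of_pow_eq hord (e.trans (pow_one _).symm)).trans h1)

theorem Emb.card_le (E : Emb K F) {r : ℕ} [hr : Fact r.Prime] [CharP K r] (hrF : (r : F) ≠ 0) :
    Fintype.card K ≤ r * r := by
  have h := card_le_sq hr.out hrF E.rootHom.range (fun a ⟨x, hx⟩ b ⟨y, hy⟩ => by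
      rw [← hx, ← hy, ← map_mul, ← map_mul, mul_comm]) (fun a ⟨x, hx⟩ => by
      rw [← hx, ← map_pow]
      show E.J (U (r • x.toAdd)) = 1
      rw [nsmul_eq_mul, CharP.cast_eq_zero, zero_mul, U_zero, map_one])
  rw [Nat.card_congr (MonoidHom.ofInjective (f := E.rootHom)
    (fun a b e => Multiplicative.toAdd.injective (U_inj (E.J_injective e)))).toEquiv.symm] at h
  simpa [Nat.card_eq_fintype_card] using h

theorem prime_le_seven {r : ℕ} [hr : Fact r.Prime] (h : ∀ s : (ZMod r)ˣ, s ^ 4 = 1 ∨ s ^ 6 = 1) : r ≤ 7 := by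
  obtain ⟨g, hg⟩ := IsCyclic.exists_ofOrder_eq_natCard (α := (ZMod r)ˣ)
  rw [Nat.card_eq_fintype_card, ZMod.card_units] at hg
  rcases h g with e | e
  · have := Nat.le_of_dvd (by norm_num) (hg ▸ orderOf_dvd_of_pow_eq_one e); omega
  · have := Nat.le_of_dvd (by norm_num) (hg ▸ orderOf_dvd_of_pow_eq_one e); omega

theorem Emb.char_cases (E : Emb K F) {r : ℕ} [hr : Fact r.Prime] [CharP K r] (hrF : (r : F) ≠ 0) :
    Fintype.card K = 5 ∨ Fintype.card K = 7 ∨ Fintype.card K = 9 := by
  have hord := E.orderOf_U (r := r) (one_ne_zero (α := K))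
  have hr7 : r ≤ 7 := by
    refine prime_le_seven fun s => ?_
    set k := (s : ZMod r).val
    have hk : (k : ZMod r) = s := ZMod.natCast_zmod_val _
    have hk0 : (k : K) ≠ 0 := fun e => by
      have : (k : ZMod r) = 0 := (ZMod.natCast_eq_zero_iff k r).2 ((CharP.cast_eq_zero_iff K r k).1 e)
      exact s.ne_zero (hk.symm.trans this)
    rcases sq_or_cube (by rw [hord]; exact hrF) (E.act_square hk0 (k := k * k) (by push_cast; rfl)) with e | e
    · left
      have := (ZMod.natCast_eq_natCast_iff' _ 1 r).2 (mod_eq_of_pow_eq hord (e.trans (pow_one _).symm))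
      push_cast [hk] at this
      refine Units.ext ?_
      rw [Units.val_pow_eq_pow_val, Units.val_one, ← this]; ring
    · right
      have := (ZMod.natCast_eq_natCast_iff' _ 1 r).2 (mod_eq_of_pow_eq hord (e.trans (pow_one _).symm))
      push_cast [hk] at this
      refine Units.ext ?_
      rw [Units.val_pow_eq_pow_val, Units.val_one, ← this]; ring
  obtain ⟨⟨b, hb0⟩, -, hb⟩ := FiniteField.card K r
  simp only [PNat.mk_coe] at hb
  have hr2 : r ≠ 2 := fun e => by
    have := E.odd; rw [hb, e] at this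
    exact Nat.not_even_iff_odd.2 this (Nat.even_pow.2 ⟨even_two, by omega⟩)
  have hb2 : b ≤ 2 := by
    have h := E.card_le (r := r) hrF
    rw [hb, ← pow_two] at h
    exact (Nat.pow_le_pow_iff_right hr.out.one_lt).1 h
  have hthree := E.three_lt
  have hr357 : r = 3 ∨ r = 5 ∨ r = 7 := by
    have := hr.out.two_le
    have h4 : r ≠ 4 := fun e => by have := hr.out; rw [e] at this; norm_num at this
    have h6 : r ≠ 6 := fun e => by have := hr.out; rw [e] at this; norm_num at this
    omega
  obtain rfl | rfl : b = 1 ∨ b = 2 := by omega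
  · rw [pow_one] at hb; omega
  · rcases hr357 with rfl | rfl | rfl
    · right; right; rw [hb]; norm_num
    · exfalso
      have h24 : (2 : K) ≠ 0 := two_ne_zero_of_odd E.odd
      obtain ⟨s, hs⟩ := (FiniteField.isSquare_iff (fun e => by
          haveI := ringChar.eq K 5; omega) h24).2 (by
        rw [hb, show (5 : ℕ) ^ 2 / 2 = 4 * 3 by norm_num, pow_mul]
        have h5 : (5 : K) = 0 := by exact_mod_cast (CharP.cast_eq_zero K 5)
        rw [show (2 : K) ^ 4 = 1 by linear_combination 3 * h5, one_pow])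
      exact E.no_act (r := 5) hrF (k := 2)
        (E.act_square (s := s) (fun e => h24 (by rw [hs, e, mul_zero])) (by rw [← hs]; norm_num)) (by norm_num) (by norm_num)
    · exfalso
      have h37 : (3 : K) ≠ 0 := by
        have := (CharP.cast_eq_zero_iff K 7 3).not.2 (by norm_num); exact_mod_cast this
      obtain ⟨s, hs⟩ := (FiniteField.isSquare_iff (fun e => by
          haveI := ringChar.eq K 7; omega) h37).2 (by
        rw [hb, show (7 : ℕ) ^ 2 / 2 = 6 * 4 by norm_num, pow_mul]
        have h7 : (7 : K) = 0 := by exact_mod_cast CharP.cast_eq_zero K 7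
        rw [show (3 : K) ^ 6 = 1 by linear_combination 104 * h7, one_pow])
      exact E.no_act (r := 7) hrF (k := 3)
        (E.act_square (s := s) (fun e => h37 (by rw [hs, e, mul_zero])) (by rw [← hs]; norm_num)) (by norm_num) (by norm_num)

/-- Seven: the congruence and innerness. -/
theorem Emb.seven (E : Emb K F) (hK : Fintype.card K = 7) (h7 : (7 : F) ≠ 0) : Nat.card F ^ 3 % 7 = 1 ∧ E.Inner := by
  haveI : Fact (Nat.Prime 7) := ⟨by norm_num⟩
  haveI : CharP K 7 := charP_of_card_eq_prime hK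
  have hord := E.orderOf_U (r := 7) (one_ne_zero (α := K))
  have h70 : (7 : K) = 0 := by exact_mod_cast CharP.cast_eq_zero K 7
  have h3 : (3 : K) ≠ 0 := by
    have := (CharP.cast_eq_zero_iff K 7 3).not.2 (by norm_num); exact_mod_cast this
  refine ⟨?_, (E.inner_or_all (E.linear_of_trivial fun ν τ _ => ringEquiv_eq_one_of_prime (by rw [hK]; norm_num) τ)).resolve_right
    fun h => E.no_act (r := 7) (by exact_mod_cast h7) (k := 3)
      (E.act_diag (ν := Units.mk0 3 h3) (h _) (by simp)) (by norm_num) (by norm_num)⟩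
  have hact : Act (E.J (U 1)) 9 := E.act_square h3 (by norm_num)
  have h := cube (l := Nat.card F) (by rw [hord]; exact_mod_cast h7) (by rw [Ne, pow_eq_one_iff_dvd' hord]; norm_num)
    hact (Or.inr rfl) ((pow_eq_pow_iff_modEq.2 (by rw [hord]; decide)).trans (pow_one _))
    (fun e => by have := mod_eq_of_pow_eq hord (e.trans (pow_one _).symm); norm_num at this)
  rw [pow_succ, pow_two]
  exact (mod_eq_of_pow_eq hord (h.trans (pow_one _).symm)).trans (by norm_num)

/-- Five: the congruence and innerness. -/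
theorem Emb.five (E : Emb K F) (hK : Fintype.card K = 5) (h5 : (5 : F) ≠ 0) :
    (Nat.card F % 5 = 1 ∨ Nat.card F % 5 = 4) ∧ E.Inner := by
  haveI : Fact (Nat.Prime 5) := ⟨by norm_num⟩
  haveI : CharP K 5 := charP_of_card_eq_prime hK
  have hord := E.orderOf_U (r := 5) (one_ne_zero (α := K))
  have h2 : (2 : K) ≠ 0 := two_ne_zero_of_odd E.odd
  refine ⟨?_, (E.inner_or_all (E.linear_of_trivial fun ν τ _ => ringEquiv_eq_one_of_prime (by rw [hK]; norm_num) τ)).resolve_right
    fun h => E.no_act (r := 5) (by exact_mod_cast h5) (k := 2)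
      (E.act_diag (ν := Units.mk0 2 h2) (h _) (by simp)) (by norm_num) (by norm_num)⟩
  rcases second (l := Nat.card F) (by rw [hord]; exact_mod_cast h5) (by rw [Ne, pow_eq_one_iff_dvd' hord]; norm_num)
      (E.act_square h2 (k := 4) (by norm_num)) (Or.inr rfl)
      ((pow_eq_pow_iff_modEq.2 (by rw [hord]; decide)).trans (pow_one _))
      (fun e => by have := mod_eq_of_pow_eq hord (e.trans (pow_one _).symm); norm_num at this) with e | e
  · left; exact mod_eq_of_pow_eq hord (e.trans (pow_one _).symm)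
  · right; exact mod_eq_of_pow_eq hord e

end Cfsg.Lib.MitchellThree.Two
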