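import Cfsg.Agent.MitchellThree.Mono
import Mathlib.LinearAlgebra.Matrix.SpecialLinearGroup
import Mathlib.Data.ZMod.Basic

/-!
`SL₃(3)` has no faithful projective representation of degree three in characteristic prime to six.
-/

set_option autoImplicit false
set_option linter.unusedSectionVars false

namespace Cfsg.Lib.MitchellThree

open Matrix Cfsg.Geo
open scoped MatrixGroups

universe u

variable {F : Type u} [Field F] [Finite F]

namespace ThreeThree

/-- A translation. -/
def tr (a b : ZMod 3) : SL(3, ZMod 3) := ⟨!![1, 0, 0; a, 1, 0; b, 0, 1], by simp [Matrix.det_fin_three]⟩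

/-- A diagonal element fixing one translation and inverting the other. -/
def sg : SL(3, ZMod 3) := ⟨!![-1, 0, 0; 0, -1, 0; 0, 0, 1], by simp [Matrix.det_fin_three]⟩

/-- An element of order four on the translations. -/
def rot : SL(3, ZMod 3) := ⟨!![1, 0, 0; 0, 0, -1; 0, 1, 0], by simp [Matrix.det_fin_three]⟩

theorem tr_add (a b c d : ZMod 3) : tr a b * tr c d = tr (a + c) (b + d) := by
  refine Subtype.ext ?_
  show !![1, 0, 0; a, 1, 0; b, 0, 1] * !![1, 0, 0; c, 1, 0; d, 0, 1] = !![1, 0, 0; a + c, 1, 0; b + d, 0, 1]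
  ext i j; fin_cases i <;> fin_cases j <;> simp [Matrix.mul_apply, Fin.sum_univ_three]

theorem tr_zero : tr 0 0 = 1 := Subtype.ext (by
  show !![(1 : ZMod 3), 0, 0; 0, 1, 0; 0, 0, 1] = 1
  ext i j; fin_cases i <;> fin_cases j <;> simp)

theorem sg_conj (a b : ZMod 3) : sg * tr a b = tr a (-b) * sg := by
  refine Subtype.ext ?_
  show !![-1, 0, 0; 0, -1, 0; 0, 0, 1] * !![1, 0, 0; a, 1, 0; b, 0, 1] =
    !![1, 0, 0; a, 1, 0; -b, 0, 1] * !![-1, 0, 0; 0, -1, 0; 0, 0, (1 : ZMod 3)]
  ext i j; fin_cases i <;> fin_cases j <;> simp [Matrix.mul_apply, Fin.sum_univ_three]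

theorem rot_conj (a b : ZMod 3) : rot * tr a b = tr (-b) a * rot := by
  refine Subtype.ext ?_
  show !![1, 0, 0; 0, 0, -1; 0, 1, 0] * !![1, 0, 0; a, 1, 0; b, 0, 1] =
    !![1, 0, 0; -b, 1, 0; a, 0, 1] * !![1, 0, 0; 0, 0, -1; 0, 1, (0 : ZMod 3)]
  ext i j; fin_cases i <;> fin_cases j <;> simp [Matrix.mul_apply, Fin.sum_univ_three]

theorem tr_injective {a b c d : ZMod 3} (e : tr a b = tr c d) : a = c ∧ b = d :=
  ⟨congrFun (congrFun (congrArg Subtype.val e) 1) 0, congrFun (congrFun (congrArg Subtype.val e) 2) 0⟩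

end ThreeThree

/-- A commutator inverted by a change of lifts. -/
theorem commute_of_inverting {G : Type*} [Group G] {g h m s s' z : G} (hs : ∀ x, s * x = x * s)
    (hs' : ∀ x, s' * x = x * s') (hzc : ∀ x, z * x = x * z) (hz : g * h = z * (h * g)) (h3 : z ^ 3 = 1)
    (hg : m * g * m⁻¹ = s * g) (hh : m * h * m⁻¹ = s' * h⁻¹) : g * h = h * g := by
  have e1 : g * h⁻¹ = z * (h⁻¹ * g) := by
    have e := congrArg (fun x => m * x * m⁻¹) hz
    rw [show m * (g * h) * m⁻¹ = (m * g * m⁻¹) * (m * h * m⁻¹) by group,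
      show m * (z * (h * g)) * m⁻¹ = (m * z * m⁻¹) * ((m * h * m⁻¹) * (m * g * m⁻¹)) by group,
      hg, hh, ← hzc m, mul_inv_cancel_right] at e
    refine mul_left_cancel (a := s * s') ?_
    calc s * s' * (g * h⁻¹) = s * g * (s' * h⁻¹) := by rw [mul_assoc s, ← mul_assoc s', hs' g]; group
      _ = z * (s' * h⁻¹ * (s * g)) := e
      _ = s * s' * (z * (h⁻¹ * g)) := by
          rw [show s' * h⁻¹ * (s * g) = s' * s * (h⁻¹ * g) by rw [mul_assoc s', ← mul_assoc h⁻¹, ← hs h⁻¹]; group,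
            ← hs s', ← mul_assoc z, hzc (s * s'), mul_assoc]
  have e2 : g * h⁻¹ = z⁻¹ * (h⁻¹ * g) := by
    have e : h⁻¹ * g = z * (g * h⁻¹) := by
      calc h⁻¹ * g = h⁻¹ * (g * h) * h⁻¹ := by group
        _ = h⁻¹ * z * h * (g * h⁻¹) := by rw [hz]; group
        _ = z * (g * h⁻¹) := by rw [← hzc h⁻¹, inv_mul_cancel_right]
    rw [e, inv_mul_cancel_left]
  have hzz : z = z⁻¹ := mul_right_cancel (e1.symm.trans e2)
  have hz1 : z = 1 := by
    have h2 : z ^ 2 = 1 := by rw [pow_two]; nth_rewrite 2 [hzz]; exact mul_inv_cancel z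
    rwa [pow_succ, h2, one_mul] at h3
  rw [hz, hz1, one_mul]

theorem no_sl_three_three (h3 : (3 : F) ≠ 0) (θ : SL(3, ZMod 3) →* PG F) (hθ : Function.Injective θ) : False := by
  let T : Multiplicative (ZMod 3 × ZMod 3) →* PG F :=
    { toFun := fun v => θ (ThreeThree.tr v.toAdd.1 v.toAdd.2)
      map_one' := by simp [ThreeThree.tr_zero]
      map_mul' := fun v w => by simp [← map_mul, ThreeThree.tr_add] }
  have hTd : ∀ v, T v = θ (ThreeThree.tr v.toAdd.1 v.toAdd.2) := fun _ => rfl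
  let el : ZMod 3 → ZMod 3 → T.range := fun a b => ⟨θ (ThreeThree.tr a b), ⟨Multiplicative.ofAdd (a, b), rfl⟩⟩
  obtain ⟨g, hg⟩ := QuotientGroup.mk_surjective (θ (ThreeThree.tr 1 0))
  obtain ⟨h, hh⟩ := QuotientGroup.mk_surjective (θ (ThreeThree.tr 0 1))
  obtain ⟨m, hm⟩ := QuotientGroup.mk_surjective (θ ThreeThree.sg)
  have cen : ∀ s : GL (Fin 3) F, s ∈ scalars (Fin 3) F → ∀ x, s * x = x * s := fun s hs x => by
    obtain ⟨c, -, hc⟩ := scalar_of_mem hs
    exact Units.ext (by rw [Units.val_mul, Units.val_mul, hc, Matrix.smul_mul, Matrix.one_mul, Matrix.mul_smul, Matrix.mul_one])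
  have hgh : g * h = h * g := by
    have hcom : (QuotientGroup.mk g : PG F) * QuotientGroup.mk h = QuotientGroup.mk h * QuotientGroup.mk g := by
      rw [hg, hh, ← map_mul, ← map_mul, ThreeThree.tr_add, ThreeThree.tr_add, add_comm (1 : ZMod 3), add_comm (0 : ZMod 3)]
    obtain ⟨c, hc3, hc⟩ := comm_scalar hcom
    have hc0 : c ≠ 0 := fun e => by rw [e, zero_pow three_ne_zero] at hc3; exact zero_ne_one hc3
    set z : GL (Fin 3) F := Units.map (Matrix.scalar (Fin 3) : F →+* Matrix (Fin 3) (Fin 3) F).toMonoidHom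
      (Units.mk0 c hc0) with hz
    have hzv : (z : Matrix (Fin 3) (Fin 3) F) = c • 1 := by
      rw [hz]; simp [Matrix.smul_one_eq_diagonal]
    have hmem : ∀ (a b : ZMod 3) (x : GL (Fin 3) F), (QuotientGroup.mk x : PG F) = θ (ThreeThree.tr a b) →
        (QuotientGroup.mk (m * x * m⁻¹) : PG F) = θ (ThreeThree.tr a (-b)) := fun a b x hx => by
      rw [QuotientGroup.mk_mul, QuotientGroup.mk_mul, QuotientGroup.mk_inv, hm, hx, ← map_mul, ← map_inv, ← map_mul,
        ThreeThree.sg_conj, mul_inv_cancel_right]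
    have s1 : m * g * m⁻¹ * g⁻¹ ∈ scalars (Fin 3) F := by
      rw [← QuotientGroup.eq_one_iff, QuotientGroup.mk_mul, QuotientGroup.mk_inv, hmem 1 0 g hg, hg, neg_zero,
        mul_inv_cancel]
    have s2 : m * h * m⁻¹ * h ∈ scalars (Fin 3) F := by
      rw [← QuotientGroup.eq_one_iff, QuotientGroup.mk_mul, hmem 0 1 h hh, hh, ← map_mul, ThreeThree.tr_add, add_zero,
        neg_add_cancel, ThreeThree.tr_zero, map_one]
    refine commute_of_inverting (z := z) (cen _ s1) (cen _ s2) (cen z (MonoidHom.mem_range.2 ⟨_, rfl⟩)) (Units.ext ?_)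
      (Units.ext ?_) (inv_mul_cancel_right _ g).symm (mul_inv_cancel_right _ h).symm
    · rw [Units.val_mul, Units.val_mul z, hzv, Units.val_mul, hc, Matrix.smul_mul, Matrix.one_mul]
    · rw [Units.val_pow_eq_pow_val, hzv, smul_pow, one_pow, hc3, one_smul, Units.val_one]
  have hlift : ∀ x, (QuotientGroup.mk x : PG F) ∈ T.range → ∃ s ∈ scalars (Fin 3) F, ∃ i j : ℕ, x = g ^ i * h ^ j * s := by
    rintro x ⟨v, hv⟩
    refine ⟨(g ^ (v.toAdd.1).val * h ^ (v.toAdd.2).val)⁻¹ * x, ?_, _, _, (mul_inv_cancel_left _ x).symm⟩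
    rw [← QuotientGroup.eq_one_iff, QuotientGroup.mk_mul, QuotientGroup.mk_inv, inv_mul_eq_one, ← hv,
      QuotientGroup.mk_mul, QuotientGroup.mk_pow, QuotientGroup.mk_pow, hg, hh, ← map_pow, ← map_pow, ← map_mul, hTd]
    congr 1
    have hp : ∀ (a b : ZMod 3) (n : ℕ), ThreeThree.tr a b ^ n = ThreeThree.tr (n * a) (n * b) := fun a b n => by
      induction n with
      | zero => simp [ThreeThree.tr_zero]
      | succ k ih => rw [pow_succ, ih, ThreeThree.tr_add]; push_cast; ring_nf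
    rw [hp, hp, ThreeThree.tr_add]
    simp [ZMod.natCast_zmod_val]
  obtain ⟨C⟩ := exists_coord (r := 3) (by exact_mod_cast h3) T.range
    (by rintro _ ⟨v, rfl⟩
        rw [← map_pow, show v ^ 3 = 1 by revert v; decide, map_one])
    (fun x y hx hy => by
      obtain ⟨s, hs, i, j, rfl⟩ := hlift x hx
      obtain ⟨s', hs', k, l, rfl⟩ := hlift y hy
      rw [← Units.val_mul, ← Units.val_mul]
      refine congrArg Units.val ?_
      have hC : Commute (g ^ i * h ^ j) (g ^ k * h ^ l) :=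
        ((Commute.pow_pow_self g i k).mul_right ((show Commute g h from hgh).pow_pow i l)).mul_left
          (((show Commute h g from hgh.symm).pow_pow j k).mul_right (Commute.pow_pow_self h j l))
      exact ((hC.mul_right (show Commute (g ^ i * h ^ j) s' from (cen s' hs' _).symm)).mul_left (show Commute s (g ^ k * h ^ l * s') from cen s hs _)).eq)
  have hy : ∀ a b, θ ThreeThree.rot * θ (ThreeThree.tr a b) * (θ ThreeThree.rot)⁻¹ = θ (ThreeThree.tr (-b) a) :=
    fun a b => by rw [← map_mul, ← map_inv, ← map_mul, ThreeThree.rot_conj, mul_inv_cancel_right]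
  have h := C.no_inverting_square (r := 3) (by decide) (θ ThreeThree.rot) (el 1 0) (el 0 1) (el (-1) 0)
    (by show _ = θ _; rw [hy]; simp) (by show _ = θ _; rw [hy])
    (Subtype.ext (by
      show θ _ = (θ _)⁻¹
      rw [eq_inv_iff_mul_eq_one, ← map_mul, ThreeThree.tr_add, neg_add_cancel, add_zero, ThreeThree.tr_zero, map_one]))
    (Subtype.ext (by
      show θ _ ^ 3 = 1
      rw [← map_pow, show ThreeThree.tr 1 0 ^ 3 = 1 by decide, map_one]))
    (fun e => by
      have := congrArg Subtype.val e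
      exact absurd (ThreeThree.tr_injective (hθ (this.trans (map_one θ).symm |>.trans (congrArg θ ThreeThree.tr_zero.symm)))).1
        (by decide))
  exact absurd (ThreeThree.tr_injective (hθ (congrArg Subtype.val h))).1 (by decide)

end Cfsg.Lib.MitchellThree
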