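import Cfsg.Agent.MitchellThree.Homology
import Cfsg.Agent.MitchellThree.ThreeThree
import Cfsg.Agent.MitchellThree.Eleven
import Cfsg.Agent.S2916
import Cfsg.Agent.Golay.Subgroups
import Cfsg.Agent.Golay.QuartetStab

/-!
An elation-free simple group does not have quasi-dihedral Sylow 2-subgroups: the centralizer of an involution would be
`GL₂(3)` and the group `PSL₃(3)` or the Mathieu group of order 7920.
-/

set_option autoImplicit false
set_option linter.unusedSectionVars false

namespace Cfsg.Lib.MitchellThree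

open Subgroup Cfsg.Geo
open scoped MatrixGroups

universe u v

variable {F : Type u} [Field F] [Finite F] {L : Type v} [Group L] [Finite L] {W : Free F L}

/-- The lifts of a homology are combinations of the identity and a lift of its involution. -/
theorem Frame.scal_lift {t : L} (P : Frame W t) {x : centralizer ({t} : Set L)} (hx : P.Scal x) :
    ∃ g h : GL (Fin 3) F, (QuotientGroup.mk g : PG F) = W.j x ∧ (QuotientGroup.mk h : PG F) = W.j t ∧
      ∃ α β : F, (g : Matrix (Fin 3) (Fin 3) F) = α • 1 + β • (h : Matrix (Fin 3) (Fin 3) F) := by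
  obtain ⟨c, hc⟩ := hx
  obtain ⟨Y, hY⟩ := QuotientGroup.mk_surjective P.y
  refine ⟨Y⁻¹ * Units.map embHom (P.f x) * Y, Y⁻¹ * Units.map embHom (-1 : GL (Fin 2) F) * Y, ?_, ?_,
    (1 + c) / 2, (1 - c) / 2, ?_⟩
  · rw [QuotientGroup.mk_mul, QuotientGroup.mk_mul, QuotientGroup.mk_inv, hY, ← bmap_apply, P.spec]; group
  · rw [QuotientGroup.mk_mul, QuotientGroup.mk_mul, QuotientGroup.mk_inv, hY, ← bmap_apply,
      show bmap (-1 : GL (Fin 2) F) = negOne from rfl, ← P.neg]
    group
  · have h2 := W.two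
    have e : emb ((P.f x : GL (Fin 2) F) : Matrix (Fin 2) (Fin 2) F) =
        ((1 + c) / 2) • 1 + ((1 - c) / 2) • emb (-1 : Matrix (Fin 2) (Fin 2) F) := by
      rw [hc]
      ext i j
      fin_cases i <;> fin_cases j <;> simp [emb] <;> field_simp <;> ring
    rw [Units.val_mul, Units.val_mul, Units.val_mul, Units.val_mul]
    show _ * emb _ * _ = _ + _ • (_ * emb (-1 : Matrix (Fin 2) (Fin 2) F) * _)
    rw [e, mul_add, add_mul, Matrix.mul_smul, Matrix.smul_mul, Matrix.mul_one, Units.inv_mul, Matrix.mul_smul,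
      Matrix.smul_mul]

/-- With a quasi-dihedral Sylow subgroup the homologies of a centralizer are trivial. -/
theorem Free.scal_sq (hq : Cfsg.IsQuasiDihedral (W.S : Subgroup L)) {t : L} (ht : orderOf t = 2) (P : Frame W t) :
    ∀ x, P.Scal x → x ^ 2 = 1 := by
  haveI : Fact (Nat.Prime 2) := ⟨Nat.prime_two⟩
  set C := centralizer ({t} : Set L)
  set R := (P.R : Subgroup C)
  obtain ⟨hidx, hscal⟩ := P.center_R ht
  obtain ⟨m, a', b', hg⟩ := Cfsg.Lib.QD.exists_gen hq
  set z := P.eS.symm (a' ^ ((2 : ℤ) ^ (m - 1))) with hz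
  have hz2 : z ^ 2 = 1 := by
    rw [hz, ← map_pow, orderOf_dvd_iff_pow_eq_one.1 (Cfsg.Lib.QD.orderOf_z hg).dvd, map_one]
  have hcenR : ∀ r ∈ center R, r ^ 2 = 1 := fun r hr => by
    have hr' : P.eS r ∈ center (W.S : Subgroup L) := mem_center_iff.2 fun g => P.eS.symm.injective (by
      rw [map_mul, map_mul, P.eS.symm_apply_apply]; exact mem_center_iff.1 hr _)
    rcases Cfsg.Lib.QDFusion.center_eq hg hr' with h | h
    · rw [P.eS.injective (h.trans (map_one P.eS).symm), one_pow]
    · rw [show r = z by rw [hz, ← h, P.eS.symm_apply_apply], hz2]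
  obtain ⟨b, hb2, hbns⟩ : ∃ b : C, orderOf b = 2 ∧ ¬ P.Scal b := by
    have hb : orderOf b' = 2 := by
      have := (Cfsg.Lib.QD.orderOf_b hg 0).1 (dvd_zero 2)
      rwa [zpow_zero, one_mul] at this
    refine ⟨(P.eS.symm b' : C), by rw [Subgroup.orderOf_coe, MulEquiv.orderOf_eq, hb], fun hc => ?_⟩
    have hbc : b' ∈ center (W.S : Subgroup L) := mem_center_iff.2 fun g => P.eS.symm.injective (by
      rw [map_mul, map_mul]; exact Subtype.ext (P.commute_of_scal hc _).symm)
    refine hg.2.notMem ?_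
    rcases Cfsg.Lib.QDFusion.center_eq hg hbc with h | h
    · rw [h]; exact one_mem _
    · rw [h]; exact zpow_mem (mem_zpowers a') _
  intro x hx
  have hcen : ∀ k : ℕ, P.Scal (x ^ k) := fun k => by
    obtain ⟨c, hc⟩ := hx
    exact ⟨c ^ k, by rw [map_pow, Units.val_pow_eq_pow_val, hc, smul_pow, one_pow]⟩
  obtain ⟨e, o, hodd', heo⟩ := Nat.exists_eq_pow_mul_and_not_dvd (orderOf_pos x).ne' 2 (by norm_num)
  have hodd : Odd o := Nat.not_even_iff_odd.1 fun he => hodd' he.two_dvd
  have h2part : (x ^ o) ^ 2 = 1 := by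
    have hp : IsPGroup 2 (zpowers (x ^ o)) := IsPGroup.of_card (n := e) (by
      rw [Nat.card_zpowers, orderOf_pow_of_dvd hodd.pos.ne' ⟨2 ^ e, by rw [heo, mul_comm]⟩, heo,
        Nat.mul_div_cancel _ hodd.pos])
    haveI : (zpowers (x ^ o)).Normal := ⟨fun n hn g => by
      obtain ⟨k, rfl⟩ := hn
      have hk : g * x ^ o = x ^ o * g := (P.commute_of_scal (hcen o) g).symm
      have : g * (x ^ o) ^ k = (x ^ o) ^ k * g := (Commute.zpow_right hk k).eq
      refine ⟨k, ?_⟩
      show (x ^ o) ^ k = g * (x ^ o) ^ k * g⁻¹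
      rw [this, mul_inv_cancel_right]⟩
    have hR : x ^ o ∈ R := by
      obtain ⟨Q, hQ⟩ := hp.exists_le_sylow
      obtain ⟨g, hg'⟩ := MulAction.exists_smul_eq C Q P.R
      have h1 := hQ ((inferInstance : (zpowers (x ^ o)).Normal).conj_mem _ (mem_zpowers _) g⁻¹)
      show x ^ o ∈ (P.R : Subgroup C)
      rw [← hg', Sylow.coe_subgroup_smul]
      refine ⟨_, h1, ?_⟩
      simp [MulAut.conj_apply]
      group
    exact congrArg Subtype.val (hcenR ⟨x ^ o, hR⟩ (mem_center_iff.2 fun g => Subtype.ext (P.commute_of_scal (hcen o) g).symm))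
  suffices hy : x ^ 2 ^ e = 1 by
    have h1 : orderOf x ∣ 2 ^ e := orderOf_dvd_of_pow_eq_one hy
    rw [heo] at h1
    have ho1 : o = 1 := by
      have : o ∣ 2 ^ e := (Dvd.intro_left _ rfl).trans h1
      exact (Nat.Coprime.pow_right e (Nat.coprime_two_right.2 hodd)).eq_one_of_dvd this
    rw [ho1, pow_one] at h2part
    exact h2part
  set w := x ^ 2 ^ e
  have hwo : Odd (orderOf w) := by
    rw [orderOf_pow_of_dvd (by positivity) (heo ▸ Dvd.intro o rfl), heo, Nat.mul_div_cancel_left _ (by positivity)]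
    exact hodd
  have hb' : orderOf (b : L) = 2 := by rw [Subgroup.orderOf_coe, hb2]
  obtain ⟨Q⟩ := W.exists_frame hb'
  let w' : centralizer ({(b : L)} : Set L) :=
    ⟨w, mem_centralizer_singleton_iff.2 (congrArg Subtype.val (P.commute_of_scal (hcen _) b))⟩
  let t' : centralizer ({(b : L)} : Set L) :=
    ⟨t, mem_centralizer_singleton_iff.2 (mem_centralizer_singleton_iff.1 b.2).symm⟩
  have ht2 : t' ^ 2 = 1 := Subtype.ext (orderOf_dvd_iff_pow_eq_one.1 ht.dvd)
  have hns : ¬ Q.Scal t' := fun ⟨c, hc⟩ => by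
    have h1 : c ^ 2 = 1 := by
      have := congrArg (fun z => ((Q.f z : GL (Fin 2) F) : Matrix (Fin 2) (Fin 2) F) 0 0) ht2
      simpa [Units.val_pow_eq_pow_val, hc, smul_pow] using this
    rcases mul_self_eq_one_iff.1 ((pow_two c).symm.trans h1) with rfl | rfl
    · have : t' = 1 := Q.inj (Units.ext (by rw [hc, one_smul, map_one, Units.val_one]))
      have h0 : t = 1 := congrArg Subtype.val this
      rw [h0, orderOf_one] at ht
      omega
    · have : t' = ⟨b, mem_centralizer_singleton_iff.2 rfl⟩ := Q.inj (Units.ext (by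
        rw [hc, Q.f_t, Units.val_neg, Units.val_one, neg_one_smul]))
      refine hbns ?_
      have hbt : b = ⟨t, mem_centralizer_singleton_iff.2 rfl⟩ := Subtype.ext (congrArg Subtype.val this).symm
      rw [hbt]
      exact P.scal_t
  have hwQ : Q.Scal w' := Q.odd_commute hb' (by
      rw [← Subgroup.orderOf_coe]; show Odd (orderOf (w : L)); rwa [Subgroup.orderOf_coe]) hns ht2
    (Subtype.ext (mem_centralizer_singleton_iff.1 w.2))
  obtain ⟨g, h, hg', hh', α, β, hgh⟩ := Q.scal_lift hwQ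
  obtain ⟨Y, hY⟩ := QuotientGroup.mk_surjective P.y
  obtain ⟨c, hc⟩ : P.Scal w := hcen _
  have lift : ∀ (g : GL (Fin 3) F) (z : C), (QuotientGroup.mk g : PG F) = W.j z → ∃ l : F, l ≠ 0 ∧
      (Y : Matrix (Fin 3) (Fin 3) F) * (g : Matrix (Fin 3) (Fin 3) F) * ((Y⁻¹ : GL (Fin 3) F) : Matrix (Fin 3) (Fin 3) F) =
        l • emb ((P.f z : GL (Fin 2) F) : Matrix (Fin 2) (Fin 2) F) := fun g z hgz => by
    obtain ⟨l, hl0, hl⟩ := scalar_of_mem (g := (Units.map embHom (P.f z))⁻¹ * (Y * g * Y⁻¹)) (QuotientGroup.eq.1 (by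
      rw [← bmap_apply, P.spec, QuotientGroup.mk_mul, QuotientGroup.mk_mul, QuotientGroup.mk_inv, hY, hgz]))
    refine ⟨l, hl0, ?_⟩
    rw [← Units.val_mul, ← Units.val_mul, show Y * g * Y⁻¹ = Units.map embHom (P.f z) *
      ((Units.map embHom (P.f z))⁻¹ * (Y * g * Y⁻¹)) from (mul_inv_cancel_left _ _).symm, Units.val_mul, hl,
      Matrix.mul_smul, Matrix.mul_one]
    rfl
  obtain ⟨l, hl0, hl⟩ := lift g w hg'
  obtain ⟨l', hl0', hl'⟩ := lift h b hh'
  rw [hgh, mul_add, add_mul, Matrix.mul_smul, Matrix.smul_mul, Matrix.mul_one, Units.mul_inv, Matrix.mul_smul,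
    Matrix.smul_mul, hl', hc] at hl
  set B := ((P.f b : GL (Fin 2) F) : Matrix (Fin 2) (Fin 2) F)
  have e00 := congrFun (congrFun hl 0) 0
  have e11 := congrFun (congrFun hl 1) 1
  have e22 := congrFun (congrFun hl 2) 2
  have e12 := congrFun (congrFun hl 1) 2
  have e21 := congrFun (congrFun hl 2) 1
  simp [emb] at e00 e11 e22 e12 e21
  have hβ : β = 0 := by
    by_contra hne
    refine hbns ⟨B 0 0, ?_⟩
    have hB12 : B 0 1 = 0 := (e12.resolve_left hne).resolve_left hl0'
    have hB21 : B 1 0 = 0 := (e21.resolve_left hne).resolve_left hl0'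
    have hBd : B 1 1 = B 0 0 := mul_left_cancel₀ (mul_ne_zero hne hl0') (by linear_combination e22 - e11)
    show B = _
    ext i j; fin_cases i <;> fin_cases j <;> simp [hB12, hB21, hBd]
  have hc1 : c = 1 := mul_left_cancel₀ hl0 (by rw [hβ] at e00 e11; linear_combination e00 - e11)
  exact P.inj (Units.ext (by rw [hc, hc1, one_smul, map_one, Units.val_one]))

/-- The residual of a simple group. -/
theorem pResidual_eq_top [IsSimpleGroup L] (hna : ¬ IsMulCommutative L) : Cfsg.pResidual 2 L = ⊤ := by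
  haveI : Fact (Nat.Prime 2) := ⟨Nat.prime_two⟩
  have hn : (Cfsg.pResidual 2 L).Normal := ⟨fun n hn g => by
    induction hn using closure_induction with
    | mem y hy =>
      refine subset_closure ?_
      show Nat.Coprime (orderOf (g * y * g⁻¹)) 2
      rw [← MulAut.conj_apply, MulEquiv.orderOf_eq]
      exact hy
    | one => rw [mul_one, mul_inv_cancel]; exact one_mem _
    | mul a b _ _ ha hb => rw [show g * (a * b) * g⁻¹ = g * a * g⁻¹ * (g * b * g⁻¹) by group]; exact mul_mem ha hb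
    | inv a _ ha => rw [show g * a⁻¹ * g⁻¹ = (g * a * g⁻¹)⁻¹ by group]; exact inv_mem ha⟩
  refine hn.eq_bot_or_eq_top.resolve_left fun e => hna ?_
  have hp : IsPGroup 2 L := fun g => by
    obtain ⟨k, o, ho, hgo⟩ := Nat.exists_eq_pow_mul_and_not_dvd (orderOf_pos g).ne' 2 (by norm_num)
    refine ⟨k, ?_⟩
    have hm : g ^ 2 ^ k ∈ Cfsg.pResidual 2 L := subset_closure (by
      show Nat.Coprime (orderOf (g ^ 2 ^ k)) 2
      rw [orderOf_pow_of_dvd (by positivity) (hgo ▸ Dvd.intro o rfl), hgo, Nat.mul_div_cancel_left _ (by positivity)]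
      exact Nat.coprime_two_right.2 (Nat.not_even_iff_odd.1 fun he => ho he.two_dvd))
    rwa [e, mem_bot] at hm
  haveI : Group.IsNilpotent L := hp.isNilpotent
  exact ⟨⟨IsSimpleGroup.comm_iff_isSolvable.2 inferInstance⟩⟩

theorem cube_zmod_three : ∀ s : ZMod 3, s ^ 3 = 1 → s = 1 := by decide

/-- The Sylow 2-subgroup is not quasi-dihedral. -/
theorem Free.not_quasiDihedral (W : Free F L) : ¬ Cfsg.IsQuasiDihedral (W.S : Subgroup L) := by
  intro hq
  haveI : Fact (Nat.Prime 2) := ⟨Nat.prime_two⟩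
  haveI := W.simple
  have hC : ∀ t : L, orderOf t = 2 → Nonempty (centralizer ({t} : Set L) ≃* GL (Fin 2) (ZMod 3)) := fun t ht => by
    obtain ⟨P⟩ := W.exists_frame ht
    exact P.gl_two_three ht hq (Free.scal_sq hq ht P)
  have h48 : ∀ t : L, orderOf t = 2 → Nat.card (centralizer ({t} : Set L)) = 48 := fun t ht => by
    obtain ⟨e⟩ := hC t ht
    rw [Nat.card_congr e.toEquiv]
    exact Cfsg.Lib.Golay.QuartetStab.card_gl
  obtain ⟨t, ht⟩ : ∃ t : L, orderOf t = 2 := by
    refine exists_prime_orderOf_dvd_card' 2 (dvd_trans ?_ (W.S : Subgroup L).card_subgroup_dvd_card)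
    obtain ⟨n, hn, hcard, -⟩ := id hq
    rw [hcard]; exact dvd_pow_self 2 (by omega)
  have h3 : (3 : F) ≠ 0 := by
    obtain ⟨P⟩ := W.exists_frame ht
    obtain ⟨K, iK, iK', D, hD, -⟩ := P.exists_data ht
    have h := D.cop
    rw [show Nat.card D.C = 48 by rw [hD, ← h48 t ht, Nat.card_congr (MonoidHom.ofInjective P.inj).toEquiv]] at h
    intro e
    apply h
    push_cast
    linear_combination 16 * e
  rcases Cfsg.Agent.S2916.result (pResidual_eq_top W.ncomm) t ht (hC t ht) with ⟨K, iK, iK', hK, ⟨e⟩⟩ | ⟨⟨e⟩⟩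
  · haveI : Fact (Nat.Prime 3) := ⟨Nat.prime_three⟩
    let σ : ZMod 3 ≃+* K := FiniteField.ringEquivOfCardEq (by rw [ZMod.card, hK])
    let θ : SL(3, ZMod 3) →* PG F := W.j.comp (e.symm.toMonoidHom.comp
      ((QuotientGroup.mk' (center SL(3, K))).comp (Matrix.SpecialLinearGroup.map σ.toRingHom)))
    refine no_sl_three_three h3 θ (W.inj.comp (e.symm.injective.comp ?_))
    show Function.Injective ((QuotientGroup.mk' (center SL(3, K))).comp (Matrix.SpecialLinearGroup.map σ.toRingHom))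
    refine (injective_iff_map_eq_one _).2 fun M hM => ?_
    have hM' : Matrix.SpecialLinearGroup.map σ.toRingHom M ∈ center SL(3, K) := (QuotientGroup.eq_one_iff _).1 hM
    obtain ⟨r, hr, hrM⟩ := Matrix.SpecialLinearGroup.mem_center_iff.1 hM'
    have hr1 : r = 1 := by
      rw [Fintype.card_fin] at hr
      have h : σ.symm r = 1 := cube_zmod_three _ (by rw [← map_pow, hr, map_one])
      rw [← σ.apply_symm_apply r, h, map_one]
    refine Subtype.ext (Matrix.ext fun i j => σ.injective ?_)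
    have h := congrFun (congrFun hrM i) j
    rw [hr1] at h
    simp [Matrix.one_apply] at h ⊢
    rw [← h]
  · exact no_order_7920 W.ncomm W.j W.inj (by rw [Nat.card_congr e.toEquiv]; exact Cfsg.Lib.Golay.card_M11) h48

/-- Elations exist. -/
theorem Free.false (W : Free F L) : False :=
  W.type.elim W.not_quasiDihedral W.not_wreathed

end Cfsg.Lib.MitchellThree
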