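import Cfsg.Agent.MitchellThree.Top
import Cfsg.Agent.MitchellThree.SemiDihedral
import Cfsg.Agent.MitchellThree.Elation.Case

/-!
Subgroups of the three-dimensional projective linear group over a field of odd order without normal solvable subgroups:
the socle contains an elation or the group is in the short list; in the projective special linear group this gives
Mitchell's list.
-/

set_option autoImplicit false
set_option linter.unusedSectionVars false

namespace Cfsg.Lib.MitchellThree

open Subgroup Cfsg.Geo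
open scoped MatrixGroups

universe u v

variable {F : Type u} [Field F] [Finite F]

/-- The socle contains an elation, or the group is small. -/
theorem small_or_socle_elation {p α : ℕ} [Fact p.Prime] [CharP F p] (hp2 : p ≠ 2) (hF : Nat.card F = p ^ α)
    {H : Type v} [Group H] [Finite H] [Nontrivial H] (ι : H →* PG F) (hι : Function.Injective ι) (hN : NoSol H) :
    Small p α H ∨ ∃ L : Subgroup H, L.Normal ∧ IsSimpleGroup L ∧ ¬ IsMulCommutative L ∧
      centralizer (L : Set H) = ⊥ ∧ (∃ h ∈ L, IsEl (ι h)) ∧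
      ∃ S : Sylow 2 L, Cfsg.IsQuasiDihedral (S : Subgroup L) ∨ Cfsg.IsWreathed (S : Subgroup L) := by
  rcases socle_cases hp2 hF ι hι hN with h | ⟨L, hLn, hLs, hLc, hC, S, hS⟩
  · exact Or.inl h
  refine Or.inr ⟨L, hLn, hLs, hLc, hC, ?_, S, hS⟩
  by_contra hno
  push Not at hno
  exact Free.false
    { p := p
      prime := Fact.out
      char := inferInstance
      ne_two := hp2
      simple := hLs
      ncomm := hLc
      j := ι.comp L.subtype
      inj := hι.comp L.subtype_injective
      noEl := fun x => hno x x.2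
      S := S
      type := hS }

/-- Elation or small. -/
theorem elation_or_small {p α : ℕ} [Fact p.Prime] [CharP F p] (hp2 : p ≠ 2) (hF : Nat.card F = p ^ α)
    {H : Type v} [Group H] [Finite H] [Nontrivial H] (ι : H →* PG F) (hι : Function.Injective ι) (hN : NoSol H) :
    Small p α H ∨ ∃ L : Subgroup H, L.Normal ∧ IsSimpleGroup L ∧ ¬ IsMulCommutative L ∧
      centralizer (L : Set H) = ⊥ ∧ ∃ h ∈ L, IsEl (ι h) :=
  (small_or_socle_elation hp2 hF ι hι hN).imp_right fun ⟨L, h1, h2, h3, h4, h5, _⟩ => ⟨L, h1, h2, h3, h4, h5⟩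

/-- Mitchell's list. -/
theorem mitchell {p α : ℕ} [Fact p.Prime] [CharP F p] (hp2 : p ≠ 2) (hF : Nat.card F = p ^ α)
    {H : Type v} [Group H] [Finite H] [Nontrivial H] (ι : H →* PG F) (hι : Function.Injective ι)
    (hdet : ∀ h (g : GL (Fin 3) F), (QuotientGroup.mk g : PG F) = ι h →
      ∃ c : F, (g : Matrix (Fin 3) (Fin 3) F).det = c ^ 3)
    (hN : NoSol H) : Big p α H ∨ Small p α H := by
  rcases small_or_socle_elation hp2 hF ι hι hN with h | ⟨L, hLn, hLs, hLc, -, ⟨h, hh, hel⟩, hSyl⟩
  · exact Or.inr h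
  · haveI := hLn
    haveI := hLs
    exact Or.inl (big_of_elation hp2 hF ι hι hdet L hLc hSyl ⟨h, hh, hel⟩)

/-- The embedding of the projective special linear group. -/
def pslToPG : Matrix.ProjectiveSpecialLinearGroup (Fin 3) F →* PG F :=
  QuotientGroup.lift (center SL(3, F)) ((QuotientGroup.mk' (scalars (Fin 3) F)).comp Matrix.SpecialLinearGroup.toGL)
    fun s hs => by
      obtain ⟨r, hr, hrs⟩ := Matrix.SpecialLinearGroup.mem_center_iff.1 hs
      have hr0 : r ≠ 0 := fun e => by rw [e, zero_pow (by simp)] at hr; exact zero_ne_one hr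
      rw [MonoidHom.mem_ker, MonoidHom.comp_apply, QuotientGroup.mk'_apply, QuotientGroup.eq_one_iff, mem_scalars_iff]
      refine ⟨Units.mk0 r hr0, ?_⟩
      show (s : Matrix (Fin 3) (Fin 3) F) = _
      rw [← hrs, Units.val_mk0, Matrix.scalar_apply, Matrix.smul_one_eq_diagonal]

theorem pslToPG_injective : Function.Injective (pslToPG (F := F)) := by
  refine (injective_iff_map_eq_one _).2 fun x hx => ?_
  obtain ⟨s, rfl⟩ := QuotientGroup.mk_surjective x
  have hs : (Matrix.SpecialLinearGroup.toGL s : GL (Fin 3) F) ∈ scalars (Fin 3) F := (QuotientGroup.eq_one_iff _).1 hx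
  obtain ⟨c, -, hc⟩ := scalar_of_mem hs
  refine (QuotientGroup.eq_one_iff s).2 (Matrix.SpecialLinearGroup.mem_center_iff.2 ⟨c, ?_, ?_⟩)
  · have h : (s : Matrix (Fin 3) (Fin 3) F).det = 1 := s.2
    rw [show (s : Matrix (Fin 3) (Fin 3) F) = c • 1 from hc, Matrix.det_smul, Matrix.det_one, mul_one] at h
    exact h
  · rw [Matrix.scalar_apply, ← Matrix.smul_one_eq_diagonal]
    exact hc.symm

theorem pslToPG_det (x : Matrix.ProjectiveSpecialLinearGroup (Fin 3) F) (g : GL (Fin 3) F)
    (h : (QuotientGroup.mk g : PG F) = pslToPG x) : ∃ c : F, (g : Matrix (Fin 3) (Fin 3) F).det = c ^ 3 := by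
  obtain ⟨s, rfl⟩ := QuotientGroup.mk_surjective x
  have h' : (Matrix.SpecialLinearGroup.toGL s)⁻¹ * g ∈ scalars (Fin 3) F := QuotientGroup.eq.1 h.symm
  obtain ⟨c, -, hc⟩ := scalar_of_mem h'
  refine ⟨c, ?_⟩
  rw [show g = Matrix.SpecialLinearGroup.toGL s * ((Matrix.SpecialLinearGroup.toGL s)⁻¹ * g) from
    (mul_inv_cancel_left _ _).symm, Units.val_mul, hc, Matrix.det_mul, Matrix.det_smul, Matrix.det_one, mul_one,
    Fintype.card_fin, show ((Matrix.SpecialLinearGroup.toGL s : GL (Fin 3) F) : Matrix (Fin 3) (Fin 3) F).det = 1 from s.2,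
    one_mul]

end Cfsg.Lib.MitchellThree
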