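import Cfsg.Agent.MitchellThree.ElemAb

/-!
Ratios of the eigenvalues on a commonly diagonalised abelian subgroup of the projective linear group: an injective
homomorphism, permuted by the normaliser.
-/

set_option autoImplicit false
set_option linter.unusedSectionVars false

namespace Cfsg.Lib.MitchellThree

open Matrix Cfsg.Geo
open scoped MatrixGroups

universe u

variable {F : Type u} [Field F] [Finite F]

/-- Two diagonal forms of one element in one frame have the same ratios. -/
theorem ratio_unique {x : PG F} (E E' : Eig x) (hP : E.P = E'.P) (i j : Fin 3) :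
    E.d i / E.d j = E'.d i / E'.d j := by
  set ι := algebraMap F (AlgebraicClosure F)
  obtain ⟨c, hc0, hc⟩ := scalar_of_mem (QuotientGroup.eq.1 (E'.mk_g.trans E.mk_g.symm))
  have h1 : (E.g : Matrix (Fin 3) (Fin 3) F) = c • (E'.g : Matrix (Fin 3) (Fin 3) F) := by
    rw [show E.g = E'.g * (E'.g⁻¹ * E.g) from (mul_inv_cancel_left _ _).symm, Units.val_mul, hc, Matrix.mul_smul,
      Matrix.mul_one]
  have h2 : diagonal E.d = ι c • diagonal E'.d := by
    refine (Units.isUnit E.P).mul_left_cancel ?_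
    rw [← E.eq, h1, Matrix.map_smul' _ _ _ (map_mul ι), Matrix.smul_mul, hP, E'.eq, Matrix.mul_smul]
  have h3 : ∀ k, E.d k = ι c * E'.d k := fun k => by simpa using congrFun (congrFun h2 k) k
  rw [h3, h3, mul_div_mul_left _ _ ((map_ne_zero ι).2 hc0)]

/-- An abelian subgroup with coordinates. -/
structure Coord (A : Subgroup (PG F)) where
  /-- The ratios. -/
  R : A → Fin 3 → Fin 3 → AlgebraicClosure F
  ne_zero : ∀ a i j, R a i j ≠ 0
  inj : ∀ a b : A, (∀ i j, R a i j = R b i j) → a = b
  map_mul : ∀ a b : A, ∀ i j, R (a * b) i j = R a i j * R b i j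
  mono : ∀ y : PG F, ∃ π : Equiv.Perm (Fin 3), ∀ a b : A, y * (a : PG F) * y⁻¹ = b →
    ∀ i j, R b i j = R a (π i) (π j)

theorem Coord.map_one {A : Subgroup (PG F)} (C : Coord A) (i j : Fin 3) : C.R 1 i j = 1 := by
  have h := C.map_mul 1 1 i j
  rw [mul_one] at h
  exact (mul_eq_left₀ (C.ne_zero 1 i j)).1 h.symm

theorem Coord.map_inv {A : Subgroup (PG F)} (C : Coord A) (a : A) (i j : Fin 3) : C.R a⁻¹ i j = (C.R a i j)⁻¹ := by
  refine eq_inv_of_mul_eq_one_left ?_
  rw [← C.map_mul, inv_mul_cancel, C.map_one]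

theorem Coord.map_pow {A : Subgroup (PG F)} (C : Coord A) (a : A) (n : ℕ) (i j : Fin 3) :
    C.R (a ^ n) i j = C.R a i j ^ n := by
  induction n with
  | zero => rw [pow_zero, pow_zero, C.map_one]
  | succ n ih => rw [pow_succ, pow_succ, C.map_mul, ih]

/-- Commuting lifts give coordinates. -/
theorem exists_coord {r : ℕ} (hr : (r : F) ≠ 0) (A : Subgroup (PG F)) (hexp : ∀ a ∈ A, a ^ r = 1)
    (hcomm : ∀ g h : GL (Fin 3) F, (QuotientGroup.mk g : PG F) ∈ A → (QuotientGroup.mk h : PG F) ∈ A →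
      (g : Matrix (Fin 3) (Fin 3) F) * (h : Matrix (Fin 3) (Fin 3) F) =
        (h : Matrix (Fin 3) (Fin 3) F) * (g : Matrix (Fin 3) (Fin 3) F)) : Nonempty (Coord A) := by
  set ι := algebraMap F (AlgebraicClosure F)
  obtain ⟨P, d, hE⟩ := exists_common hr A hexp hcomm
  choose E hEP hEd using hE
  refine ⟨⟨fun a i j => (E a).d i / (E a).d j, fun a i j => div_ne_zero ((E a).d_ne i) ((E a).d_ne j), fun a b h =>
    Subtype.ext (eq_of_ratios (E a) (E b) ((hEP a).trans (hEP b).symm) fun i => h i 0), fun a b i j => ?_, fun y => ?_⟩⟩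
  · let E' : Eig ((a * b : A) : PG F) :=
      ⟨(E a).g * (E b).g, by rw [QuotientGroup.mk_mul, (E a).mk_g, (E b).mk_g]; rfl, P,
        fun k => (E a).d k * (E b).d k, by
          rw [Units.val_mul, Matrix.map_mul, mul_assoc]
          nth_rewrite 1 [← hEP b]
          rw [(E b).eq, hEP b, ← mul_assoc]
          nth_rewrite 1 [← hEP a]
          rw [(E a).eq, hEP a, mul_assoc, diagonal_mul_diagonal],
        fun k => mul_ne_zero ((E a).d_ne k) ((E b).d_ne k)⟩
    rw [ratio_unique (E (a * b)) E' (hEP _) i j]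
    show (E a).d i * (E b).d i / ((E a).d j * (E b).d j) = _
    rw [mul_div_mul_comm]
  · obtain ⟨m, rfl⟩ := QuotientGroup.mk_surjective y
    set M := ((P⁻¹ : GL (Fin 3) (AlgebraicClosure F)) : Matrix (Fin 3) (Fin 3) _) *
      (m : Matrix (Fin 3) (Fin 3) F).map ι * (P : Matrix (Fin 3) (Fin 3) _) with hM
    have hM0 : M.transpose.det ≠ 0 := by
      rw [det_transpose, hM, det_mul, det_mul, ← RingHom.mapMatrix_apply, ← RingHom.map_det]
      exact mul_ne_zero (mul_ne_zero (Matrix.isUnits_det_units _).ne_zero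
        ((map_ne_zero ι).2 (Matrix.isUnits_det_units m).ne_zero)) (Matrix.isUnits_det_units _).ne_zero
    obtain ⟨π, hπ⟩ := exists_perm hM0
    refine ⟨π, fun a b hab i j => ?_⟩
    have hmem : (E b).g⁻¹ * (m * (E a).g * m⁻¹) ∈ scalars (Fin 3) F := by
      rw [← QuotientGroup.eq, QuotientGroup.mk_mul, QuotientGroup.mk_mul, QuotientGroup.mk_inv, (E a).mk_g,
        (E b).mk_g]
      exact hab.symm
    obtain ⟨c, hc0, hc⟩ := scalar_of_mem hmem
    have h1 : (m : Matrix (Fin 3) (Fin 3) F) * ((E a).g : Matrix (Fin 3) (Fin 3) F) =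
        c • (((E b).g : Matrix (Fin 3) (Fin 3) F) * (m : Matrix (Fin 3) (Fin 3) F)) := by
      rw [← Units.val_mul, show m * (E a).g = (E b).g * ((E b).g⁻¹ * (m * (E a).g * m⁻¹)) * m by group, Units.val_mul,
        Units.val_mul, hc, Matrix.mul_smul, Matrix.mul_one, Matrix.smul_mul]
    have h2 : M * diagonal (E a).d = ι c • (diagonal (E b).d * M) := by
      have e' := congrArg (fun N : Matrix (Fin 3) (Fin 3) F => N.map ι) h1
      simp only [Matrix.map_mul, Matrix.map_smul' _ _ _ (map_mul ι)] at e'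
      have ea := (E a).eq
      have eb := (E b).eq
      rw [hEP a] at ea
      rw [hEP b] at eb
      have e3 : ((E b).g : Matrix (Fin 3) (Fin 3) F).map ι = (P : Matrix (Fin 3) (Fin 3) _) * diagonal (E b).d *
          ((P⁻¹ : GL (Fin 3) (AlgebraicClosure F)) : Matrix (Fin 3) (Fin 3) _) := by
        rw [← eb, Units.mul_inv_cancel_right]
      rw [hM, mul_assoc, ← ea, ← mul_assoc, mul_assoc _ _ (((E a).g : Matrix (Fin 3) (Fin 3) F).map (algebraMap F (AlgebraicClosure F))),
        e', e3]
      simp only [Matrix.mul_smul, Matrix.smul_mul, mul_assoc, Units.inv_mul_cancel_left]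
    have h3 : ∀ k, (E a).d (π k) = ι c * (E b).d k := fun k => by
      have e := congrFun (congrFun h2 k) (π k)
      rw [mul_diagonal, Matrix.smul_apply, diagonal_mul, smul_eq_mul] at e
      exact mul_right_cancel₀ (hπ k) (by rw [Matrix.transpose_apply]; linear_combination e)
    show (E b).d i / (E b).d j = (E a).d (π i) / (E a).d (π j)
    rw [h3, h3, mul_div_mul_left _ _ ((map_ne_zero ι).2 hc0)]

/-- A normalising element cannot act with a period four or eight squaring to inversion on coordinates. -/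
theorem Coord.no_inverting_square {A : Subgroup (PG F)} (C : Coord A) {r : ℕ} (hr : Odd r) (y : PG F) (a b c : A)
    (hab : y * (a : PG F) * y⁻¹ = b) (hbc : y * (b : PG F) * y⁻¹ = c) (hc : c = a⁻¹)
    (har : a ^ r = 1) (hne : a ≠ 1) : b = a := by
  obtain ⟨π, hπ⟩ := C.mono y
  have key : ∀ π : Equiv.Perm (Fin 3), (∀ i, π (π i) = i) ∨ (∀ i, π (π (π i)) = i) := by decide
  rcases key π with e | e
  · exfalso
    refine hne (C.inj a 1 fun i j => ?_)
    have h2 := hπ b c hbc i j
    rw [hπ a b hab, e, e, hc, C.map_inv] at h2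
    have h3 : C.R a i j ^ 2 = 1 := by
      have h0 := C.ne_zero a i j
      field_simp at h2
      linear_combination -h2
    have h4 : C.R a i j ^ r = 1 := by rw [← C.map_pow, har, C.map_one]
    obtain ⟨m, rfl⟩ := hr
    rw [pow_succ, pow_mul, h3, one_pow, one_mul] at h4
    rw [h4, C.map_one]
  · refine C.inj b a fun i j => ?_
    have h2 : ∀ i j, (C.R a i j)⁻¹ = C.R a (π (π i)) (π (π j)) := fun i j => by
      rw [← C.map_inv, ← hc, hπ b c hbc, hπ a b hab]
    rw [hπ a b hab]
    have h4 := h2 (π (π i)) (π (π j))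
    rw [e, e, ← h2, inv_inv] at h4
    exact h4.symm

end Cfsg.Lib.MitchellThree
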