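import Cfsg.Agent.MitchellThree.LinearCases

/-!
`PSL₂(9)` in the three-dimensional projective linear group in characteristic other than three: the field has cube
roots of unity and no diagonal automorphism of the root group survives.
-/

set_option autoImplicit false
set_option linter.unusedSectionVars false

namespace Cfsg.Lib.MitchellThree.Two

open Matrix Cfsg.Lib.Known.AutPSLn Cfsg.Geo
open scoped MatrixGroups

universe u

variable {K : Type} [Field K] [Fintype K] {F : Type u} [Field F] [Finite F]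

local notation "P2" => Matrix.ProjectiveSpecialLinearGroup (Fin 2) K

theorem scal_comm {z : GL (Fin 3) F} (hz : z ∈ scalars (Fin 3) F) (g : GL (Fin 3) F) : z * g = g * z := by
  obtain ⟨c, -, hc⟩ := scalar_of_mem hz
  refine Units.ext ?_
  rw [Units.val_mul, Units.val_mul, hc, Matrix.smul_mul, Matrix.mul_smul, Matrix.one_mul, Matrix.mul_one]

variable (E : Emb K F)

/-- Lifts of two root elements commute. -/
def Emb.Com (a b : K) : Prop := ∀ g h : GL (Fin 3) F, (QuotientGroup.mk g : PG F) = E.J (U a) →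
  (QuotientGroup.mk h : PG F) = E.J (U b) → g * h = h * g

theorem Emb.com_of {a b : K} {g h : GL (Fin 3) F} (hg : (QuotientGroup.mk g : PG F) = E.J (U a))
    (hh : (QuotientGroup.mk h : PG F) = E.J (U b)) (h0 : g * h = h * g) : E.Com a b := by
  intro g' h' hg' hh'
  obtain ⟨z, hz, rfl⟩ : ∃ z ∈ scalars (Fin 3) F, g' = g * z :=
    ⟨g⁻¹ * g', QuotientGroup.eq.1 (hg.trans hg'.symm), (mul_inv_cancel_left _ _).symm⟩
  obtain ⟨w, hw, rfl⟩ : ∃ w ∈ scalars (Fin 3) F, h' = h * w :=
    ⟨h⁻¹ * h', QuotientGroup.eq.1 (hh.trans hh'.symm), (mul_inv_cancel_left _ _).symm⟩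
  calc g * z * (h * w) = g * h * (z * w) := by
        rw [mul_assoc, ← mul_assoc z, scal_comm hz h, mul_assoc h, ← mul_assoc]
    _ = h * g * (w * z) := by rw [h0, scal_comm hz w]
    _ = h * w * (g * z) := by rw [mul_assoc, mul_assoc h w, ← mul_assoc w, scal_comm hw g, mul_assoc g w]

theorem Emb.com_self (a : K) : E.Com a a := by
  obtain ⟨g, hg⟩ := QuotientGroup.mk_surjective (E.J (U a))
  exact E.com_of hg hg rfl

theorem Emb.com_zero (a : K) : E.Com a 0 := by
  obtain ⟨g, hg⟩ := QuotientGroup.mk_surjective (E.J (U a))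
  exact E.com_of hg (h := 1) (by rw [U_zero, map_one]; rfl) (by rw [mul_one, one_mul])

theorem Emb.com_add {a b c : K} (h1 : E.Com a b) (h2 : E.Com a c) : E.Com a (b + c) := by
  obtain ⟨g, hg⟩ := QuotientGroup.mk_surjective (E.J (U a))
  obtain ⟨h, hh⟩ := QuotientGroup.mk_surjective (E.J (U b))
  obtain ⟨k, hk⟩ := QuotientGroup.mk_surjective (E.J (U c))
  refine E.com_of hg (h := h * k) (by rw [QuotientGroup.mk_mul, hh, hk, ← map_mul, U_add]) ?_
  rw [← mul_assoc, h1 g h hg hh, mul_assoc, h2 g k hg hk, mul_assoc]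

theorem Emb.com_neg {a b : K} (h1 : E.Com a b) : E.Com a (-b) := by
  obtain ⟨g, hg⟩ := QuotientGroup.mk_surjective (E.J (U a))
  obtain ⟨h, hh⟩ := QuotientGroup.mk_surjective (E.J (U b))
  refine E.com_of hg (h := h⁻¹) (by rw [QuotientGroup.mk_inv, hh, U_neg, map_inv]) ?_
  exact (Commute.inv_right (show Commute g h from h1 g h hg hh)).eq

/-- Scaling by an eighth root of unity forces lifts to commute. -/
theorem Emb.com_scaled {t : K} (hK : Fintype.card K = 9) (ht : t ^ 4 = -1) {y : PG F}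
    (hy : ∀ a, y * E.J (U a) * y⁻¹ = E.J (U (t * a))) (a : K) : E.Com a (t * a) := by
  obtain ⟨m, rfl⟩ := QuotientGroup.mk_surjective y
  obtain ⟨g, hg⟩ := QuotientGroup.mk_surjective (E.J (U a))
  obtain ⟨h, hdef⟩ : ∃ h : GL (Fin 3) F, h = m * g * m⁻¹ := ⟨_, rfl⟩
  have hh : (QuotientGroup.mk h : PG F) = E.J (U (t * a)) := by
    rw [hdef, QuotientGroup.mk_mul, QuotientGroup.mk_mul, QuotientGroup.mk_inv, hg, hy]
  obtain ⟨h', h'def⟩ : ∃ h' : GL (Fin 3) F, h' = m * h * m⁻¹ := ⟨_, rfl⟩
  have hh' : (QuotientGroup.mk h' : PG F) = E.J (U (t * (t * a))) := by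
    rw [h'def, QuotientGroup.mk_mul, QuotientGroup.mk_mul, QuotientGroup.mk_inv, hh, hy]
  set c := g * h * g⁻¹ * h⁻¹ with hc
  have hcs : c ∈ scalars (Fin 3) F := by
    rw [← QuotientGroup.eq_one_iff, QuotientGroup.mk_mul, QuotientGroup.mk_mul, QuotientGroup.mk_mul,
      QuotientGroup.mk_inv, QuotientGroup.mk_inv, hg, hh, ← map_mul, ← U_add, add_comm, U_add, map_mul]
    group
  obtain ⟨w, hw, hexp⟩ : ∃ (w : GL (Fin 3) F), (w = h ∨ w = h⁻¹) ∧
      (QuotientGroup.mk h' : PG F) = QuotientGroup.mk (w * g) := by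
    have h2 : (t * t - t - 1) * (t * t + t - 1) = 0 := by linear_combination ht - t ^ 2 * three_eq_zero hK
    rcases mul_eq_zero.1 h2 with e | e
    · refine ⟨h, Or.inl rfl, ?_⟩
      rw [hh', QuotientGroup.mk_mul, hh, hg, ← map_mul, ← U_add]
      congr 2; linear_combination a * e
    · refine ⟨h⁻¹, Or.inr rfl, ?_⟩
      rw [hh', QuotientGroup.mk_mul, QuotientGroup.mk_inv, hh, hg, ← map_inv, ← map_mul, ← U_neg, ← U_add]
      congr 2; linear_combination a * e
  obtain ⟨z, hz, hz'⟩ : ∃ z ∈ scalars (Fin 3) F, h' = w * g * z :=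
    ⟨_, QuotientGroup.eq.1 hexp.symm, (mul_inv_cancel_left _ _).symm⟩
  have e1 : h * h' * h⁻¹ * h'⁻¹ = c := by
    rw [show h * h' * h⁻¹ * h'⁻¹ = m * c * m⁻¹ by rw [hc, h'def, hdef]; group,
      ← scal_comm hcs, mul_inv_cancel_right]
  have hwh : h * w = w * h := by rcases hw with rfl | rfl <;> group
  have e2 : h * h' * h⁻¹ * h'⁻¹ = c⁻¹ := by
    rw [hz', show h * (w * g * z) * h⁻¹ * (w * g * z)⁻¹ = h * w * g * (z * h⁻¹) * z⁻¹ * g⁻¹ * w⁻¹ by group,
      scal_comm hz, show h * w * g * (h⁻¹ * z) * z⁻¹ * g⁻¹ * w⁻¹ = h * w * (g * h⁻¹ * g⁻¹) * w⁻¹ by group, hwh,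
      show w * h * (g * h⁻¹ * g⁻¹) * w⁻¹ = w * c⁻¹ * w⁻¹ by rw [hc]; group,
      ← scal_comm ((scalars (Fin 3) F).inv_mem hcs), mul_inv_cancel_right]
  have hc2 : c * c = 1 := by
    nth_rewrite 1 [e1.symm.trans e2]
    exact inv_mul_cancel c
  obtain ⟨s, hs3, hs⟩ := comm_scalar (g := g) (h := h) (by rw [hg, hh, ← map_mul, ← map_mul, ← U_add, ← U_add, add_comm])
  have hgh : (g : Matrix (Fin 3) (Fin 3) F) * h = ((c * h * g : GL (Fin 3) F) : Matrix (Fin 3) (Fin 3) F) := by
    rw [← Units.val_mul]; congr 1; rw [hc]; group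
  obtain ⟨s', hs'0, hcval⟩ := scalar_of_mem hcs
  have hss : s' = s := by
    rw [hs, Units.val_mul, Units.val_mul, hcval, Matrix.smul_mul, Matrix.one_mul, Matrix.smul_mul] at hgh
    have h4 : (s - s') • ((h : Matrix (Fin 3) (Fin 3) F) * g) = 0 := by rw [sub_smul, hgh, sub_self]
    rcases smul_eq_zero.1 h4 with h5 | h5
    · exact (sub_eq_zero.1 h5).symm
    · exact absurd (by rw [Units.val_mul]; exact h5) (Units.ne_zero (h * g))
  have hs2 : s * s = 1 := by
    have e := congrArg (fun M : GL (Fin 3) F => (M : Matrix (Fin 3) (Fin 3) F) 0 0) hc2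
    simpa [Units.val_mul, hcval, hss, smul_smul] using e
  have hs1 : s = 1 := by
    calc s = s ^ 3 / (s * s) := by rw [pow_succ, pow_two, mul_div_cancel_left₀ s (by rw [hs2]; exact one_ne_zero)]
      _ = 1 := by rw [hs3, hs2, div_one]
  refine E.com_of hg hh (Units.ext ?_)
  rw [Units.val_mul, Units.val_mul, hs, hs1, one_smul]

theorem Emb.coord {r : ℕ} [Fact r.Prime] [CharP K r] (hrF : (r : F) ≠ 0) (hall : ∀ a b, E.Com a b) :
    Nonempty (Coord E.rootHom.range) :=
  exists_coord hrF _ (fun a ⟨x, hx⟩ => by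
    rw [← hx, ← map_pow]
    show E.J (U (r • x.toAdd)) = 1
    rw [nsmul_eq_mul, CharP.cast_eq_zero, zero_mul, U_zero, map_one])
    fun g h ⟨x, hx⟩ ⟨y, hy⟩ => by
      rw [← Units.val_mul, ← Units.val_mul]
      exact congrArg Units.val (hall x.toAdd y.toAdd g h hx.symm hy.symm)

/-- The field has a cube root of unity, and no outer linear automorphism occurs. -/
theorem Emb.nine (E : Emb K F) (hK : Fintype.card K = 9) (h3 : (3 : F) ≠ 0) :
    Nat.card F % 3 = 1 ∧ ∀ g : GL (Fin 2) K, conjP g ∈ E.A → ∃ x, (conjP g : MulAut P2) = MulAut.conj x := by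
  classical
  haveI : Fact (Nat.Prime 3) := ⟨by norm_num⟩
  haveI : CharP K 3 := by
    obtain ⟨p, hp⟩ := CharP.exists K
    haveI := hp
    obtain ⟨n, hpp, hn⟩ := FiniteField.card K p
    have h1 : p ∣ 3 ^ 2 := by rw [show 3 ^ 2 = Fintype.card K by rw [hK]; norm_num, hn]; exact dvd_pow_self p n.pos.ne'
    rwa [(Nat.prime_dvd_prime_iff_eq hpp Nat.prime_three).1 (hpp.dvd_of_dvd_pow h1)] at hp
  obtain ⟨t, ht, ht4, hgen⟩ := exists_eighth hK
  let el : K → E.rootHom.range := fun a => ⟨E.J (U a), Multiplicative.ofAdd a, rfl⟩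
  have helinj : Function.Injective el := fun a b e => U_inj (E.J_injective (congrArg Subtype.val e))
  have hel : ∀ a : K, el a ^ 3 = 1 := fun a => Subtype.ext (by
    show E.J (U a) ^ 3 = 1
    rw [← map_pow, U_pow, nsmul_eq_mul, CharP.cast_eq_zero, zero_mul, U_zero, map_one])
  refine ⟨?_, fun g hg => ?_⟩
  · by_contra hq
    have hcube : ∀ c : F, c ^ 3 = 1 → c = 1 := by
      intro c hc
      haveI := Fintype.ofFinite F
      have hc0 : c ≠ 0 := fun e => by rw [e, zero_pow three_ne_zero] at hc; exact zero_ne_one hc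
      have hq1 : c ^ (Nat.card F - 1) = 1 := by
        rw [Nat.card_eq_fintype_card]; exact FiniteField.pow_card_sub_one_eq_one c hc0
      have hcop : Nat.gcd 3 (Nat.card F - 1) = 1 := by
        refine (Nat.prime_three.coprime_iff_not_dvd).2 fun h => hq ?_
        obtain ⟨k, hk⟩ := h
        have := Nat.card_pos (α := F)
        omega
      have h := pow_gcd_eq_one.2 ⟨hc, hq1⟩
      rwa [hcop, pow_one] at h
    have hall : ∀ a b, E.Com a b := fun a b g h hg hh => by
      obtain ⟨c, hc3, hc⟩ := comm_scalar (g := g) (h := h)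
        (by rw [hg, hh, ← map_mul, ← map_mul, ← U_add, ← U_add, add_comm])
      exact Units.ext (by rw [Units.val_mul, Units.val_mul, hc, hcube c hc3, one_smul])
    obtain ⟨C⟩ := E.coord (r := 3) (by exact_mod_cast h3) hall
    have hy : ∀ a, E.J (D t) * E.J (U a) * (E.J (D t))⁻¹ = E.J (U ((t : K) * t * a)) := fun a => by
      rw [← map_inv, ← map_mul, ← map_mul, D_conj_U]
    have h := C.no_inverting_square (r := 3) ⟨1, rfl⟩ (E.J (D t)) (el 1) (el ((t : K) * t)) (el (-1))
      (by show _ = E.J (U _); rw [hy, mul_one])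
      (by show _ = E.J (U _); rw [hy, show (t : K) * t * ((t : K) * t) = -1 by linear_combination ht4])
      (Subtype.ext (by show E.J (U (-1)) = (E.J (U 1))⁻¹; rw [U_neg, map_inv]))
      (hel 1)
      (fun e => one_ne_zero (helinj (e.trans (Subtype.ext (by show 1 = E.J (U 0); rw [U_zero, map_one])))))
    have h1 : (t : K) * t = 1 := helinj h
    have h2 : t ^ 2 = 1 := Units.ext (by rw [Units.val_pow_eq_pow_val, pow_two, h1, Units.val_one])
    have := Nat.le_of_dvd (by norm_num) (ht ▸ orderOf_dvd_of_pow_eq_one h2)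
    omega
  · by_contra hn
    have hns : ¬ IsSquare (g : Matrix (Fin 2) (Fin 2) K).det := fun hs => hn (diag_inner_of_sq hs)
    have htns : ¬ IsSquare (t : K) := fun ⟨s, hs⟩ => by
      have hs0 : s ≠ 0 := fun e => t.ne_zero (by rw [hs, e, mul_zero])
      have h8 : s ^ (Fintype.card K - 1) = 1 := FiniteField.pow_card_sub_one_eq_one s hs0
      rw [hK, show 9 - 1 = 2 * 4 by norm_num, pow_mul, pow_two, ← hs, ht4] at h8
      exact two_ne_zero_of_odd E.odd (by linear_combination -h8)
    have htA : conjP (dg t) ∈ E.A := by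
      have hsq : IsSquare ((dg t * g : GL (Fin 2) K) : Matrix (Fin 2) (Fin 2) K).det := by
        rw [Units.val_mul, det_mul, Cfsg.Lib.Known.AutPSL2.coe_diagGL, det_fin_two_of]
        have := isSquare_mul_of_not (a := t) (b := Units.mk0 _ (Matrix.isUnits_det_units g).ne_zero) htns hns
        simpa using this
      obtain ⟨x, hx⟩ := diag_inner_of_sq hsq
      have : conjP (dg t * g) ∈ E.A := by rw [hx]; exact E.inn x
      rw [map_mul] at this
      exact (Subgroup.mul_mem_cancel_right _ hg).1 this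
    set y := E.f ⟨_, htA⟩
    have hy : ∀ a, y * E.J (U a) * y⁻¹ = E.J (U ((t : K) * a)) := fun a => by rw [E.conj_eq, dg_U]
    have hpow : ∀ (a : K) (n : ℕ), E.Com a ((t : K) ^ n * a) ∧ E.Com a ((t : K) ^ (n + 1) * a) := by
      intro a n
      induction n with
      | zero => exact ⟨by rw [pow_zero, one_mul]; exact E.com_self a,
          by rw [zero_add, pow_one]; exact E.com_scaled hK ht4 hy a⟩
      | succ n ih =>
        refine ⟨ih.2, ?_⟩
        have h2 : ((t : K) * t - t - 1) * ((t : K) * t + t - 1) = 0 := by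
          linear_combination ht4 - (t : K) ^ 2 * three_eq_zero hK
        rcases mul_eq_zero.1 h2 with e | e
        · rw [show (t : K) ^ (n + 1 + 1) * a = (t : K) ^ (n + 1) * a + (t : K) ^ n * a by
            rw [pow_succ, pow_succ]; linear_combination (t : K) ^ n * a * e]
          exact E.com_add ih.2 ih.1
        · rw [show (t : K) ^ (n + 1 + 1) * a = -((t : K) ^ (n + 1) * a) + (t : K) ^ n * a by
            rw [pow_succ, pow_succ]; linear_combination (t : K) ^ n * a * e]
          exact E.com_add (E.com_neg ih.2) ih.1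
    have hall : ∀ a b, E.Com a b := by
      intro a b
      rcases eq_or_ne b 0 with rfl | hb
      · exact E.com_zero a
      rcases eq_or_ne a 0 with rfl | ha
      · exact fun g h hg hh => ((E.com_zero b) h g hh hg).symm
      obtain ⟨n, hn⟩ := hgen (Units.mk0 (b / a) (div_ne_zero hb ha))
      have : (t : K) ^ n * a = b := by
        rw [← Units.val_pow_eq_pow_val, hn, Units.val_mk0, div_mul_cancel₀ b ha]
      exact this ▸ (hpow a n).1
    obtain ⟨C⟩ := E.coord (r := 3) (by exact_mod_cast h3) hall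
    obtain ⟨π, hπ⟩ := C.mono y
    have hit : ∀ (n : ℕ) (i j : Fin 3), C.R (el ((t : K) ^ n)) i j = C.R (el 1) ((π ^ n) i) ((π ^ n) j) := by
      intro n
      induction n with
      | zero => intro i j; simp
      | succ n ih =>
        intro i j
        rw [hπ (el ((t : K) ^ n)) (el ((t : K) ^ (n + 1))) (by show _ = E.J (U _); rw [hy, pow_succ']) i j, ih,
          pow_succ, Equiv.Perm.mul_apply, Equiv.Perm.mul_apply]
    have h6 : π ^ 6 = 1 := by
      have h := pow_card_eq_one (G := Equiv.Perm (Fin 3)) (x := π)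
      rwa [Fintype.card_perm, Fintype.card_fin, show Nat.factorial 3 = 6 from rfl] at h
    have heq : el ((t : K) ^ 6) = el 1 := C.inj _ _ fun i j => by rw [hit, h6]; rfl
    have h2 : t ^ 6 = 1 := Units.ext (by rw [Units.val_pow_eq_pow_val, helinj heq, Units.val_one])
    have := ht ▸ orderOf_dvd_of_pow_eq_one h2
    norm_num at this

end Cfsg.Lib.MitchellThree.Two
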