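import Cfsg.Agent.MitchellThree.FourCentral
import Cfsg.Agent.Components.UThreeFour.UnitarySide

/-!
A Sylow 2-subgroup of `PSU₃(4)` has a central four-group and is not abelian, hence does not occur in the
three-dimensional projective linear group over a field of odd order.
-/

set_option autoImplicit false
set_option linter.unusedSectionVars false

namespace Cfsg.Lib.MitchellThree

open Subgroup

universe u v

variable {F : Type v} [Field F] [Fintype F]

/-- A two-subgroup with a central four-group and two non-commuting elements. -/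
theorem psu_four_data (hF : Fintype.card F = 16) :
    ∃ (U : Subgroup (Cfsg.PSU 3 F 4)) (a b x x' : U), IsPGroup 2 U ∧ a ^ 2 = 1 ∧ b ^ 2 = 1 ∧ a ≠ 1 ∧ b ≠ 1 ∧
      a ≠ b ∧ Commute a b ∧ Commute a x ∧ Commute a x' ∧ Commute b x ∧ Commute b x' ∧ ¬ Commute x x' := by
  classical
  open Cfsg.Lib.UThreeFour in
  let W : Subgroup (Cfsg.SU 3 F 4) :=
    { carrier := {y | ∃ c z, IsU y c z}
      one_mem' := ⟨0, 0, isU_one⟩
      mul_mem' := fun ⟨c, z, h⟩ ⟨c', z', h'⟩ => ⟨_, _, h.mul hF h'⟩
      inv_mem' := fun ⟨c, z, h⟩ => ⟨_, _, h.inv hF⟩ }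
  have h2 := two_eq hF
  have hW : IsPGroup 2 W := by
    rintro ⟨y, c, z, h⟩
    refine ⟨2, Subtype.ext ?_⟩
    show y ^ (2 + 2) = 1
    rw [pow_add, pow_two]
    exact ((h.mul hF h).mul hF (h.mul hF h)).ext isU_one (by linear_combination (2 * c) * h2)
      (by rw [add4 hF]; linear_combination (2 * z + c * c ^ 4 + 2 * c * c ^ 4) * h2)
  obtain ⟨g, hg⟩ := IsCyclic.exists_ofOrder_eq_natCard (α := Fˣ)
  rw [Nat.card_eq_fintype_card, Fintype.card_units, hF, show 16 - 1 = 15 by norm_num] at hg
  have hpow : ∀ n, 0 < n → n < 15 → (g : F) ^ n ≠ 1 := fun n h0 hn e => by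
    have := Nat.le_of_dvd h0 (hg ▸ orderOf_dvd_of_pow_eq_one
      (Units.ext (by rw [Units.val_pow_eq_pow_val, e, Units.val_one]) : g ^ n = 1))
    omega
  have h15 : (g : F) ^ 15 = 1 := by rw [← Units.val_pow_eq_pow_val, ← hg, pow_orderOf_eq_one, Units.val_one]
  have hg0 : (g : F) ≠ 0 := g.ne_zero
  set w : F := (g : F) ^ 5 with hw
  have hw4 : w ^ 4 = w := by rw [hw, ← pow_mul, show 5 * 4 = 15 + 5 by norm_num, pow_add, h15, one_mul]
  have hg4 : (g : F) ^ 4 ≠ g := fun e =>
    hpow 3 (by norm_num) (by norm_num) (mul_right_cancel₀ hg0 (by rw [one_mul, ← pow_succ, e]))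
  set t : F := (g : F) ^ 4 + g with ht
  have ht0 : t ≠ 0 := fun e => hg4 (by linear_combination e - (g : F) * h2)
  have ht4 : t ^ 4 = t := by
    rw [ht, add4 hF, ← pow_mul, show 4 * 4 = 15 + 1 by norm_num, pow_add, h15]; ring
  have hsol : ∀ r : F, r ^ 4 = r → ∃ z, z ^ 4 + z = r := fun r hr => by
    refine ⟨r / t * g, ?_⟩
    rw [mul_pow, div_pow, hr, ht4, ← mul_add, ← ht, div_mul_cancel₀ r ht0]
  obtain ⟨z₁, hz₁⟩ := hsol 1 (one_pow 4)
  obtain ⟨z₂, hz₂⟩ := hsol w hw4
  obtain ⟨x, hx⟩ := exists_isU hF (c := 1) (z := z₁) (by rw [hz₁, one_pow])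
  obtain ⟨x', hx'⟩ := exists_isU hF (c := (g : F)) (z := z₂) hz₂
  obtain ⟨a, ha⟩ := exists_isU hF (c := 0) (z := 1) (by linear_combination h2)
  obtain ⟨b, hb⟩ := exists_isU hF (c := 0) (z := w) (by linear_combination hw4 + w * h2)
  have hcen : ∀ {y y' : Cfsg.SU 3 F 4} {z c' z' : F}, IsU y 0 z → IsU y' c' z' → Commute y y' := fun h h' =>
    (h.mul hF h').ext (h'.mul hF h) (by ring) (by ring)
  have hsq : ∀ {y : Cfsg.SU 3 F 4} {z : F}, IsU y 0 z → y ^ 2 = 1 := fun {y z} h => by
    rw [pow_two]
    exact (h.mul hF h).ext isU_one (by ring) (by linear_combination z * h2)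
  let π : Cfsg.SU 3 F 4 →* Cfsg.PSU 3 F 4 := QuotientGroup.mk' (Subgroup.center (Cfsg.SU 3 F 4))
  have hπ : Function.Injective π := by
    rw [← MonoidHom.ker_eq_bot_iff, QuotientGroup.ker_mk', center_eq_bot hF]
  let e := (W.equivMapOfInjective π hπ)
  refine ⟨W.map π, e ⟨a, _, _, ha⟩, e ⟨b, _, _, hb⟩, e ⟨x, _, _, hx⟩, e ⟨x', _, _, hx'⟩, hW.map π, ?_⟩
  simp only [← map_pow, map_eq_one_iff e e.injective, e.injective.eq_iff, Ne, Commute, SemiconjBy, ← map_mul]
  refine ⟨Subtype.ext (hsq ha), Subtype.ext (hsq hb),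
    ?_, ?_, ?_,
    Subtype.ext (hcen ha hb), Subtype.ext (hcen ha hx), Subtype.ext (hcen ha hx'), Subtype.ext (hcen hb hx),
    Subtype.ext (hcen hb hx'), fun e => ?_⟩
  · intro e
    have e' : a = 1 := congrArg Subtype.val e
    subst e'
    exact one_ne_zero (ha.coord isU_one).2
  · intro e
    have e' : b = 1 := congrArg Subtype.val e
    subst e'
    exact pow_ne_zero 5 hg0 (hb.coord isU_one).2
  · intro e
    have e' : a = b := congrArg Subtype.val e
    subst e'
    exact hpow 5 (by norm_num) (by norm_num) (ha.coord hb).2.symm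
  · refine hg4 ?_
    have e' : x * x' = x' * x := congrArg Subtype.val e
    have := ((hx.mul hF hx').coord (e' ▸ hx'.mul hF hx)).2
    linear_combination this

variable {E : Type u} [Field E] [Finite E]

/-- No subgroup of the projective linear group has the Sylow 2-subgroup of `PSU₃(4)`. -/
theorem no_unitary_four (h2 : (2 : E) ≠ 0) (hF : Fintype.card F = 16) (P : Sylow 2 (Cfsg.PSU 3 F 4))
    (f : (P : Subgroup (Cfsg.PSU 3 F 4)) →* PG E) (hf : Function.Injective f) : False := by
  classical
  haveI : Fact (Nat.Prime 2) := ⟨Nat.prime_two⟩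
  obtain ⟨U, a, b, x, x', hU, ha2, hb2, ha1, hb1, hne, hab, hax, hax', hbx, hbx', hxx⟩ := psu_four_data hF
  obtain ⟨Q, hUQ⟩ := hU.exists_le_sylow
  let φ : U →* PG E := f.comp ((Sylow.equiv Q P).toMonoidHom.comp (Subgroup.inclusion hUQ))
  have hφ : Function.Injective φ :=
    hf.comp ((Sylow.equiv Q P).injective.comp (Subgroup.inclusion_injective hUQ))
  set V : Subgroup (PG E) := closure {φ a, φ b} with hV
  have hgen : ∀ p ∈ ({φ a, φ b} : Set (PG E)), ∀ q ∈ ({φ a, φ b} : Set (PG E)), p * q = q * p := by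
    rintro p (rfl | rfl) q (rfl | rfl)
    · rfl
    · exact (hab.map φ).eq
    · exact (hab.map φ).eq.symm
    · rfl
  haveI := Subgroup.isMulCommutative_closure hgen
  have hVab : ∀ p ∈ V, ∀ q ∈ V, p * q = q * p := fun p hp q hq =>
    congrArg Subtype.val (mul_comm' (⟨p, hp⟩ : V) ⟨q, hq⟩)
  have hVexp : ∀ p ∈ V, p ^ 2 = 1 := by
    intro p hp
    induction hp using closure_induction with
    | mem p hp =>
      rcases hp with rfl | rfl
      · rw [← map_pow, ha2, map_one]
      · rw [← map_pow, hb2, map_one]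
    | one => exact one_pow 2
    | mul p q hp hq e e' => rw [Commute.mul_pow (hVab p hp q hq), e, e', one_mul]
    | inv p _ e => rw [inv_pow, e, inv_one]
  have haV : φ a ∈ V := subset_closure (Or.inl rfl)
  have hbV : φ b ∈ V := subset_closure (Or.inr rfl)
  have hcard : Nat.card V = 4 := by
    refine le_antisymm (card_le_sq Nat.prime_two (by exact_mod_cast h2) V hVab hVexp) ?_
    let f4 : Fin 4 → V := ![1, ⟨_, haV⟩, ⟨_, hbV⟩, ⟨_, V.mul_mem haV hbV⟩]
    have hab1 : a * b ≠ 1 := fun e => hne (by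
      rw [eq_inv_of_mul_eq_one_left e]
      exact inv_eq_of_mul_eq_one_right (by rw [← pow_two, hb2]))
    have h4 : Function.Injective f4 := by
      intro i j e
      have e' : φ (![1, a, b, a * b] i) = φ (![1, a, b, a * b] j) := by
        have := congrArg Subtype.val e
        fin_cases i <;> fin_cases j <;> simpa [f4] using this
      have e'' := hφ e'
      fin_cases i <;> fin_cases j <;> simp at e'' <;> first
        | rfl
        | exact absurd e'' ha1
        | exact absurd e''.symm ha1
        | exact absurd e'' hb1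
        | exact absurd e''.symm hb1
        | exact absurd e'' hne
        | exact absurd e''.symm hne
        | exact absurd e'' hab1
        | exact absurd e''.symm hab1
    simpa using Nat.card_le_card_of_injective f4 h4
  have hcent : ∀ y : U, Commute a y → Commute b y → ∀ p ∈ V, φ y * p = p * φ y := by
    intro y hay hby p hp
    induction hp using closure_induction with
    | mem p hp =>
      rcases hp with rfl | rfl
      · exact ((hay.map φ).symm).eq
      · exact ((hby.map φ).symm).eq
    | one => simp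
    | mul p q _ _ e e' => exact (Commute.mul_right (show Commute (φ y) p from e) e').eq
    | inv p _ e => exact (Commute.inv_right (show Commute (φ y) p from e)).eq
  exact hxx (hφ (by
    rw [map_mul, map_mul]
    exact commute_of_centralize_four h2 V hVab hVexp hcard (hcent x hax hbx) (hcent x' hax' hbx')))

end Cfsg.Lib.MitchellThree
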