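import Cfsg.Agent.MitchellThree.Dihedral
import Cfsg.Agent.S2119

/-!
A subgroup of the three-dimensional projective linear group whose socle is the alternating group of degree seven:
the characteristic is five, the field has square order and the group is the alternating group itself.
-/

set_option autoImplicit false
set_option linter.unusedSectionVars false

namespace Cfsg.Lib.MitchellThree

open Cfsg.Geo Equiv
open scoped MatrixGroups

universe u v

variable {F : Type u} [Field F] [Finite F]

/-- A five-cycle on seven points. -/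
def fiveCycle : Perm (Fin 7) := ⟨![1, 2, 3, 4, 0, 5, 6], ![4, 0, 1, 2, 3, 5, 6], by decide, by decide⟩

/-- An even permutation squaring it. -/
def fiveTwist : Perm (Fin 7) := ⟨![0, 2, 4, 1, 3, 6, 5], ![0, 3, 1, 4, 2, 6, 5], by decide, by decide⟩

/-- A seven-cycle. -/
def sevenCycle : Perm (Fin 7) := ⟨fun i => i + 1, fun i => i + 6, by decide, by decide⟩

/-- A permutation cubing it. -/
def sevenTwist : Perm (Fin 7) := ⟨fun i => 3 * i, fun i => 5 * i, by decide, by decide⟩

theorem no_act_of_mod {x : PG F} {n k : ℕ} (hx : orderOf x = n) (hn : (n : F) ≠ 0) (h : Act x k)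
    (h2 : k * k % n ≠ 1 % n) (h3 : k * k * k % n ≠ 1 % n) : False := by
  rcases sq_or_cube (by rw [hx]; exact hn) h with e | e
  · exact h2 (Two.mod_eq_of_pow_eq hx (e.trans (pow_one x).symm))
  · exact h3 (Two.mod_eq_of_pow_eq hx (e.trans (pow_one x).symm))

/-- The inclusion of the alternating group of degree six. -/
noncomputable def sixInSeven : alternatingGroup (Fin 6) →* alternatingGroup (Fin 7) :=
  ((Perm.viaEmbeddingHom (Fin.castSuccEmb : Fin 6 ↪ Fin 7)).comp (alternatingGroup (Fin 6)).subtype).codRestrict _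
    fun g => by
      rw [Perm.mem_alternatingGroup]
      show Perm.sign (Perm.viaEmbedding g.1 _) = 1
      classical
      rw [Perm.viaEmbedding, Perm.sign_extendDomain]
      exact Perm.mem_alternatingGroup.1 g.2

theorem sixInSeven_injective : Function.Injective sixInSeven := fun _ _ h =>
  Subtype.ext (Perm.viaEmbeddingHom_injective _ (congrArg Subtype.val h :))

/-- The alternating group of degree seven as socle. -/
theorem small_of_alt_seven {p α : ℕ} [hp : Fact p.Prime] [CharP F p] (hp2 : p ≠ 2)
    (hF : Nat.card F = p ^ α) {H : Type v} [Group H] (ι : H →* PG F) (hι : Function.Injective ι)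
    (L : Subgroup H) [L.Normal] (hC : Subgroup.centralizer (L : Set H) = ⊥)
    (e : L ≃* alternatingGroup (Fin 7)) : Small p α H := by
  classical
  let φ : alternatingGroup (Fin 7) →* PG F := ι.comp (L.subtype.comp e.symm.toMonoidHom)
  have hφ : Function.Injective φ := hι.comp (Subtype.val_injective.comp e.symm.injective)
  have hp5 : p = 5 := by
    by_contra hne
    have h5 : ((5 : ℕ) : F) ≠ 0 :=
      Two.natCast_ne_zero_of_lt p fun h => hne ((Nat.prime_dvd_prime_iff_eq hp.out (by norm_num)).1 h)
    let c : alternatingGroup (Fin 7) := ⟨fiveCycle, Perm.mem_alternatingGroup.2 (by decide)⟩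
    let k : alternatingGroup (Fin 7) := ⟨fiveTwist, Perm.mem_alternatingGroup.2 (by decide)⟩
    have hord : orderOf (φ c) = 5 := by
      rw [orderOf_injective φ hφ, ← Subgroup.orderOf_coe]
      haveI : Fact (Nat.Prime 5) := ⟨by norm_num⟩
      exact orderOf_eq_prime (show fiveCycle ^ 5 = 1 by decide) (show fiveCycle ≠ 1 by decide)
    refine no_act_of_mod hord h5 (k := 2) (Or.inl ⟨φ k, ?_⟩) (by norm_num) (by norm_num)
    rw [← map_inv, ← map_mul, ← map_mul, ← map_pow]
    exact congrArg φ (Subtype.ext (show fiveTwist * fiveCycle * fiveTwist⁻¹ = fiveCycle ^ 2 by decide))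
  subst hp5
  have h7 : ((7 : ℕ) : F) ≠ 0 := Two.natCast_ne_zero_of_lt 5 (by norm_num)
  have hev : Even α := by
    haveI : Fact (Nat.Prime 3) := ⟨by norm_num⟩
    let K := GaloisField 3 2
    haveI : Fintype K := Fintype.ofFinite K
    have hK : Fintype.card K = 9 := by
      rw [← Nat.card_eq_fintype_card, GaloisField.card 3 2 (by norm_num)]; norm_num
    obtain ⟨e6⟩ := Cfsg.Lib.Classical.PSLNine.psl_nine hK
    let E : Two.Emb K F :=
      { A := (MulAut.conj : Matrix.ProjectiveSpecialLinearGroup (Fin 2) K →* _).range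
        inn := fun x => ⟨x, rfl⟩
        f := φ.comp (sixInSeven.comp (e6.toMonoidHom.comp (MonoidHom.ofInjective Two.conj_injective).symm.toMonoidHom))
        inj := hφ.comp (sixInSeven_injective.comp (e6.injective.comp (MulEquiv.injective _)))
        odd := by rw [hK]; decide
        three_lt := by rw [hK]; norm_num }
    obtain ⟨hq, -⟩ := E.nine hK (by exact_mod_cast Two.natCast_ne_zero_of_lt (F := F) 5 (show ¬ 5 ∣ 3 by norm_num))
    rw [hF] at hq
    rcases Nat.even_or_odd α with h | ⟨k, rfl⟩
    · exact h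
    · exfalso
      rw [pow_succ, pow_mul, Nat.mul_mod, Nat.pow_mod] at hq
      norm_num at hq
  let σ : MulAut (alternatingGroup (Fin 7)) ≃* Perm (Fin 7) :=
    (MulEquiv.ofBijective _ (Cfsg.Agent.S2119.result 7 (by norm_num) (by norm_num))).symm
  let ψ : H →* Perm (Fin 7) := σ.toMonoidHom.comp ((MulAut.congr e).toMonoidHom.comp MulAut.conjNormal)
  have hψ : Function.Injective ψ :=
    σ.injective.comp ((MulAut.congr e).injective.comp (conjNormal_injective hC))
  have hval : ∀ a : alternatingGroup (Fin 7), ψ (e.symm a) = a := by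
    intro a
    refine σ.apply_eq_iff_eq_symm_apply.2 (MulEquiv.ext fun y => Subtype.ext ?_)
    show ((e (MulAut.conjNormal ((e.symm a : L) : H) (e.symm y)) : alternatingGroup (Fin 7)) : Perm (Fin 7)) =
      (MulAut.conjNormal (a : Perm (Fin 7)) y : alternatingGroup (Fin 7))
    rw [show MulAut.conjNormal ((e.symm a : L) : H) (e.symm y) = e.symm a * e.symm y * (e.symm a)⁻¹ from
      Subtype.ext (MulAut.conjNormal_apply _ _), MulAut.conjNormal_apply]
    simp
  have heven : ∀ h, Perm.sign (ψ h) = 1 := by
    intro g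
    by_contra hg
    have hsurj : ∀ τ : Perm (Fin 7), ∃ h, ψ h = τ := by
      intro τ
      by_cases hτ : Perm.sign τ = 1
      · exact ⟨_, hval ⟨τ, Perm.mem_alternatingGroup.2 hτ⟩⟩
      · refine ⟨(e.symm ⟨τ * (ψ g)⁻¹, Perm.mem_alternatingGroup.2 ?_⟩ : H) * g, ?_⟩
        · rw [map_mul, map_inv, (Int.units_eq_one_or _).resolve_left hτ, (Int.units_eq_one_or _).resolve_left hg]
          rfl
        · rw [map_mul, hval]
          exact inv_mul_cancel_right τ (ψ g)
    obtain ⟨c, hc⟩ := hsurj sevenCycle
    obtain ⟨k, hk⟩ := hsurj sevenTwist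
    have hord : orderOf (ι c) = 7 := by
      rw [orderOf_injective ι hι, ← orderOf_injective ψ hψ, hc]
      haveI : Fact (Nat.Prime 7) := ⟨by norm_num⟩
      exact orderOf_eq_prime (by decide) (by decide)
    refine no_act_of_mod hord h7 (k := 3) (Or.inl ⟨ι k, ?_⟩) (by norm_num) (by norm_num)
    rw [← map_inv, ← map_mul, ← map_mul, ← map_pow]
    refine congrArg ι (hψ ?_)
    rw [map_mul, map_mul, map_inv, map_pow, hk, hc]
    decide
  let ψ' : H →* alternatingGroup (Fin 7) := ψ.codRestrict _ fun h => Perm.mem_alternatingGroup.2 (heven h)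
  have hbij : Function.Bijective ψ' :=
    ⟨fun _ _ h => hψ (congrArg Subtype.val h), fun a => ⟨_, Subtype.ext (hval a)⟩⟩
  exact Or.inr (Or.inr (Or.inr (Or.inl ⟨rfl, hev, Or.inr (Or.inl ⟨MulEquiv.ofBijective ψ' hbij⟩)⟩)))

end Cfsg.Lib.MitchellThree
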