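import Cfsg.Agent.MinNonCA.Basic
import Cfsg.Agent.Coprime.Hall
import Cfsg.Agent.OddChar.PF.OddOrder
import Cfsg.Agent.S0225
import Cfsg.Prelude.Def_CaseTheorems

/-!
A group of 2-rank at most two without normal solvable subgroups has a simple socle with trivial centralizer.
-/

set_option autoImplicit false
set_option linter.unusedSectionVars false

namespace Cfsg.Lib.MitchellThree

open Subgroup

universe v

variable {G : Type v} [Group G] [Finite G]

/-- No non-trivial solvable normal subgroup. -/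
def NoSol (G : Type v) [Group G] : Prop := ∀ N : Subgroup G, N.Normal → Group.IsSolvable N → N = ⊥

theorem noSol_of_noElab (hN : ∀ N : Subgroup G, N.Normal → IsMulCommutative ↥N →
    (∃ r : ℕ, r.Prime ∧ ∀ x ∈ N, x ^ r = 1) → N = ⊥) : NoSol G := by
  intro N hNn hsol
  by_contra hne
  obtain ⟨M, hMN, hMn, hMb, hmin⟩ := Cfsg.Lib.Coprime.exists_minimal_normal hNn hne
  haveI := hsol
  have hMsol : Group.IsSolvable M :=
    Group.isSolvable_of_isSolvable_injective (f := Subgroup.inclusion hMN) (Subgroup.inclusion_injective hMN)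
  obtain ⟨hc, r, hr, -, hpow⟩ := Cfsg.Lib.Coprime.minimal_normal_solvable hMsol hMb hmin
  exact hMb (hN M hMn hc ⟨r, hr, hpow⟩)

/-- The condition passes to normal subgroups. -/
theorem NoSol.normal (hG : NoSol G) (L : Subgroup G) [L.Normal] : NoSol L := by
  intro N hNn hsol
  haveI : Nonempty {K : Subgroup L // K.Normal ∧ Group.IsSolvable K} := ⟨⟨N, hNn, hsol⟩⟩
  obtain ⟨⟨R, hR, hRs⟩, hmax⟩ := Finite.exists_max
    fun K : {K : Subgroup L // K.Normal ∧ Group.IsSolvable K} => Nat.card K.1
  haveI := hR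
  have hle : ∀ K : Subgroup L, K.Normal → Group.IsSolvable K → K ≤ R := fun K hK hKs => by
    haveI := hK
    have h := hmax ⟨R ⊔ K, inferInstance, Cfsg.Lib.MinNonCA.solvable_sup hRs hKs⟩
    exact (eq_of_le_of_card_ge (le_sup_left : R ≤ R ⊔ K) h).symm ▸ le_sup_right
  haveI : R.Characteristic := characteristic_iff_map_le.2 fun φ => by
    haveI := hRs
    exact hle _ (hR.map _ φ.surjective)
      (Group.isSolvable_of_surjective (f := (R.equivMapOfInjective φ.toMonoidHom φ.injective).toMonoidHom) (MulEquiv.surjective _))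
  haveI := hRs
  have hb := hG (R.map L.subtype) inferInstance
    (Group.isSolvable_of_surjective (f := (R.equivMapOfInjective L.subtype L.subtype_injective).toMonoidHom) (MulEquiv.surjective _))
  rw [map_eq_bot_iff_of_injective _ L.subtype_injective] at hb
  exact le_bot_iff.1 (hb ▸ hle N hNn hsol)

theorem solvable_of_le_center {N : Subgroup G} (h : N ≤ center G) : Group.IsSolvable N :=
  Group.isSolvable_of_comm fun a b => Subtype.ext (mem_center_iff.1 (h b.2) a)

theorem NoSol.center_eq_bot (hG : NoSol G) : center G = ⊥ :=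
  hG _ inferInstance (solvable_of_le_center le_rfl)

theorem NoSol.exists_involution (hG : NoSol G) [Nontrivial G] : ∃ x : G, orderOf x = 2 := by
  haveI : Fact (Nat.Prime 2) := ⟨Nat.prime_two⟩
  refine exists_prime_orderOf_dvd_card' 2 ?_
  by_contra h2
  refine top_ne_bot (hG ⊤ inferInstance (Cfsg.Agent.PF.isSolvable_of_odd _ ?_))
  rw [Subgroup.card_top]
  exact Nat.not_even_iff_odd.1 fun he => h2 he.two_dvd

theorem NoSol.exists_klein (hG : NoSol G) [Nontrivial G] : ∃ E : Subgroup G, IsKleinFour E := by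
  by_contra hno
  push Not at hno
  obtain ⟨x, hx⟩ := hG.exists_involution
  obtain ⟨z, hz, N, hNn, hNodd, hcom⟩ := Cfsg.Agent.S0225.result
    (even_iff_two_dvd.2 (hx ▸ _root_.orderOf_dvd_natCard x)) hno
  have hNb := hG N hNn (Cfsg.Agent.PF.isSolvable_of_odd _ hNodd)
  have hzc : z ∈ center G := mem_center_iff.2 fun g => by
    have h1 := hcom g
    rw [hNb, mem_bot, mul_inv_eq_one, mul_inv_eq_iff_eq_mul] at h1
    exact h1.symm
  rw [hG.center_eq_bot, mem_bot] at hzc
  rw [hzc, orderOf_one] at hz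
  omega

theorem rankLE_of_injective {p k : ℕ} {H : Type*} [Group H] (f : G →* H) (hf : Function.Injective f)
    (h : Cfsg.PRankLE p k H) : Cfsg.PRankLE p k G := by
  intro A hA hexp
  haveI := hA
  rw [Nat.card_congr (A.equivMapOfInjective f hf).toEquiv]
  refine h _ ⟨⟨fun a b => ?_⟩⟩ ?_
  · obtain ⟨x, hx, hxa⟩ := a.2
    obtain ⟨y, hy, hyb⟩ := b.2
    refine Subtype.ext ?_
    show (a : H) * b = b * a
    rw [← hxa, ← hyb, ← map_mul, ← map_mul]
    exact congrArg f (congrArg Subtype.val (mul_comm' (⟨x, hx⟩ : A) ⟨y, hy⟩))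
  · rintro _ ⟨x, hx, rfl⟩
    rw [← map_pow, hexp x hx, map_one]

/-- A normal subgroup has trivial centralizer. -/
theorem NoSol.centralizer_eq_bot (hG : NoSol G) (h2 : Cfsg.PRankLE 2 2 G) (N : Subgroup G) [N.Normal]
    (hN : N ≠ ⊥) : centralizer (N : Set G) = ⊥ := by
  by_contra hC
  haveI : Nontrivial N := (nontrivial_iff_ne_bot N).2 hN
  haveI : Nontrivial (centralizer (N : Set G)) := (nontrivial_iff_ne_bot _).2 hC
  obtain ⟨E, hE⟩ := (hG.normal N).exists_klein
  obtain ⟨⟨y, hyC⟩, hy2⟩ := (hG.normal (centralizer (N : Set G))).exists_involution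
  rw [Subgroup.orderOf_mk] at hy2
  haveI := hE
  set E' : Subgroup G := E.map N.subtype with hE'
  have hEN : E' ≤ N := map_subtype_le E
  have hyN : y ∉ N := fun h => by
    have hmem : (⟨y, h⟩ : N) ∈ center N :=
      mem_center_iff.2 fun n => Subtype.ext (mem_centralizer_iff.1 hyC n n.2)
    rw [(hG.normal N).center_eq_bot, mem_bot, Subtype.ext_iff] at hmem
    rw [show y = 1 from hmem, orderOf_one] at hy2
    omega
  have hEel : ∀ e ∈ E', e * e = 1 := by
    rintro _ ⟨e, he, rfl⟩
    show (e : G) * e = 1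
    exact congrArg (fun a : N => (a : G)) (congrArg Subtype.val (IsKleinFour.mul_self (⟨e, he⟩ : E)))
  have hyy : y * y = 1 := by rw [← pow_two, ← hy2, pow_orderOf_eq_one]
  have hEc : ∀ a ∈ E', ∀ b ∈ E', a * b = b * a := fun a ha b hb => by
    have h := hEel _ (E'.mul_mem ha hb)
    calc a * b = (a * b)⁻¹ := (inv_eq_of_mul_eq_one_right h).symm
      _ = b⁻¹ * a⁻¹ := mul_inv_rev a b
      _ = b * a := by rw [inv_eq_of_mul_eq_one_right (hEel b hb), inv_eq_of_mul_eq_one_right (hEel a ha)]
  have hyc : ∀ a ∈ E', a * y = y * a := fun a ha => mem_centralizer_iff.1 hyC a (hEN ha)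
  set A := closure ((E' : Set G) ∪ {y}) with hA
  have hAcomm : ∀ a ∈ (E' : Set G) ∪ {y}, ∀ b ∈ (E' : Set G) ∪ {y}, a * b = b * a := by
    rintro a (ha | ha) b (hb | hb)
    · exact hEc a ha b hb
    · rw [Set.mem_singleton_iff.1 hb]; exact hyc a ha
    · rw [Set.mem_singleton_iff.1 ha]; exact (hyc b hb).symm
    · rw [Set.mem_singleton_iff.1 ha, Set.mem_singleton_iff.1 hb]
  haveI := Subgroup.isMulCommutative_closure hAcomm
  have hexp : ∀ a ∈ A, a ^ 2 = 1 := by
    intro a ha
    induction ha using closure_induction with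
    | mem x hx =>
      rcases hx with hx | hx
      · rw [pow_two]; exact hEel x hx
      · rw [Set.mem_singleton_iff.1 hx, pow_two]; exact hyy
    | one => exact one_pow 2
    | mul x x' hx hx' e e' =>
      rw [Commute.mul_pow (congrArg Subtype.val (mul_comm' (⟨x, hx⟩ : A) ⟨x', hx'⟩) : x * x' = x' * x), e, e', one_mul]
    | inv x _ e => rw [inv_pow, e, inv_one]
  have hlt : E' < A := lt_of_le_of_ne (fun e he => subset_closure (Or.inl he)) fun e =>
    hyN (hEN (e ▸ subset_closure (Or.inr rfl)))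
  have hcE : Nat.card E' = 4 := by
    rw [hE', card_map_of_injective N.subtype_injective, IsKleinFour.card_four]
  have hle : Nat.card A ≤ Nat.card E' := by rw [hcE]; exact h2 A inferInstance hexp
  exact hlt.ne (eq_of_le_of_card_ge hlt.le hle)

/-- The socle. -/
theorem NoSol.exists_socle (hG : NoSol G) (h2 : Cfsg.PRankLE 2 2 G) [Nontrivial G] :
    ∃ L : Subgroup G, L.Normal ∧ IsSimpleGroup L ∧ ¬ IsMulCommutative L ∧ centralizer (L : Set G) = ⊥ := by
  obtain ⟨L, -, hLn, hLb, hmin⟩ :=
    Cfsg.Lib.Coprime.exists_minimal_normal (K := (⊤ : Subgroup G)) inferInstance top_ne_bot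
  haveI := hLn
  haveI : Nontrivial L := (nontrivial_iff_ne_bot L).2 hLb
  have hL := hG.normal L
  have hL2 : Cfsg.PRankLE 2 2 L := rankLE_of_injective L.subtype L.subtype_injective h2
  obtain ⟨N, -, hNn, hNb, hNmin⟩ :=
    Cfsg.Lib.Coprime.exists_minimal_normal (K := (⊤ : Subgroup L)) inferInstance top_ne_bot
  haveI := hNn
  have hle : ∀ K : Subgroup L, K.Normal → K ≠ ⊥ → N ≤ K := fun K hK hKb => by
    haveI := hK
    rcases hNmin (N ⊓ K) inferInstance inf_le_left with e | e
    · refine absurd (eq_bot_iff.2 ?_) hKb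
      rw [← hL.centralizer_eq_bot hL2 N hNb]
      intro k hk
      exact mem_centralizer_iff.2 fun n hn =>
        (commute_of_normal_of_disjoint N K hNn hK (disjoint_iff.2 e) n k hn hk).eq
    · exact e ▸ inf_le_right
  haveI : N.Characteristic := characteristic_iff_le_map.2 fun φ =>
    hle _ (hNn.map _ φ.surjective) fun e => hNb ((map_eq_bot_iff_of_injective _ φ.injective).1 e)
  have hNtop : N = ⊤ := by
    have hn : (N.map L.subtype).Normal := inferInstance
    have he := (hmin _ hn (map_subtype_le _)).resolve_left fun e =>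
      hNb ((map_eq_bot_iff_of_injective _ L.subtype_injective).1 e)
    exact eq_top_iff.2 fun m _ => (mem_map_iff_mem L.subtype_injective).1 (he.symm ▸ m.2)
  refine ⟨L, hLn, ⟨fun K hK => or_iff_not_imp_left.2 fun hKb => top_le_iff.1 (hNtop ▸ hle K hK hKb)⟩, ?_,
    hG.centralizer_eq_bot h2 L hLb⟩
  intro hc
  exact top_ne_bot (α := Subgroup L)
    (hL ⊤ inferInstance (Group.isSolvable_of_comm fun a b => Subtype.ext (hc.is_comm.comm (a : L) b)))

end Cfsg.Lib.MitchellThree
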