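import Cfsg.Agent.MitchellThree.Seven
import Cfsg.Agent.MitchellThree.Socle
import Cfsg.Agent.MitchellThree.NoUnitaryFour
import Cfsg.Agent.S0483
import Cfsg.Agent.S0516

/-!
The socle of a subgroup of the three-dimensional projective linear group over a field of odd order without normal
solvable subgroups: either the two-dimensional and alternating outcomes hold, or the socle has quasi-dihedral or
wreathed Sylow 2-subgroups.
-/

set_option autoImplicit false
set_option linter.unusedSectionVars false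

namespace Cfsg.Lib.MitchellThree

open Subgroup
open scoped commutatorElement

universe u v

variable {F : Type u} [Field F] [Finite F]

theorem rankLE_PG (h2 : (2 : F) ≠ 0) : Cfsg.PRankLE 2 2 (PG F) := fun A hA hexp => by
  haveI := hA
  exact (card_le_sq Nat.prime_two (by exact_mod_cast h2) A
    (fun a ha b hb => congrArg Subtype.val (mul_comm' (⟨a, ha⟩ : A) ⟨b, hb⟩)) hexp).trans (by norm_num)

theorem perfect_of_simple {L : Type v} [Group L] [IsSimpleGroup L] (hL : ¬ IsMulCommutative L) :
    Group.IsPerfect L := by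
  rw [Group.isPerfect_def]
  refine (commutator L).normal_of_characteristic.eq_bot_or_eq_top.resolve_left fun e => hL ⟨⟨fun a b => ?_⟩⟩
  have h : ⁅a, b⁆ ∈ commutator L := commutator_mem_commutator (mem_top a) (mem_top b)
  rw [e, mem_bot, commutatorElement_eq_one_iff_mul_comm] at h
  exact h

theorem oddCore_eq_bot {L : Type v} [Group L] [Finite L] [IsSimpleGroup L] (hL : ¬ IsMulCommutative L) :
    Cfsg.oddCore L = ⊥ := by
  haveI : (Cfsg.oddCore L).Normal := (Cfsg.Lib.Components.normal_of_mem_sSup_normal fun _ h => h.1)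
  refine (show (Cfsg.oddCore L).Normal from inferInstance).eq_bot_or_eq_top.resolve_right fun e => hL ?_
  have hodd : Odd (Nat.card L) := by
    rw [← Subgroup.card_top (G := L), ← e]
    exact Nat.coprime_two_right.1 (Cfsg.Lib.Components.coprime_card_pPrimeCore 2)
  haveI := Cfsg.Agent.PF.isSolvable_of_odd L hodd
  exact ⟨⟨IsSimpleGroup.comm_iff_isSolvable.2 inferInstance⟩⟩

/-- The socle and the split by the Sylow 2-subgroup. -/
theorem socle_cases {p α : ℕ} [Fact p.Prime] [CharP F p] (hp2 : p ≠ 2) (hF : Nat.card F = p ^ α) {H : Type v}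
    [Group H] [Finite H] [Nontrivial H] (ι : H →* PG F) (hι : Function.Injective ι) (hN : NoSol H) :
    Small p α H ∨ ∃ L : Subgroup H, L.Normal ∧ IsSimpleGroup L ∧ ¬ IsMulCommutative L ∧
      centralizer (L : Set H) = ⊥ ∧ ∃ S : Sylow 2 L, Cfsg.IsQuasiDihedral (S : Subgroup L) ∨
        Cfsg.IsWreathed (S : Subgroup L) := by
  classical
  have h2 : (2 : F) ≠ 0 := by
    exact_mod_cast Two.natCast_ne_zero_of_lt (F := F) p (n := 2) fun h =>
      hp2 ((Nat.prime_dvd_prime_iff_eq (Fact.out : p.Prime) Nat.prime_two).1 h)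
  have hrank : Cfsg.PRankLE 2 2 H := rankLE_of_injective ι hι (rankLE_PG h2)
  obtain ⟨L, hLn, hLs, hLc, hC⟩ := hN.exists_socle hrank
  haveI := hLn
  haveI := hLs
  obtain ⟨S⟩ := (inferInstance : Nonempty (Sylow 2 L))
  let K := GaloisField 2 4
  haveI : Fintype K := Fintype.ofFinite K
  have hK : Fintype.card K = 16 := by
    rw [← Nat.card_eq_fintype_card, GaloisField.card 2 4 (by norm_num)]; norm_num
  obtain ⟨P⟩ := (inferInstance : Nonempty (Sylow 2 (Cfsg.PSU 3 K 4)))
  rcases Cfsg.Agent.S0516.result hLc (rankLE_of_injective L.subtype L.subtype_injective hrank) S hK P with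
    ⟨n, hn, hd⟩ | hq | hw | ⟨⟨e⟩⟩
  · left
    haveI := perfect_of_simple hLc
    have hO : Cfsg.oddCore L = ⊥ := oddCore_eq_bot hLc
    let q : L ⧸ Cfsg.oddCore L ≃* L := (QuotientGroup.quotientMulEquivOfEq hO).trans QuotientGroup.quotientBot
    rcases Cfsg.Agent.S0483.result S n hn hd with ⟨K', iK, iK', hodd, h3, ⟨e⟩⟩ | ⟨⟨e⟩⟩
    · exact small_of_psl_two hp2 hF ι hι L hC hodd h3 (q.symm.trans e)
    · exact small_of_alt_seven hp2 hF ι hι L hC (q.symm.trans e)
  · exact Or.inr ⟨L, hLn, hLs, hLc, hC, S, Or.inl hq⟩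
  · exact Or.inr ⟨L, hLn, hLs, hLc, hC, S, Or.inr hw⟩
  · exact (no_unitary_four h2 hK P (ι.comp (L.subtype.comp ((S : Subgroup L).subtype.comp e.symm.toMonoidHom)))
      (hι.comp (L.subtype_injective.comp ((S : Subgroup L).subtype_injective.comp e.symm.injective)))).elim

end Cfsg.Lib.MitchellThree
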