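import Cfsg.Prelude.Def_GeometricClasses
import Cfsg.Agent.Classical.SLThree.SymDiag

/-!
Semisimple elements of the three-dimensional projective linear group over a finite field: the exponents induced
on a cyclic subgroup by its normaliser and by the Frobenius map act through commuting permutations of three
eigenvalues.
-/

set_option autoImplicit false
set_option linter.unusedSectionVars false

namespace Cfsg.Lib.MitchellThree

open Matrix Cfsg.Geo
open scoped MatrixGroups

universe u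

/-- The three-dimensional projective linear group. -/
abbrev PG (F : Type u) [Field F] := GL (Fin 3) F ⧸ scalars (Fin 3) F

variable {F : Type u} [Field F]

/-- An exponent induced by the normaliser or by the Frobenius map. -/
def Act (x : PG F) (k : ℕ) : Prop := (∃ y : PG F, y * x * y⁻¹ = x ^ k) ∨ k = Nat.card F

section eigen

variable {K : Type u} [Field K] {d : Fin 3 → K}

/-- The exponent permutes the eigenvalues up to a common factor. -/
def Adm (d : Fin 3 → K) (k : ℕ) : Prop := ∃ (c : K) (π : Equiv.Perm (Fin 3)), ∀ i, c * d i ^ k = d (π i)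

/-- Two exponents agree on the ratios. -/
def RatEq (d : Fin 3 → K) (k l : ℕ) : Prop := ∀ i j, (d i / d j) ^ k = (d i / d j) ^ l

theorem exists_perm {M : Matrix (Fin 3) (Fin 3) K} (h : M.det ≠ 0) :
    ∃ π : Equiv.Perm (Fin 3), ∀ i, M (π i) i ≠ 0 := by
  rw [Matrix.det_apply'] at h
  obtain ⟨π, -, hπ⟩ := Finset.exists_ne_zero_of_sum_ne_zero h
  exact ⟨π, fun i e => hπ (mul_eq_zero_of_right _ (Finset.prod_eq_zero (Finset.mem_univ i) e))⟩

theorem Adm.ratio {k : ℕ} {c : K} {π : Equiv.Perm (Fin 3)} (hd : ∀ i, d i ≠ 0)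
    (h : ∀ i, c * d i ^ k = d (π i)) (i j : Fin 3) : (d i / d j) ^ k = d (π i) / d (π j) := by
  have hc : c ≠ 0 := fun e => hd (π i) (by rw [← h i, e, zero_mul])
  rw [← h i, ← h j, mul_div_mul_left _ _ hc, div_pow]

theorem trans_cases (hd : ∀ i, d i ≠ 0) (h3 : ¬ RatEq d 3 0) (hinj : Function.Injective d)
    {τ : Equiv.Perm (Fin 3)} (h : ∀ i j, d (τ i) / d (τ j) = d i / d j) : τ = 1 := by
  set e := d (τ 0) / d 0 with he
  have he' : ∀ i, d (τ i) = e * d i := fun i => by
    have h1 := h i 0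
    rw [div_eq_div_iff (hd _) (hd _)] at h1
    rw [he, div_mul_eq_mul_div, eq_div_iff (hd 0), h1, mul_comm]
  by_cases h1 : e = 1
  · exact Equiv.ext fun i => hinj (by rw [he', h1, one_mul]; rfl)
  have hfix : ∀ i, τ i ≠ i := fun i e2 => h1 (by
    have h2 := he' i
    rw [e2] at h2
    exact mul_right_cancel₀ (hd i) (h2.symm.trans (one_mul _).symm))
  have h33 : ∀ i, τ (τ (τ i)) = i := by
    exact (by decide : ∀ τ : Equiv.Perm (Fin 3), (∀ i, τ i ≠ i) → ∀ i, τ (τ (τ i)) = i) τ hfix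
  have hcube : e ^ 3 = 1 := by
    have h2 := he' (τ (τ 0))
    rw [h33, he' (τ 0), he' 0] at h2
    exact mul_right_cancel₀ (hd 0) (by linear_combination -h2)
  exfalso
  refine h3 fun i j => ?_
  rw [pow_zero]
  have hij : ∀ i j, i = j ∨ i = τ j ∨ i = τ (τ j) := by
    exact (by decide : ∀ τ : Equiv.Perm (Fin 3), (∀ i, τ i ≠ i) → ∀ i j, i = j ∨ i = τ j ∨ i = τ (τ j)) τ hfix
  rcases hij i j with rfl | rfl | rfl
  · rw [div_self (hd _), one_pow]
  · rw [he', mul_div_assoc, div_self (hd _), mul_one, hcube]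
  · rw [he', he', ← mul_assoc, mul_div_assoc, div_self (hd _), mul_one, mul_pow, hcube, one_mul]

theorem ratEq_one_of_not_injective (hd : ∀ i, d i ≠ 0) {k : ℕ} (hk : Adm d k)
    (hinj : ¬ Function.Injective d) : RatEq d k 1 := by
  obtain ⟨c, π, h⟩ := hk
  obtain ⟨a, b, hab, hne⟩ : ∃ a b, d a = d b ∧ a ≠ b := by simpa [Function.Injective] using hinj
  have hπ : d (π a) = d (π b) := by rw [← h, ← h, hab]
  intro i j
  rw [Adm.ratio hd h, pow_one]
  have key : ∀ (π : Equiv.Perm (Fin 3)) (a b : Fin 3), a ≠ b →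
      ((π a = a ∧ π b = b) ∨ (π a = b ∧ π b = a)) ∧ (∀ i, i = a ∨ i = b ∨ π i = i) ∨
      (∀ i, i = a ∨ i = b ∨ (i = π a ∧ (π b = a ∨ π b = b)) ∨ (i = π b ∧ (π a = a ∨ π a = b))) := by decide
  have hval : ∀ i, d (π i) = d i := by
    rcases key π a b hne with ⟨h1, h2⟩ | h2
    · intro i
      rcases h2 i with rfl | rfl | e
      · rcases h1 with ⟨e1, -⟩ | ⟨e1, -⟩ <;> rw [e1]
        exact hab.symm
      · rcases h1 with ⟨-, e1⟩ | ⟨-, e1⟩ <;> rw [e1]
        exact hab
      · rw [e]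
    · have hall : ∀ i, d i = d a := by
        intro i
        rcases h2 i with rfl | rfl | ⟨rfl, e | e⟩ | ⟨rfl, e | e⟩
        · rfl
        · exact hab.symm
        · rw [hπ, e]
        · rw [hπ, e, hab]
        · rw [← hπ, e]
        · rw [← hπ, e, hab]
      exact fun i => by rw [hall, hall i]
  rw [hval, hval]

theorem Adm.sq_or_cube (hd : ∀ i, d i ≠ 0) {k : ℕ} (h : Adm d k) :
    RatEq d (k * k) 1 ∨ RatEq d (k * k * k) 1 := by
  obtain ⟨c, π, h⟩ := h
  have hr := Adm.ratio hd h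
  have key : ∀ π : Equiv.Perm (Fin 3), (∀ i, π (π i) = i) ∨ (∀ i, π (π (π i)) = i) := by decide
  rcases key π with e | e
  · left; intro i j; rw [pow_mul, hr, hr, e, e, pow_one]
  · right; intro i j; rw [pow_mul, pow_mul, hr, hr, hr, e, e, pow_one]

theorem Adm.commute (hd : ∀ i, d i ≠ 0) (h3 : ¬ RatEq d 3 0) (hinj : Function.Injective d) {k l : ℕ}
    {c e : K} {π σ : Equiv.Perm (Fin 3)} (h : ∀ i, c * d i ^ k = d (π i)) (h' : ∀ i, e * d i ^ l = d (σ i)) :
    π * σ = σ * π := by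
  have h1 := Adm.ratio hd h
  have h2 := Adm.ratio hd h'
  have : (π * σ) * (σ * π)⁻¹ = 1 := by
    refine trans_cases hd h3 hinj fun i j => ?_
    obtain ⟨i, rfl⟩ := (σ * π).surjective i
    obtain ⟨j, rfl⟩ := (σ * π).surjective j
    have key : ∀ m, ((π * σ) * (σ * π)⁻¹) ((σ * π) m) = π (σ m) := fun m => by
      rw [← Equiv.Perm.mul_apply, inv_mul_cancel_right, Equiv.Perm.mul_apply]
    rw [key, key, Equiv.Perm.mul_apply, Equiv.Perm.mul_apply,
      ← h1, ← h2, ← h2 (π i) (π j), ← h1, ← pow_mul, ← pow_mul, mul_comm]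
  rwa [mul_inv_eq_one] at this

theorem Adm.second (hd : ∀ i, d i ≠ 0) (h3 : ¬ RatEq d 3 0) {k l : ℕ} (hk : Adm d k) (hl : Adm d l)
    (hk2 : RatEq d (k * k) 1) (hk1 : ¬ RatEq d k 1) : RatEq d l 1 ∨ RatEq d l k := by
  have hinj : Function.Injective d := by
    by_contra h
    exact hk1 (ratEq_one_of_not_injective hd hk h)
  obtain ⟨c, π, h⟩ := hk
  obtain ⟨e, σ, h'⟩ := hl
  have h1 := Adm.ratio hd h
  have h2 := Adm.ratio hd h'
  have hcomm := Adm.commute hd h3 hinj h h'
  have hπ2 : π * π = 1 := trans_cases hd h3 hinj fun i j => by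
    rw [Equiv.Perm.mul_apply, Equiv.Perm.mul_apply, ← h1, ← h1, ← pow_mul, hk2, pow_one]
  have hπ1 : π ≠ 1 := fun e => hk1 fun i j => by rw [h1, e, pow_one]; rfl
  have key : ∀ π σ : Equiv.Perm (Fin 3), π * σ = σ * π ∧ π * π = 1 ∧ π ≠ 1 → σ = 1 ∨ σ = π := by decide
  rcases key π σ ⟨hcomm, hπ2, hπ1⟩ with rfl | rfl
  · left; intro i j; rw [h2, pow_one]; rfl
  · right; intro i j; rw [h2, h1]

theorem Adm.cube (hd : ∀ i, d i ≠ 0) (h3 : ¬ RatEq d 3 0) {k l : ℕ} (hk : Adm d k) (hl : Adm d l)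
    (hk3 : RatEq d (k * k * k) 1) (hk1 : ¬ RatEq d k 1) : RatEq d (l * l * l) 1 := by
  have hinj : Function.Injective d := by
    by_contra h
    exact hk1 (ratEq_one_of_not_injective hd hk h)
  obtain ⟨c, π, h⟩ := hk
  obtain ⟨e, σ, h'⟩ := hl
  have h1 := Adm.ratio hd h
  have h2 := Adm.ratio hd h'
  have hcomm := Adm.commute hd h3 hinj h h'
  have hπ3 : π * π * π = 1 := trans_cases hd h3 hinj fun i j => by
    simp only [Equiv.Perm.mul_apply]
    rw [← h1, ← h1, ← h1, ← pow_mul, ← pow_mul, ← mul_assoc, hk3, pow_one]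
  have hπ1 : π ≠ 1 := fun e => hk1 fun i j => by rw [h1, e, pow_one]; rfl
  have key : ∀ π σ : Equiv.Perm (Fin 3), π * σ = σ * π → π * π * π = 1 → π ≠ 1 → σ * σ * σ = 1 := by decide
  have hσ := key π σ hcomm hπ3 hπ1
  intro i j
  rw [pow_mul, pow_mul, h2, h2, h2, pow_one]
  exact congrArg₂ (fun a b => d a / d b) (Equiv.congr_fun hσ i) (Equiv.congr_fun hσ j)

end eigen

/-! ### Back to the group -/

variable [Finite F]

/-- A diagonal form over the closure of a lift. -/
structure Eig (x : PG F) where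
  /-- The lift. -/
  g : GL (Fin 3) F
  mk_g : (QuotientGroup.mk g : PG F) = x
  /-- The eigenvectors. -/
  P : GL (Fin 3) (AlgebraicClosure F)
  /-- The eigenvalues. -/
  d : Fin 3 → AlgebraicClosure F
  eq : (g : Matrix (Fin 3) (Fin 3) F).map (algebraMap F (AlgebraicClosure F)) * (P : Matrix (Fin 3) (Fin 3) _) =
    (P : Matrix (Fin 3) (Fin 3) _) * diagonal d
  d_ne : ∀ i, d i ≠ 0

theorem card_sub_one_ne_zero : ((Nat.card F - 1 : ℕ) : F) ≠ 0 := by
  haveI := Fintype.ofFinite F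
  rw [Nat.card_eq_fintype_card, Nat.cast_sub Fintype.card_pos, FiniteField.cast_card_eq_zero, zero_sub, Nat.cast_one]
  exact neg_ne_zero.2 one_ne_zero

omit [Finite F] in
theorem scalar_of_mem {g : GL (Fin 3) F} (hg : g ∈ scalars (Fin 3) F) :
    ∃ c : F, c ≠ 0 ∧ (g : Matrix (Fin 3) (Fin 3) F) = c • 1 := by
  obtain ⟨c, hc⟩ := (mem_scalars_iff g).1 hg
  exact ⟨c, c.ne_zero, hc⟩

theorem exists_eig {x : PG F} (hx : (orderOf x : F) ≠ 0) : Nonempty (Eig x) := by
  obtain ⟨g, rfl⟩ := QuotientGroup.mk_surjective x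
  set n := orderOf (QuotientGroup.mk g : PG F) with hn
  have hgn : g ^ n ∈ scalars (Fin 3) F := by
    rw [← QuotientGroup.eq_one_iff, QuotientGroup.mk_pow, hn, pow_orderOf_eq_one]
  obtain ⟨c, hc0, hc⟩ := scalar_of_mem hgn
  have hpow : (g : Matrix (Fin 3) (Fin 3) F) ^ (n * (Nat.card F - 1)) = 1 := by
    rw [pow_mul, ← Units.val_pow_eq_pow_val, hc, smul_pow, one_pow]
    haveI := Fintype.ofFinite F
    rw [Nat.card_eq_fintype_card, FiniteField.pow_card_sub_one_eq_one c hc0, one_smul]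
  let ι := algebraMap F (AlgebraicClosure F)
  obtain ⟨P, d, hPd⟩ := Cfsg.Lib.Classical.SLThree.diag_of_order ((g : Matrix (Fin 3) (Fin 3) F).map ι)
    (n := n * (Nat.card F - 1))
    (by rw [← map_natCast ι, map_ne_zero, Nat.cast_mul]; exact mul_ne_zero hx card_sub_one_ne_zero)
    (by rw [← RingHom.mapMatrix_apply, ← map_pow, hpow, map_one])
  refine ⟨⟨g, rfl, P, d, hPd, fun i e => ?_⟩⟩
  have hdet := congrArg Matrix.det hPd
  rw [Matrix.det_mul, Matrix.det_mul, Matrix.det_diagonal, Finset.prod_eq_zero (Finset.mem_univ i) e, mul_zero] at hdet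
  have h1 : ((g : Matrix (Fin 3) (Fin 3) F).map ι).det ≠ 0 := by
    rw [← RingHom.mapMatrix_apply, ← RingHom.map_det, map_ne_zero]
    exact (Matrix.isUnits_det_units g).ne_zero
  exact mul_ne_zero h1 (Matrix.isUnits_det_units P).ne_zero hdet

variable {x : PG F} (E : Eig x)

theorem Eig.pow_eq (k : ℕ) :
    ((E.g ^ k : GL (Fin 3) F) : Matrix (Fin 3) (Fin 3) F).map (algebraMap F (AlgebraicClosure F)) *
        (E.P : Matrix (Fin 3) (Fin 3) _) = (E.P : Matrix (Fin 3) (Fin 3) _) * diagonal (fun i => E.d i ^ k) := by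
  induction k with
  | zero => simp
  | succ k ih =>
    rw [pow_succ, Units.val_mul, Matrix.map_mul, mul_assoc, E.eq, ← mul_assoc, ih, mul_assoc, diagonal_mul_diagonal]
    simp [pow_succ]

theorem Eig.pow_eq_iff (k l : ℕ) : x ^ k = x ^ l ↔ RatEq E.d k l := by
  have hd := E.d_ne
  have hmk : x ^ k = x ^ l ↔ (E.g ^ l)⁻¹ * E.g ^ k ∈ scalars (Fin 3) F := by
    rw [← QuotientGroup.eq, QuotientGroup.mk_pow, QuotientGroup.mk_pow, E.mk_g, eq_comm]
  set ι := algebraMap F (AlgebraicClosure F)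
  rw [hmk]
  constructor
  · intro h
    obtain ⟨c, -, hc⟩ := scalar_of_mem h
    have h1 : ((E.g ^ k : GL (Fin 3) F) : Matrix (Fin 3) (Fin 3) F) = c • ((E.g ^ l : GL (Fin 3) F) : Matrix _ _ F) := by
      rw [show E.g ^ k = E.g ^ l * ((E.g ^ l)⁻¹ * E.g ^ k) from (mul_inv_cancel_left _ _).symm, Units.val_mul, hc,
        Matrix.mul_smul, Matrix.mul_one]
    have h2 := E.pow_eq k
    rw [h1, Matrix.map_smul' _ _ _ (map_mul ι), Matrix.smul_mul, E.pow_eq l, ← Matrix.mul_smul] at h2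
    have h3 : ∀ i, E.d i ^ k = ι c * E.d i ^ l := fun i => by
      have := congrFun (congrFun ((Units.isUnit E.P).mul_left_cancel h2) i) i
      simpa [eq_comm] using this
    intro i j
    have hc' : ι c ≠ 0 := fun e => pow_ne_zero k (hd i) (by rw [h3, e, zero_mul])
    rw [div_pow, div_pow, h3, h3, mul_div_mul_left _ _ hc']
  · intro h
    set s := E.d 0 ^ k / E.d 0 ^ l with hs
    have h3 : ∀ i, E.d i ^ k = s * E.d i ^ l := fun i => by
      have h1 := h i 0
      rw [div_pow, div_pow, div_eq_div_iff (pow_ne_zero _ (hd 0)) (pow_ne_zero _ (hd 0))] at h1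
      rw [hs, div_mul_eq_mul_div, eq_div_iff (pow_ne_zero _ (hd 0)), h1, mul_comm]
    have h4 : ((E.g ^ k : GL (Fin 3) F) : Matrix (Fin 3) (Fin 3) F).map ι =
        s • ((E.g ^ l : GL (Fin 3) F) : Matrix (Fin 3) (Fin 3) F).map ι := by
      refine (Units.isUnit E.P).mul_right_cancel ?_
      rw [E.pow_eq k, Matrix.smul_mul, E.pow_eq l, ← Matrix.mul_smul]
      congr 1
      ext i j
      rcases eq_or_ne i j with rfl | hne
      · simp [h3]
      · simp [hne]
    set N := ((((E.g ^ l)⁻¹ : GL (Fin 3) F)) : Matrix (Fin 3) (Fin 3) F) * ((E.g ^ k : GL (Fin 3) F) : Matrix _ _ F)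
      with hN
    have h5 : N.map ι = s • 1 := by
      rw [hN, Matrix.map_mul, h4, Matrix.mul_smul, ← Matrix.map_mul, Units.inv_mul, Matrix.map_one ι (map_zero ι) (map_one ι)]
    have h6 : N = N 0 0 • 1 := by
      ext i j
      apply ι.injective
      have e0 := congrFun (congrFun h5 0) 0
      have e := congrFun (congrFun h5 i) j
      simp [Matrix.map_apply] at e0 e
      rcases eq_or_ne i j with rfl | hne
      · simp [e, e0]
      · simp [e, hne]
    have hN0 : N 0 0 ≠ 0 := by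
      intro e
      rw [e, zero_smul] at h6
      have : N.det = 0 := by rw [h6, Matrix.det_zero]
      rw [hN, ← Units.val_mul] at this
      exact (Matrix.isUnits_det_units _).ne_zero this
    exact (mem_scalars_iff _).2 ⟨Units.mk0 _ hN0, by rw [Units.val_mul, Units.val_mk0]; exact h6⟩

theorem Eig.adm {k : ℕ} (h : Act x k) : Adm E.d k := by
  set ι := algebraMap F (AlgebraicClosure F)
  have hPd := E.eq
  rcases h with ⟨y, hy⟩ | rfl
  · obtain ⟨m, rfl⟩ := QuotientGroup.mk_surjective y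
    have hmem : (E.g ^ k)⁻¹ * (m * E.g * m⁻¹) ∈ scalars (Fin 3) F := by
      rw [← QuotientGroup.eq, QuotientGroup.mk_pow, QuotientGroup.mk_mul, QuotientGroup.mk_mul, QuotientGroup.mk_inv,
        E.mk_g, hy]
    obtain ⟨c, -, hc⟩ := scalar_of_mem hmem
    have h1 : m * E.g = E.g ^ k * ((E.g ^ k)⁻¹ * (m * E.g * m⁻¹)) * m := by group
    set A := ((E.P⁻¹ : GL (Fin 3) (AlgebraicClosure F)) : Matrix (Fin 3) (Fin 3) _) *
      (m : Matrix (Fin 3) (Fin 3) F).map ι * (E.P : Matrix (Fin 3) (Fin 3) _) with hA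
    have h2 : A * diagonal E.d = diagonal (fun i => ι c * E.d i ^ k) * A := by
      have e : (m : Matrix (Fin 3) (Fin 3) F) * (E.g : Matrix _ _ F) =
          c • (((E.g ^ k : GL (Fin 3) F) : Matrix _ _ F) * (m : Matrix _ _ F)) := by
        rw [← Units.val_mul, h1, Units.val_mul, Units.val_mul, hc, Matrix.mul_smul, Matrix.mul_one, Matrix.smul_mul]
      have e' := congrArg (fun M : Matrix (Fin 3) (Fin 3) F => M.map ι) e
      simp only [Matrix.map_mul, Matrix.map_smul' _ _ _ (map_mul ι)] at e'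
      have e3 : ((E.g ^ k : GL (Fin 3) F) : Matrix (Fin 3) (Fin 3) F).map ι =
          (E.P : Matrix (Fin 3) (Fin 3) _) * diagonal (fun i => E.d i ^ k) *
            ((E.P⁻¹ : GL (Fin 3) (AlgebraicClosure F)) : Matrix (Fin 3) (Fin 3) _) := by
        rw [← E.pow_eq k, Units.mul_inv_cancel_right]
      have ediag : diagonal (fun i => ι c * E.d i ^ k) = ι c • diagonal (fun i => E.d i ^ k) := by
        rw [← diagonal_smul]; rfl
      rw [hA, ediag, mul_assoc, ← hPd, ← mul_assoc, mul_assoc _ _ ((E.g : Matrix (Fin 3) (Fin 3) F).map (algebraMap F (AlgebraicClosure F))), e', e3]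
      simp only [Matrix.mul_smul, Matrix.smul_mul, mul_assoc, Units.inv_mul_cancel_left]
    have hA0 : A.transpose.det ≠ 0 := by
      rw [det_transpose, hA, det_mul, det_mul, ← RingHom.mapMatrix_apply, ← RingHom.map_det]
      exact mul_ne_zero (mul_ne_zero (Matrix.isUnits_det_units _).ne_zero
        ((map_ne_zero ι).2 (Matrix.isUnits_det_units m).ne_zero)) (Matrix.isUnits_det_units _).ne_zero
    obtain ⟨π, hπ⟩ := exists_perm hA0
    refine ⟨ι c, π, fun i => ?_⟩
    have h3 := congrFun (congrFun h2 i) (π i)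
    rw [mul_diagonal, diagonal_mul] at h3
    exact (mul_right_cancel₀ (hπ i) (by rw [Matrix.transpose_apply]; linear_combination h3)).symm
  · haveI := Fintype.ofFinite F
    obtain ⟨p, hp⟩ := CharP.exists F
    haveI := hp
    obtain ⟨n, hpp, hn⟩ := FiniteField.card F p
    haveI : Fact p.Prime := ⟨hpp⟩
    haveI : CharP (AlgebraicClosure F) p := charP_of_injective_algebraMap ι.injective p
    let φ : AlgebraicClosure F →+* AlgebraicClosure F := iterateFrobenius (AlgebraicClosure F) p n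
    have hφ : ∀ z, φ z = z ^ Nat.card F := fun z => by
      rw [iterateFrobenius_def, Nat.card_eq_fintype_card, hn]
    have hG : ((E.g : Matrix (Fin 3) (Fin 3) F).map ι).map φ = (E.g : Matrix (Fin 3) (Fin 3) F).map ι := by
      ext i j
      simp only [Matrix.map_apply, hφ, ← map_pow]
      rw [Nat.card_eq_fintype_card, FiniteField.pow_card]
    set A := ((E.P⁻¹ : GL (Fin 3) (AlgebraicClosure F)) : Matrix (Fin 3) (Fin 3) _) *
      (E.P : Matrix (Fin 3) (Fin 3) _).map φ with hA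
    have h2 : diagonal E.d * A = A * diagonal (fun i => E.d i ^ Nat.card F) := by
      have e := congrArg (fun M : Matrix (Fin 3) (Fin 3) (AlgebraicClosure F) => M.map φ) hPd
      simp only [Matrix.map_mul, hG, diagonal_map (map_zero φ)] at e
      have e1 : diagonal E.d =
          ((E.P⁻¹ : GL (Fin 3) (AlgebraicClosure F)) : Matrix (Fin 3) (Fin 3) _) *
            ((E.g : Matrix _ _ F).map ι * (E.P : Matrix (Fin 3) (Fin 3) _)) := by
        rw [hPd, Units.inv_mul_cancel_left]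
      rw [hG] at e
      rw [hA, e1, mul_assoc, mul_assoc, Units.mul_inv_cancel_left, e, ← mul_assoc]
      congr 1
      exact congrArg diagonal (funext fun i => hφ _)
    have hA0 : A.det ≠ 0 := by
      rw [hA, det_mul, ← RingHom.mapMatrix_apply, ← RingHom.map_det]
      exact mul_ne_zero (Matrix.isUnits_det_units _).ne_zero ((map_ne_zero φ).2 (Matrix.isUnits_det_units E.P).ne_zero)
    obtain ⟨π, hπ⟩ := exists_perm hA0
    refine ⟨1, π, fun i => ?_⟩
    have h3 := congrFun (congrFun h2 (π i)) i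
    rw [mul_diagonal, diagonal_mul] at h3
    exact mul_right_cancel₀ (hπ i) (by linear_combination -h3)

omit E

/-- A normalising element acts on a semisimple cyclic subgroup with order at most three. -/
theorem sq_or_cube (hx : (orderOf x : F) ≠ 0) {k : ℕ} (h : Act x k) : x ^ (k * k) = x ∨ x ^ (k * k * k) = x := by
  obtain ⟨E⟩ := exists_eig hx
  rcases (E.adm h).sq_or_cube E.d_ne with h1 | h1
  · exact Or.inl (((E.pow_eq_iff _ 1).2 h1).trans (pow_one x))
  · exact Or.inr (((E.pow_eq_iff _ 1).2 h1).trans (pow_one x))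

/-- With an exponent of order two every other exponent is one of two. -/
theorem second (hx : (orderOf x : F) ≠ 0) (h3 : x ^ 3 ≠ 1) {k l : ℕ} (hk : Act x k) (hl : Act x l)
    (hk2 : x ^ (k * k) = x) (hk1 : x ^ k ≠ x) : x ^ l = x ∨ x ^ l = x ^ k := by
  obtain ⟨E⟩ := exists_eig hx
  rcases (E.adm hk).second E.d_ne (fun h => h3 (((E.pow_eq_iff 3 0).2 h).trans (pow_zero x))) (E.adm hl)
    ((E.pow_eq_iff _ 1).1 (hk2.trans (pow_one x).symm))
    (fun h => hk1 (((E.pow_eq_iff k 1).2 h).trans (pow_one x))) with h | h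
  · exact Or.inl (((E.pow_eq_iff l 1).2 h).trans (pow_one x))
  · exact Or.inr ((E.pow_eq_iff l k).2 h)

/-- With an exponent of order three every other exponent has order dividing three. -/
theorem cube (hx : (orderOf x : F) ≠ 0) (h3 : x ^ 3 ≠ 1) {k l : ℕ} (hk : Act x k) (hl : Act x l)
    (hk3 : x ^ (k * k * k) = x) (hk1 : x ^ k ≠ x) : x ^ (l * l * l) = x := by
  obtain ⟨E⟩ := exists_eig hx
  exact ((E.pow_eq_iff _ 1).2 ((E.adm hk).cube E.d_ne (fun h => h3 (((E.pow_eq_iff 3 0).2 h).trans (pow_zero x)))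
    (E.adm hl) ((E.pow_eq_iff _ 1).1 (hk3.trans (pow_one x).symm))
    (fun h => hk1 (((E.pow_eq_iff k 1).2 h).trans (pow_one x))))).trans (pow_one x)

end Cfsg.Lib.MitchellThree
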